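import Cfsg.Agent.Goldschmidt.S1.Lift
import Cfsg.Agent.Goldschmidt.Fusion

/-!
The local facts in the minimal configuration.
-/

set_option autoImplicit false
set_option linter.unusedSectionVars false
set_option linter.style.haveILetI false

namespace Cfsg.Lib.Goldschmidt

open Subgroup Cfsg.Lib.Components
open Cfsg.Lib.Walter (IsComp Triv Oc qm bar Qt)

universe u

variable {G : Type u} [Group G] [Finite G] {S : Sylow 2 G} {A : Subgroup G} {y : G}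

namespace Loc

variable (h : Loc S A y) {L : Subgroup G}
include h

theorem rot_lift (hL : IsComp y L) (hm : Mov (bar y A) (bar y L)) :
    ∃ r ∈ L, r ∈ normalizer (A : Set G) ∧ Odd (orderOf r) ∧
      (∀ x ∈ A, ∀ z ∈ A, x ∉ ZA A y L → z ∉ ZA A y L → ∃ k : ℕ, (r ^ k * x * (r ^ k)⁻¹)⁻¹ * z ∈ ZA A y L) ∧
      (∀ k : ℕ, ∀ x ∈ A, x ∉ ZA A y L → r ^ k * x * (r ^ k)⁻¹ = x → ∀ z ∈ A, r ^ k * z * (r ^ k)⁻¹ = z) ∧
      ∀ g ∈ L, g ∈ normalizer (A : Set G) →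
        (∃ k : ℕ, ∀ x ∈ A, (g * x * g⁻¹)⁻¹ * (r ^ k * x * (r ^ k)⁻¹) ∈ ZA A y L) ∨
          ((ZA A y L).relIndex A = 8 ∧ ∀ x ∈ A, (g ^ 3 * x * (g ^ 3)⁻¹)⁻¹ * x ∈ ZA A y L) := by
  classical
  haveI : Fact (Nat.Prime 2) := ⟨Nat.prime_two⟩
  obtain ⟨r', hr'L, hr'N, hr'o, htr, hsemi, himg⟩ := h.coreFree.rot_in (h.comp hL) hm
  obtain ⟨r₀, hr₀, hr₀N, hr₀e⟩ := h.lift_norm hL hr'L hr'N
  obtain ⟨a, b, hb, hab⟩ := Nat.exists_eq_two_pow_mul_odd (orderOf_pos r₀).ne'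
  obtain ⟨k₀, hk₀⟩ := exists_pow_eq_self_of_coprime (x := r') (n := 2 ^ a)
    ((Nat.coprime_two_left.2 hr'o).pow_left a)
  set r := (r₀ ^ 2 ^ a) ^ k₀
  have hrL : r ∈ L := pow_mem (pow_mem hr₀ _) _
  have hrN : r ∈ normalizer (A : Set G) := pow_mem (pow_mem hr₀N _) _
  have hre : qm y ⟨r, hL.1 hrL⟩ = r' := by
    rw [show (⟨r, hL.1 hrL⟩ : ↥(centralizer ({y} : Set G))) =
      ((⟨r₀, hL.1 hr₀⟩ : ↥(centralizer ({y} : Set G))) ^ 2 ^ a) ^ k₀ from Subtype.ext rfl, map_pow, map_pow,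
      hr₀e, hk₀]
  have hro : Odd (orderOf r) := by
    refine hb.of_dvd_nat (orderOf_dvd_of_pow_eq_one ?_)
    rw [← pow_mul, ← pow_mul, show 2 ^ a * (k₀ * b) = orderOf r₀ * k₀ by rw [hab]; ring, pow_mul,
      pow_orderOf_eq_one, one_pow]
  have hrk : ∀ k : ℕ, qm y ⟨r ^ k, hL.1 (pow_mem hrL k)⟩ = r' ^ k := fun k => by
    rw [show (⟨r ^ k, hL.1 (pow_mem hrL k)⟩ : ↥(centralizer ({y} : Set G))) =
      (⟨r, hL.1 hrL⟩ : ↥(centralizer ({y} : Set G))) ^ k from Subtype.ext rfl, map_pow, hre]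
  have himA : ∀ {x}, ∀ hx : x ∈ A, qm y ⟨x, h.cent hx⟩ ∈ bar y A := fun hx => h.mem_barA.2 ⟨_, hx, rfl⟩
  have hnot : ∀ {x}, ∀ hx : x ∈ A, x ∉ ZA A y L →
      qm y ⟨x, h.cent hx⟩ ∉ centralizer (bar y L : Set (Qt y)) := fun hx hn hc => hn ((h.za_iff hL hx).2 hc)
  refine ⟨r, hrL, hrN, hro, fun x hx z hz hxn hzn => ?_, fun k x hx hxn hfix => ?_, fun g hg hgN => ?_⟩
  · obtain ⟨k, hk⟩ := htr _ (himA hx) _ (himA hz) (hnot hx hxn) (hnot hz hzn)
    refine ⟨k, (h.za_iff hL (A.mul_mem (A.inv_mem ((mem_normalizer_iff.1 (pow_mem hrN k) x).1 hx)) hz)).2 ?_⟩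
    rw [← hrk k] at hk
    exact hk
  · intro z hz
    have hmem : ∀ {w}, ∀ hw : w ∈ A, r ^ k * w * (r ^ k)⁻¹ ∈ A := fun hw =>
      (mem_normalizer_iff.1 (pow_mem hrN k) _).1 hw
    refine h.inj (hmem hz) hz ?_
    have key := hsemi k _ (himA hx) (hnot hx hxn) ?_ _ (himA hz)
    · rw [← hrk k] at key
      exact key
    · rw [← hrk k]
      have e : qm y ⟨r ^ k, hL.1 (pow_mem hrL k)⟩ * qm y ⟨x, h.cent hx⟩ * (qm y ⟨r ^ k, hL.1 (pow_mem hrL k)⟩)⁻¹ =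
          qm y ⟨x, h.cent hx⟩ := by
        rw [← map_inv, ← map_mul, ← map_mul]
        exact congrArg _ (Subtype.ext hfix)
      rw [e, inv_mul_cancel]
      exact one_mem _
  · rcases himg _ (mem_map_of_mem _ (show (⟨g, hL.1 hg⟩ : ↥(centralizer ({y} : Set G))) ∈ L.subgroupOf _ from hg))
      (h.bar_norm hL hg hgN) with ⟨k, hk⟩ | ⟨h8, hk⟩
    · refine Or.inl ⟨k, fun x hx => (h.za_iff hL (A.mul_mem (A.inv_mem ((mem_normalizer_iff.1 hgN x).1 hx))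
        ((mem_normalizer_iff.1 (pow_mem hrN k) x).1 hx))).2 ?_⟩
      have := hk _ (himA hx)
      rw [← hrk k] at this
      exact this
    · refine Or.inr ⟨(h.relIndex_za hL).trans h8, fun x hx =>
        (h.za_iff hL (A.mul_mem (A.inv_mem ((mem_normalizer_iff.1 (pow_mem hgN 3) x).1 hx)) hx)).2 ?_⟩
      have := hk _ (himA hx)
      rw [← map_pow] at this
      exact this

theorem shear_lift (hL : IsComp y L) (hm : Mov (bar y A) (bar y L)) {g : G} (hg : g ∈ L)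
    (hgN : g ∈ normalizer (A : Set G)) (hmod : ∀ x ∈ A, g * x * g⁻¹ * x⁻¹ ∈ ZA A y L) :
    (∃ x ∈ A, x ∉ ZA A y L ∧ g * x = x * g) ∧ ((ZA A y L).relIndex A = 4 → ∀ x ∈ A, g * x = x * g) := by
  have hmem : ∀ {x}, ∀ hx : x ∈ A, g * x * g⁻¹ ∈ A := fun hx => (mem_normalizer_iff.1 hgN _).1 hx
  have hback : ∀ {x}, ∀ hx : x ∈ A,
      qm y ⟨g, hL.1 hg⟩ * qm y ⟨x, h.cent hx⟩ = qm y ⟨x, h.cent hx⟩ * qm y ⟨g, hL.1 hg⟩ → g * x = x * g := by
    intro x hx e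
    refine mul_inv_eq_iff_eq_mul.1 (h.inj (hmem hx) hx ?_)
    rw [← mul_inv_eq_iff_eq_mul] at e
    exact e
  obtain ⟨⟨q, hq, hqc, hqe⟩, h4⟩ := h.coreFree.shear_in (h.comp hL) hm (g := qm y ⟨g, hL.1 hg⟩)
    (mem_map_of_mem _ (show (⟨g, hL.1 hg⟩ : ↥(centralizer ({y} : Set G))) ∈ L.subgroupOf _ from hg))
    (h.bar_norm hL hg hgN) fun q hq => by
      obtain ⟨x, hx, rfl⟩ := h.mem_barA.1 hq
      exact (h.za_iff hL (A.mul_mem (hmem hx) (A.inv_mem hx))).1 (hmod x hx)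
  obtain ⟨x, hx, rfl⟩ := h.mem_barA.1 hq
  exact ⟨⟨x, hx, fun hz => hqc ((h.za_iff hL hx).1 hz), hback hx hqe⟩,
    fun hi z hz => hback hz (h4 ((h.relIndex_za hL).symm.trans hi) _ (h.mem_barA.2 ⟨z, hz, rfl⟩))⟩

theorem not_triv_small (hL : IsComp y L) (hm : Mov (bar y A) (bar y L)) {b x : G} (hb : b ∈ A) (hx : x ∈ Oc b)
    (hxy : x ∈ centralizer ({y} : Set G)) (hnt : ¬ Triv y L x) :
    Small (↥(bar y L) ⧸ center ↥(bar y L)) :=
  h.coreFree.unbalanced (h.mem_barA.2 ⟨b, hb, rfl⟩) (h.comp hL) hm (h.core_image hb hx hxy)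
    fun hc => hnt ((h.triv_iff hL hxy).2 hc)

theorem generated_lift : centralizer ({y} : Set G) ≤
    (Oc y ⊔ ⨆ L : {L : Subgroup G // IsComp y L ∧ ¬ A ≤ ZA A y L}, (L : Subgroup G)) ⊔
      (normalizer (A : Set G) ⊓ centralizer ({y} : Set G)) := by
  haveI : Fact (Nat.Prime 2) := ⟨Nat.prime_two⟩
  set R := (Oc y ⊔ ⨆ L : {L : Subgroup G // IsComp y L ∧ ¬ A ≤ ZA A y L}, (L : Subgroup G)) ⊔
      (normalizer (A : Set G) ⊓ centralizer ({y} : Set G))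
  intro x hx
  set Y := R.subgroupOf (centralizer ({y} : Set G))
  have hker : (qm y).ker ≤ Y := fun z hz =>
    mem_subgroupOf.2 (mem_sup_left (mem_sup_left (Walter.mem_Oc.2 ⟨z.2, MonoidHom.mem_ker.1 hz⟩)))
  have htop : (⊤ : Subgroup (Qt y)) ≤ Y.map (qm y) := by
    refine h.coreFree.generated.trans (sup_le (iSup_le fun K => ?_) ?_)
    · obtain ⟨L, hL, hLK⟩ := h.exists_comp K.2.1
      rw [← hLK]
      refine map_mono fun z hz => mem_subgroupOf.2 (mem_sup_left (mem_sup_right ?_))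
      exact le_iSup (fun L : {L : Subgroup G // IsComp y L ∧ ¬ A ≤ ZA A y L} => (L : Subgroup G))
        ⟨L, hL, (h.mov_iff hL).1 (hLK ▸ K.2.2)⟩ hz
    · intro q hq
      obtain ⟨n, hn, rfl⟩ := (normalizer_map_of_coprime_ker (f := qm y) (QuotientGroup.mk'_surjective _)
        (Walter.odd_ker_qm y) (P := A.subgroupOf (centralizer ({y} : Set G)))
        ((S.2.to_le h.min.le).comap_of_injective _ (centralizer ({y} : Set G)).subtype_injective)).ge hq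
      exact mem_map_of_mem _ (mem_subgroupOf.2 (mem_sup_right (mem_inf.2
        ⟨ZStarApps.mem_normalizer_of_maps fun s hs =>
          (mem_normalizer_iff.1 hn ⟨s, h.cent hs⟩).1 hs, n.2⟩)))
  obtain ⟨z, hz, hzx⟩ := htop (mem_top (qm y ⟨x, hx⟩))
  have := mul_mem hz (hker (show z⁻¹ * ⟨x, hx⟩ ∈ (qm y).ker by
    rw [MonoidHom.mem_ker, map_mul, map_inv, hzx, inv_mul_cancel]))
  rw [mul_inv_cancel_left] at this
  exact this

theorem gen_lift (hL : IsComp y L) (hm : Mov (bar y A) (bar y L))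
    (hs : Small (↥(bar y L) ⧸ center ↥(bar y L))) :
    L ≤ Oc y ⊔ ⨆ v : {v : G // v ∈ A ∧ v ∉ ZA A y L}, L ⊓ centralizer ({(v : G)} : Set G) := by
  obtain ⟨P, D⟩ := h.coreFree.data (h.comp hL) hm
  have hgen := h.coreFree.small_gen_in (h.comp hL) hm D hs
  set R := Oc y ⊔ ⨆ v : {v : G // v ∈ A ∧ v ∉ ZA A y L}, L ⊓ centralizer ({(v : G)} : Set G)
  have hle : bar y L ≤ (R.subgroupOf (centralizer ({y} : Set G))).map (qm y) := by
    refine hgen.trans (iSup_le fun v q hq => ?_)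
    obtain ⟨s, hs', hse⟩ := h.mem_barA.1 v.2.1
    obtain ⟨⟨l, hlC⟩, hl, rfl⟩ := hq.1
    have hc := mem_centralizer_singleton_iff.1 hq.2
    rw [← hse] at hc
    obtain ⟨d, hd, e⟩ := h.exists_fixed hL hs' (show l ∈ L from hl) hc.symm
    refine ⟨⟨d, hL.1 hd.1⟩, mem_subgroupOf.2 (mem_sup_right ?_), e⟩
    refine le_iSup (fun v : {v : G // v ∈ A ∧ v ∉ ZA A y L} => L ⊓ centralizer ({(v : G)} : Set G))
      ⟨s, hs', fun hz => v.2.2.2 ?_⟩ hd
    rw [← hse]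
    exact (h.za_iff hL hs').1 hz
  intro l hl
  obtain ⟨z, hz, e⟩ := hle (mem_map_of_mem _ (show (⟨l, hL.1 hl⟩ : ↥(centralizer ({y} : Set G))) ∈ L.subgroupOf _ from hl))
  have hk : (z : G)⁻¹ * l ∈ R := by
    refine mem_sup_left (Walter.mem_Oc.2 ⟨mul_mem (inv_mem z.2) (hL.1 hl), ?_⟩)
    show qm y (z⁻¹ * ⟨l, hL.1 hl⟩) = 1
    rw [map_mul, map_inv, e, inv_mul_cancel]
  have := mul_mem (show (z : G) ∈ R from hz) hk
  rwa [mul_inv_cancel_left] at this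

theorem inner_lift (hL : IsComp y L) (hm : Mov (bar y A) (bar y L))
    (hs : Small (↥(bar y L) ⧸ center ↥(bar y L))) {g : G} (hgy : g ∈ centralizer ({y} : Set G))
    (hgA : g ∈ centralizer (A : Set G)) (hgn : g ∈ normalizer (L : Set G)) (h2 : ∃ k : ℕ, orderOf g = 2 ^ k) :
    ∃ v ∈ A, v⁻¹ * g ∈ PTerminal.Cent 2 (centralizer ({y} : Set G)) L := by
  haveI : Fact (Nat.Prime 2) := ⟨Nat.prime_two⟩
  obtain ⟨P, D⟩ := h.coreFree.data (h.comp hL) hm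
  have hn : qm y ⟨g, hgy⟩ ∈ normalizer (bar y L : Set (Qt y)) := by
    refine ZStarApps.mem_normalizer_of_maps ?_
    rintro _ ⟨l, hl, rfl⟩
    exact ⟨⟨g, hgy⟩ * l * ⟨g, hgy⟩⁻¹, (mem_normalizer_iff.1 hgn _).1 hl, by rw [map_mul, map_mul, map_inv]⟩
  have hc : qm y ⟨g, hgy⟩ ∈ centralizer (bar y A : Set (Qt y)) := by
    refine mem_centralizer_iff.2 ?_
    rintro _ ⟨s, hs', rfl⟩
    rw [← map_mul, ← map_mul]
    exact congrArg _ (Subtype.ext (mem_centralizer_iff.1 hgA _ hs'))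
  have h2' : ∃ k : ℕ, orderOf (qm y ⟨g, hgy⟩) = 2 ^ k := by
    obtain ⟨k, hk⟩ := h2
    obtain ⟨j, -, hj⟩ := (Nat.dvd_prime_pow Nat.prime_two).1
      (show orderOf (qm y ⟨g, hgy⟩) ∣ 2 ^ k by
        rw [← hk, ← Subgroup.orderOf_mk g hgy]; exact orderOf_map_dvd _ _)
    exact ⟨j, hj⟩
  obtain ⟨q, hq, hqc⟩ := h.coreFree.small_inner (h.comp hL) hm D hs hn hc h2'
  obtain ⟨v, hv, rfl⟩ := h.mem_barA.1 hq
  refine ⟨v, hv, (h.cent_iff hL (mul_mem (inv_mem (h.cent hv)) hgy)).2 ?_⟩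
  exact hqc

end Loc

theorem Moved.loc {a : G} {L : Subgroup G} (hm : Moved A a L) (h : Min S A) :
    Loc S A a ∧ Mov (bar a A) (bar a L) :=
  ⟨h.loc hm.1 hm.2.1, ((h.loc hm.1 hm.2.1).mov_iff hm.2.2.1).2 hm.2.2.2⟩

/-- An unbalanced component has small type. -/
theorem Moved.small {a : G} {L : Subgroup G} (hm : Moved A a L) (h : Min S A) (hu : Unbal A a L) :
    Small (↥(bar a L) ⧸ center ↥(bar a L)) := by
  obtain ⟨b, hb, -, x, hx, hxa, hnt⟩ := hu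
  obtain ⟨hl, hmv⟩ := hm.loc h
  exact hl.not_triv_small hm.2.2.1 hmv hb hx hxa hnt

/-- The local facts. -/
theorem localSpec : LocalSpec G := by
  intro S A h
  exact
    { le_norm := fun ha h1 hL => (h.loc ha h1).le_norm hL
      sup := fun {a L} hm => by
        obtain ⟨hl, hmv⟩ := hm.loc h
        refine le_antisymm (sup_le inf_le_left inf_le_left) fun x hx => ?_
        obtain ⟨v, hv, hvx⟩ := hl.exists_part hm.2.2.1 hmv hx
        have := mul_mem (mem_sup_right (S := ZA A a L) hv) (mem_sup_left (T := A ⊓ L) hvx)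
        rwa [mul_inv_cancel_left] at this
      index := fun {a L} hm => by
        obtain ⟨hl, hmv⟩ := hm.loc h
        rw [hl.relIndex_za hm.2.2.1]
        exact hl.coreFree.four_le_index (hl.comp hm.2.2.1) hmv
      other := fun {a L L'} hm hm' hne x hx => by
        obtain ⟨hl, -⟩ := hm.loc h
        refine (hl.za_iff hm.2.2.1 hx.1).2 ?_
        exact commutator_eq_bot_iff_le_centralizer.1 (comp_commute (hl.comp hm'.2.2.1) (hl.comp hm.2.2.1)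
          fun e => hne (hl.bar_inj hm.2.2.1 hm'.2.2.1 e.symm))
          (mem_map_of_mem _ (show (⟨x, hl.cent hx.1⟩ : ↥(centralizer ({a} : Set G))) ∈ L'.subgroupOf _ from hx.2))
      rot := fun {a L} hm => (hm.loc h).1.rot_lift hm.2.2.1 (hm.loc h).2
      shear := fun {a L g} hm hg hgN hmod => (hm.loc h).1.shear_lift hm.2.2.1 (hm.loc h).2 hg hgN hmod
      lift := fun {a L b} hm hb hb1 => (hm.loc h).1.lift_comp hm.1 hm.2.2.1 hm.2.2.2 hb hb1
      generated := fun {a} ha h1 => by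
        refine (h.loc ha h1).generated_lift.trans (sup_le_sup_right (sup_le_sup_left (iSup_le fun L => ?_) _) _)
        exact le_iSup (fun L : {L : Subgroup G // Moved A a L} => (L : Subgroup G)) ⟨L, ha, h1, L.2.1, L.2.2⟩
      bal := fun {a L b x} hm hb hb1 hx hxa => by
        haveI : Fact (Nat.Prime 2) := ⟨Nat.prime_two⟩
        obtain ⟨hl, -⟩ := hm.loc h
        exact (hl.triv_iff hm.2.2.1 hxa).2 (hl.coreFree.core_unmoved (hl.mem_barA.2 ⟨b, hb.1, rfl⟩)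
          (hl.comp hm.2.2.1) ((hl.za_iff hm.2.2.1 hb.1).1 hb) (hl.core_image hb.1 hx hxa))
      unbal_four := fun {a L} hm hu => by
        obtain ⟨hl, hmv⟩ := hm.loc h
        obtain ⟨P, D⟩ := hl.coreFree.data (hl.comp hm.2.2.1) hmv
        rw [hl.relIndex_za hm.2.2.1]
        exact (hl.coreFree.small_elem (hl.comp hm.2.2.1) hmv D (hm.small h hu)).2.1
      unbal_gen := fun {a L} hm hu => (hm.loc h).1.gen_lift hm.2.2.1 (hm.loc h).2 (hm.small h hu)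
      unbal_inner := fun {a L g} hm hu hgA hgn h2 =>
        (hm.loc h).1.inner_lift hm.2.2.1 (hm.loc h).2 (hm.small h hu)
          (mem_centralizer_singleton_iff.2 (mem_centralizer_iff.1 hgA a hm.1).symm) hgA hgn h2
      faith := fun {a b x} ha ha1 hb _ hx hxa hall => by
        have hl := h.loc ha ha1
        refine Walter.mem_Oc.2 ⟨hxa, hl.coreFree.faith (hl.mem_barA.2 ⟨b, hb, rfl⟩) (hl.core_image hb hx hxa)
          fun K hK hmK => ?_⟩
        obtain ⟨L, hL, rfl⟩ := hl.exists_comp hK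
        exact (hl.triv_iff hL hxa).1 (hall L ⟨ha, ha1, hL, (hl.mov_iff hL).1 hmK⟩) }

end Cfsg.Lib.Goldschmidt
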