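import Cfsg.Agent.Goldschmidt.Setting
import Cfsg.Agent.InvolCalc.Classes

/-!
Strongly closed subgroups in subgroups and quotients.
-/

set_option autoImplicit false
set_option linter.unusedSectionVars false
set_option linter.style.haveILetI false

namespace Cfsg.Lib.Goldschmidt

open Subgroup

universe u

variable {G : Type u} [Group G] [Finite G]

theorem exists_sylow_above {A H : Subgroup G} {S : Sylow 2 G} (hAS : A ≤ (S : Subgroup G)) (hAH : A ≤ H) :
    ∃ T : Sylow 2 ↥H, A.subgroupOf H ≤ T :=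
  ((S.2.to_le hAS).of_equiv (subgroupOfEquivOfLe hAH).symm).exists_le_sylow

theorem closed_subgroup {A H : Subgroup G} {S : Sylow 2 G} (hc : Cfsg.IsStronglyClosed A (S : Subgroup G))
    (hAH : A ≤ H) (T : Sylow 2 ↥H) (hT : A.subgroupOf H ≤ T) :
    Cfsg.IsStronglyClosed (A.subgroupOf H) (T : Subgroup ↥H) := by
  haveI : Fact (Nat.Prime 2) := ⟨Nat.prime_two⟩
  obtain ⟨Q, hQ⟩ := (T.2.map H.subtype).exists_le_sylow
  have hQc := InvolCalc.stronglyClosed_sylow S Q
    (fun a ha => hQ ⟨⟨a, hAH ha⟩, hT ha, rfl⟩) hc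
  exact ⟨hT, fun x hx g hg => hQc.2 x hx g (hQ ⟨_, hg, rfl⟩)⟩

end Cfsg.Lib.Goldschmidt
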