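import Cfsg.Agent.Goldschmidt.S1.Types
import Cfsg.Agent.Goldschmidt.Fusion
import Cfsg.Agent.Goldschmidt.S1.Closed
import Cfsg.Agent.Components.Balance
import Cfsg.Agent.BenderSE.Ring2.Solvable
import Cfsg.Agent.S1251
import Cfsg.Agent.Transfer.Control

/-!
A group without odd core with a strongly closed elementary abelian 2-subgroup `A`: `A` normalises every component
and splits along it.
-/

set_option autoImplicit false
set_option linter.unusedSectionVars false
set_option linter.style.haveILetI false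

namespace Cfsg.Lib.Goldschmidt

open Subgroup Cfsg.Lib.Components
open scoped commutatorElement

universe u

variable {X : Type u} [Group X] [Finite X]

/-- The core-free layer. -/
structure CoreFree (T : Sylow 2 X) (A : Subgroup X) : Prop where
  core : Cfsg.pPrimeCore 2 X = ⊥
  closed : Cfsg.IsStronglyClosed A (T : Subgroup X)
  sq : ∀ x ∈ A, x * x = 1
  below : Below.{u} (Nat.card X + 1)

theorem qs_perfect {L : Subgroup X} (hL : Cfsg.IsComponent L) : _root_.commutator ↥L = ⊤ := by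
  rw [_root_.commutator_def]; exact qs_commutator_top hL.2

/-- An element centralising a perfect group modulo its centre centralises it. -/
theorem mem_centralizer_of_mod_center {L : Subgroup X} (hL : Cfsg.IsComponent L) {a : X}
    (h : ∀ l ∈ L, a * l * a⁻¹ * l⁻¹ ∈ L ⊓ centralizer (L : Set X)) : a ∈ centralizer (L : Set X) := by
  let ψ : ↥L →* ↥(center ↥L) := MonoidHom.mk' (fun l => ⟨⟨a * l * a⁻¹ * (l : X)⁻¹, (h l l.2).1⟩,
    mem_center_iff.2 fun m => Subtype.ext (mem_centralizer_iff.1 (h l l.2).2 m m.2)⟩) fun l m =>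
      Subtype.ext (Subtype.ext (by
        show a * (l * m) * a⁻¹ * ((l : X) * m)⁻¹ = a * l * a⁻¹ * (l : X)⁻¹ * (a * m * a⁻¹ * (m : X)⁻¹)
        have hm := mem_centralizer_iff.1 (h m m.2).2 (l : X) l.2
        calc a * (l * m) * a⁻¹ * ((l : X) * m)⁻¹
            = a * l * a⁻¹ * (a * m * a⁻¹ * (m : X)⁻¹) * (l : X)⁻¹ := by group
          _ = a * l * a⁻¹ * ((l : X)⁻¹ * (l * (a * m * a⁻¹ * (m : X)⁻¹))) * (l : X)⁻¹ := by group
          _ = a * l * a⁻¹ * ((l : X)⁻¹ * (a * m * a⁻¹ * (m : X)⁻¹ * l)) * (l : X)⁻¹ := by rw [hm]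
          _ = _ := by group))
  refine mem_centralizer_iff.2 fun l hl => ?_
  letI : CommGroup ↥(center ↥L) := { (inferInstance : Group ↥(center ↥L)) with
    mul_comm := fun x y => Subtype.ext (mem_center_iff.1 y.2 x) }
  have h1 : ψ ⟨l, hl⟩ = 1 := MonoidHom.mem_ker.1
    (Abelianization.commutator_subset_ker ψ (qs_perfect hL ▸ mem_top _))
  have h2 : a * l * a⁻¹ * l⁻¹ = 1 := congrArg Subtype.val (congrArg Subtype.val h1)
  exact (mul_inv_eq_iff_eq_mul.1 (mul_inv_eq_one.1 h2)).symm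

/-- `A` moves the component `L`. -/
def Mov (A L : Subgroup X) : Prop := ¬ A ≤ centralizer (L : Set X)

variable {T : Sylow 2 X} {A : Subgroup X}

namespace CoreFree

variable (h : CoreFree T A)
include h

theorem comm {x y : X} (hx : x ∈ A) (hy : y ∈ A) : x * y = y * x := by
  calc x * y = (x * y)⁻¹ := (inv_eq_of_mul_eq_one_right (h.sq _ (mul_mem hx hy))).symm
    _ = y * x := by
      rw [mul_inv_rev, inv_eq_of_mul_eq_one_right (h.sq x hx), inv_eq_of_mul_eq_one_right (h.sq y hy)]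

theorem le : A ≤ (T : Subgroup X) := h.closed.1

theorem sylow_norm : (T : Subgroup X) ≤ normalizer (A : Set X) := sylow_le_normalizer h.closed

variable {L : Subgroup X} (hL : Cfsg.IsComponent L)
include hL

theorem sylow_comp : ∃ P : Sylow 2 ↥L, (P : Subgroup ↥L) = (T : Subgroup X).subgroupOf L := by
  haveI : Fact (Nat.Prime 2) := ⟨Nat.prime_two⟩
  haveI : (Cfsg.layer X).Normal := inferInstance
  refine ⟨(T.isPGroup'.comap_of_injective L.subtype L.subtype_injective).toSylow ?_, rfl⟩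
  set E := Cfsg.layer X
  haveI : (L.subgroupOf E).Normal := normal_subgroupOf_of_le_normalizer (comp_normal_in_layer hL)
  have h1 : ¬ 2 ∣ ((T : Subgroup X).subgroupOf E).index := by
    show ¬ 2 ∣ (T : Subgroup X).relIndex E
    rw [Cfsg.Lib.Transfer.relIndex_eq_relIndex_sup_of_normal _ E]
    exact fun h => T.not_dvd_index (h.trans (Dvd.intro _ (relIndex_mul_index le_sup_left)))
  have h2 : ((T : Subgroup X).subgroupOf E).relIndex (L.subgroupOf E) =
      (T : Subgroup X).relIndex L := relIndex_subgroupOf (comp_le_layer hL)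
  show ¬ 2 ∣ (T : Subgroup X).relIndex L
  rw [← h2, Cfsg.Lib.Transfer.relIndex_eq_relIndex_sup_of_normal _ (L.subgroupOf E)]
  exact fun h => h1 (h.trans (Dvd.intro _ (relIndex_mul_index le_sup_left)))

theorem center_two : IsPGroup 2 ↥(center ↥L) := by
  haveI : Fact (Nat.Prime 2) := ⟨Nat.prime_two⟩
  refine ((isPGroup_pCore 2 (G := X)).to_le (center_component_le_pCore h.core hL)).of_injective
    (MonoidHom.mk' (fun z => (⟨((z : ↥L) : X), (z : ↥L).2, mem_centralizer_iff.2 fun y hy =>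
      congrArg Subtype.val (mem_center_iff.1 z.2 ⟨y, hy⟩)⟩ : ↥(L ⊓ centralizer (L : Set X))))
        fun a b => Subtype.ext rfl) fun a b e => ?_
  exact Subtype.ext (Subtype.ext (congrArg (fun z : ↥(L ⊓ centralizer (L : Set X)) => (z : X)) e))

theorem center_le_sylow {z : X} (hz : z ∈ L) (hzc : z ∈ centralizer (L : Set X)) : z ∈ (T : Subgroup X) := by
  haveI : Fact (Nat.Prime 2) := ⟨Nat.prime_two⟩
  obtain ⟨P, hP⟩ := sylow_comp h hL
  have hz' : (⟨z, hz⟩ : L) ∈ center ↥L :=
    mem_center_iff.2 fun m => Subtype.ext (mem_centralizer_iff.1 hzc m m.2)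
  have := IsPGroup.le_sylow_of_normal (h.center_two hL) P hz'
  rw [hP] at this
  exact this

/-- A Sylow 2-subgroup of a component is not central. -/
theorem sylow_not_central (P : Sylow 2 ↥L) : ¬ (P : Subgroup ↥L) ≤ center ↥L := by
  haveI : Fact (Nat.Prime 2) := ⟨Nat.prime_two⟩
  intro hle
  refine qs_not_isSolvable hL.2 (Cfsg.Lib.BenderSE.Ring2.solvable_of_quot (center ↥L)
    (Group.isSolvable_of_comm fun x y => Subtype.ext (mem_center_iff.1 y.2 x))
    (Cfsg.Agent.PF.isSolvable_of_odd _ ?_))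
  rw [← index_eq_card]
  exact Nat.not_even_iff_odd.1 fun he => P.not_dvd_index (he.two_dvd.trans (index_dvd_of_le hle))

/-- `A` normalises every component. -/
theorem le_norm : A ≤ normalizer (L : Set X) := by
  haveI : Fact (Nat.Prime 2) := ⟨Nat.prime_two⟩
  intro a ha
  by_contra hn
  have hne : L.map (MulAut.conj a).toMonoidHom ≠ L := fun e => hn (mem_normalizer_iff_map_conj_eq.2 e)
  have hc := commutator_eq_bot_iff_le_centralizer.1 (comp_commute (comp_conj hL a) hL hne)
  obtain ⟨P, hP⟩ := h.sylow_comp hL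
  have hPT : ∀ x : ↥L, x ∈ P ↔ (x : X) ∈ (T : Subgroup X) := fun x => by
    show x ∈ (P : Subgroup ↥L) ↔ _
    rw [hP]; rfl
  have hy : ∀ x ∈ (T : Subgroup X), a * x * a⁻¹ * x⁻¹ ∈ A := fun x hx => by
    rw [show a * x * a⁻¹ * x⁻¹ = a * (x * a⁻¹ * x⁻¹) by group]
    exact mul_mem ha ((mem_normalizer_iff.1 (h.sylow_norm hx) _).1 (inv_mem ha))
  have hfoc : focalSubgroup (P : Subgroup ↥L) ≤ A.subgroupOf L := by
    rw [focalSubgroup_def, closure_le]
    rintro z ⟨hz, x, hx, u, rfl⟩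
    have hxT : (x : X) ∈ (T : Subgroup X) := (hPT x).1 hx
    have hzT : ((⁅x, u⁆ : ↥L) : X) ∈ (T : Subgroup X) := (hPT _).1 hz
    rw [SetLike.mem_coe, mem_subgroupOf]
    set z := ((⁅x, u⁆ : ↥L) : X) with hzdef
    set xa := a * (x : X) * a⁻¹ with hxa
    have hzu : z = (x : X) * u * (x : X)⁻¹ * (u : X)⁻¹ := rfl
    have hcu : (u : X) * xa = xa * u := mem_centralizer_iff.1 (hc ⟨x, x.2, rfl⟩) u u.2
    have hy' := hy x hxT
    have e : (u : X) * (a * x * a⁻¹ * (x : X)⁻¹) * (u : X)⁻¹ = xa * (x : X)⁻¹ * z := by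
      calc (u : X) * (a * x * a⁻¹ * (x : X)⁻¹) * (u : X)⁻¹ = (u : X) * xa * (x : X)⁻¹ * (u : X)⁻¹ := by
            rw [hxa]; group
        _ = xa * (u : X) * (x : X)⁻¹ * (u : X)⁻¹ := by rw [hcu]
        _ = _ := by rw [hzu]; group
    have h2 := h.closed.2 _ hy' (u : X) (by
      rw [e]
      exact mul_mem (mul_mem (mul_mem (mul_mem (h.le ha) hxT) (inv_mem (h.le ha))) (inv_mem hxT)) hzT)
    rw [e] at h2
    have := mul_mem (inv_mem hy') h2
    rwa [hxa, show (a * (x : X) * a⁻¹ * (x : X)⁻¹)⁻¹ * (a * (x : X) * a⁻¹ * (x : X)⁻¹ * z) = z by group] at this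
  have hPA : (P : Subgroup ↥L) ≤ A.subgroupOf L := by
    refine le_trans ?_ hfoc
    rw [← Cfsg.Lib.Transfer.commutator_inf_eq_focal (P : Subgroup ↥L) ?_, qs_perfect hL, top_inf_eq]
    obtain ⟨k, hk⟩ := P.2.exists_card_eq
    obtain ⟨i, -, hi⟩ := (Nat.dvd_prime_pow Nat.prime_two).1
      (hk ▸ relIndex_dvd_card (focalSubgroup (P : Subgroup ↥L)) (P : Subgroup ↥L))
    rw [hi]
    exact Nat.Coprime.pow_right i ((Nat.prime_two.coprime_iff_not_dvd).2 P.not_dvd_index).symm
  refine sylow_not_central h hL P fun x hx => mem_center_iff.2 fun m => Subtype.ext ?_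
  refine mem_centralizer_iff.1 (hc ⟨x, x.2, ?_⟩) m m.2
  show a * (x : X) * a⁻¹ = x
  rw [h.comm ha (show (x : X) ∈ A from hPA hx), mul_inv_cancel_right]

theorem simple : IsSimpleGroup (↥L ⧸ center ↥L) ∧ ¬ IsMulCommutative (↥L ⧸ center ↥L) := by
  refine ⟨hL.2.2, fun hc => qs_not_isSolvable hL.2 ?_⟩
  exact Cfsg.Lib.BenderSE.Ring2.solvable_of_quot (center ↥L)
    (Group.isSolvable_of_comm fun x y => Subtype.ext (mem_center_iff.1 y.2 x))
    (Group.isSolvable_of_comm hc.is_comm.comm)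

/-- If `A ∩ L` is central then `A` centralises `L`. -/
theorem inert (hAL : A ⊓ L ≤ centralizer (L : Set X)) : A ≤ centralizer (L : Set X) := by
  haveI : Fact (Nat.Prime 2) := ⟨Nat.prime_two⟩
  set M := L ⊔ A
  have hLM : L ≤ M := le_sup_left
  have hAM : A ≤ M := le_sup_right
  set L' := L.subgroupOf M
  haveI hL'n : L'.Normal :=
    normal_subgroupOf_of_le_normalizer (sup_le le_normalizer (h.le_norm hL))
  set N := (center ↥L').map L'.subtype with hN
  haveI : N.Normal := by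
    rw [hN]; infer_instance
  set π := QuotientGroup.mk' N
  obtain ⟨TM, hTM⟩ := exists_sylow_above h.le hAM
  have hc := closed_subgroup h.closed hAM TM hTM
  have hc' := InvolCalc.stronglyClosed_quotient TM hc N
  set H := L'.map π
  let f : ↥L →* ↥M ⧸ N := π.comp (inclusion hLM)
  have hker : f.ker = center ↥L := by
    ext l
    rw [MonoidHom.mem_ker]
    show π (inclusion hLM l) = 1 ↔ _
    rw [QuotientGroup.mk'_apply, QuotientGroup.eq_one_iff, hN, Subgroup.mem_map]
    constructor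
    · rintro ⟨w, hw, e⟩
      refine mem_center_iff.2 fun m => Subtype.ext ?_
      have e' : (((w : ↥L') : ↥M) : X) = (l : X) := congrArg Subtype.val e
      have := congrArg (fun z : ↥L' => ((z : ↥M) : X)) (mem_center_iff.1 hw ⟨inclusion hLM m, m.2⟩)
      simp only [Subgroup.coe_mul, coe_inclusion, e'] at this
      exact this
    · intro hl
      refine ⟨⟨inclusion hLM l, l.2⟩, mem_center_iff.2 fun m => Subtype.ext (Subtype.ext ?_), rfl⟩
      have := congrArg Subtype.val (mem_center_iff.1 hl ⟨((m : ↥M) : X), m.2⟩)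
      exact this
  have hrange : f.range = H := by
    ext y
    constructor
    · rintro ⟨l, rfl⟩
      exact ⟨inclusion hLM l, l.2, rfl⟩
    · rintro ⟨m, hm, rfl⟩
      exact ⟨⟨m, hm⟩, rfl⟩
  haveI : IsSimpleGroup ↥H := by
    haveI := (h.simple hL).1
    exact (((QuotientGroup.quotientMulEquivOfEq hker).symm.trans (QuotientGroup.quotientKerEquivRange f)).trans
      (MulEquiv.subgroupCongr hrange)).symm.isSimpleGroup
  have hO : Cfsg.oddCore ↥H = ⊥ := by
    haveI : (Cfsg.oddCore ↥H).Normal := normal_of_mem_sSup_normal fun _ h => h.1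
    refine (IsSimpleGroup.eq_bot_or_eq_top_of_normal (Cfsg.oddCore ↥H) inferInstance).resolve_right fun e => ?_
    have h1 := coprime_card_pPrimeCore (G := ↥H) 2
    rw [show Cfsg.pPrimeCore 2 ↥H = ⊤ from e, card_top, ← hrange, ← index_ker, hker, index_eq_card] at h1
    obtain ⟨P, hP⟩ := sylow_comp h hL
    refine sylow_not_central h hL P fun x hx => ?_
    rw [← index_eq_card] at h1
    obtain ⟨j, hj⟩ := P.2 ⟨x, hx⟩
    have hj' : x ^ 2 ^ j = 1 := congrArg Subtype.val hj
    refine (QuotientGroup.eq_one_iff x).1 (orderOf_eq_one_iff.1 (Nat.eq_one_of_dvd_coprimes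
      (h1.pow_right j) ?_ ((orderOf_map_dvd (QuotientGroup.mk' (center ↥L)) x).trans
        (orderOf_dvd_of_pow_eq_one hj'))))
    rw [index_eq_card]
    exact orderOf_dvd_natCard _
  have hdisj : (A.subgroupOf M).map π ⊓ H = ⊥ := by
    refine eq_bot_iff.2 ?_
    rintro _ ⟨⟨a, ha, rfl⟩, l, hl, e⟩
    have h1 : l⁻¹ * a ∈ N := QuotientGroup.eq.1 e
    obtain ⟨w, hw, hwe⟩ := h1
    have haL : (a : X) ∈ L := by
      have : a = l * (w : ↥M) := by rw [show ((w : ↥L') : ↥M) = l⁻¹ * a from hwe, mul_inv_cancel_left]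
      rw [this]
      exact L.mul_mem hl w.2
    rw [mem_bot, QuotientGroup.mk'_apply, QuotientGroup.eq_one_iff, hN]
    refine ⟨⟨a, haL⟩, mem_center_iff.2 fun m => Subtype.ext (Subtype.ext ?_), rfl⟩
    exact mem_centralizer_iff.1 (hAL ⟨ha, haL⟩) _ m.2
  have key := Cfsg.Agent.S1251.result (TM.mapSurjective (QuotientGroup.mk'_surjective N)) _ hc' H ?_ hO hdisj
  · intro a ha
    refine mem_centralizer_of_mod_center hL fun l hl => ?_
    have hcm := mem_centralizer_iff.1 (key (mem_map_of_mem π (show (⟨a, hAM ha⟩ : ↥M) ∈ A.subgroupOf M from ha)))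
      (π ⟨l, hLM hl⟩) (mem_map_of_mem π (show (⟨l, hLM hl⟩ : ↥M) ∈ L' from hl))
    have h1 : π (⟨a, hAM ha⟩ * ⟨l, hLM hl⟩ * ⟨a, hAM ha⟩⁻¹ * ⟨l, hLM hl⟩⁻¹) = 1 := by
      rw [map_mul, map_mul, map_mul, map_inv, map_inv, ← hcm]; group
    rw [QuotientGroup.mk'_apply, QuotientGroup.eq_one_iff, hN] at h1
    obtain ⟨w, hw, hwe⟩ := h1
    have e : (((w : ↥L') : ↥M) : X) = a * l * a⁻¹ * l⁻¹ := congrArg Subtype.val hwe
    rw [← e]
    refine ⟨w.2, mem_centralizer_iff.2 fun y hy => ?_⟩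
    exact congrArg (fun z : ↥L' => ((z : ↥M) : X)) (mem_center_iff.1 hw ⟨⟨y, hLM hy⟩, hy⟩)
  · refine (Subgroup.map_mono (le_top.trans (normalizer_eq_top L').ge)).trans (le_normalizer_map π)

theorem mov_iff : Mov A L ↔ ¬ A ⊓ L ≤ centralizer (L : Set X) :=
  ⟨fun hm hle => hm (h.inert hL hle), fun hn hle => hn (inf_le_left.trans hle)⟩

end CoreFree

end Cfsg.Lib.Goldschmidt
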