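import Cfsg.Agent.Goldschmidt.S1.CoreFree

/-!
A moved component modulo its centre: the facts of the simple quotient, the splitting of `A`, the index.
-/

set_option autoImplicit false
set_option linter.unusedSectionVars false
set_option linter.style.haveILetI false

namespace Cfsg.Lib.Goldschmidt

open Subgroup Cfsg.Lib.Components

universe u

variable {X : Type u} [Group X] [Finite X]

/-- The projection onto `L / Z(L)`. -/
abbrev zm (L : Subgroup X) : ↥L →* ↥L ⧸ center ↥L := QuotientGroup.mk' (center ↥L)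

/-- The Sylow subgroup of `L / Z(L)` with the facts on it. -/
structure MovData (A L : Subgroup X) (T : Sylow 2 X) (P : Sylow 2 (↥L ⧸ center ↥L)) : Prop where
  typed : TypedX (↥L ⧸ center ↥L)
  facts : SimpleFacts P
  mem_iff : ∀ x : ↥L, zm L x ∈ P ↔ (x : X) ∈ (T : Subgroup X)
  inv_iff : ∀ x : ↥L, Inv (P : Subgroup (↥L ⧸ center ↥L)) (zm L x) ↔ ∃ v : ↥L, (v : X) ∈ A ∧ zm L v = zm L x

theorem zm_eq_iff {L : Subgroup X} {x y : ↥L} :
    zm L x = zm L y ↔ (x : X)⁻¹ * y ∈ centralizer (L : Set X) := by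
  constructor
  · intro e
    refine mem_centralizer_iff.2 fun m hm => ?_
    exact congrArg Subtype.val (mem_center_iff.1 (QuotientGroup.eq.1 e) ⟨m, hm⟩)
  · intro e
    exact QuotientGroup.eq.2 (mem_center_iff.2 fun m => Subtype.ext (mem_centralizer_iff.1 e m m.2))

theorem zm_eq_one {L : Subgroup X} {x : ↥L} : zm L x = 1 ↔ (x : X) ∈ centralizer (L : Set X) := by
  rw [← map_one (zm L), eq_comm, zm_eq_iff, OneMemClass.coe_one, inv_one, one_mul]

namespace CoreFree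

variable {T : Sylow 2 X} {A : Subgroup X} (h : CoreFree T A) {L : Subgroup X} (hL : Cfsg.IsComponent L)
  (hm : Mov A L)
include h hL hm

theorem exists_noncentral : ∃ v : ↥L, (v : X) ∈ A ∧ zm L v ≠ 1 := by
  by_contra hcon
  push Not at hcon
  exact (h.mov_iff hL).1 hm fun v hv => zm_eq_one.1 (hcon ⟨v, hv.2⟩ hv.1)

theorem data : ∃ P, MovData A L T P := by
  haveI : Fact (Nat.Prime 2) := ⟨Nat.prime_two⟩
  obtain ⟨hs, hna⟩ := h.simple hL
  haveI := hs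
  obtain ⟨P₀, hP₀⟩ := h.sylow_comp hL
  have hsur : Function.Surjective (zm L) := QuotientGroup.mk'_surjective _
  set P := P₀.mapSurjective hsur with hP
  have hmem : ∀ x : ↥L, zm L x ∈ P ↔ (x : X) ∈ (T : Subgroup X) := fun x => by
    constructor
    · rintro ⟨y, hy, e⟩
      have h1 : y⁻¹ * x ∈ center ↥L := QuotientGroup.eq.1 e
      have h2 := IsPGroup.le_sylow_of_normal (h.center_two hL) P₀ h1
      have h3 : y * (y⁻¹ * x) ∈ (P₀ : Subgroup ↥L) := mul_mem hy h2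
      rw [mul_inv_cancel_left, hP₀] at h3
      exact h3
    · intro hx
      exact ⟨x, by rw [SetLike.mem_coe, hP₀]; exact hx, rfl⟩
  set Ab := (A.subgroupOf L).map (zm L) with hAb
  have hc : Cfsg.IsStronglyClosed Ab (P : Subgroup (↥L ⧸ center ↥L)) := by
    refine InvolCalc.stronglyClosed_quotient P₀ ⟨fun a ha => by rw [hP₀]; exact h.le ha, fun x hx g hg => ?_⟩ _
    rw [hP₀] at hg
    exact h.closed.2 (x : X) hx (g : X) hg
  obtain ⟨v, hvA, hv1⟩ := h.exists_noncentral hL hm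
  have hne : Ab ≠ ⊥ := fun e => hv1 (mem_bot.1 (e ▸ mem_map_of_mem (zm L) (show v ∈ A.subgroupOf L from hvA)))
  have hcomm : ∀ x ∈ Ab, ∀ y ∈ Ab, x * y = y * x := by
    rintro _ ⟨x, hx, rfl⟩ _ ⟨y, hy, rfl⟩
    rw [← map_mul, ← map_mul]
    exact congrArg _ (Subtype.ext (h.comm hx hy))
  have hlt : Nat.card (↥L ⧸ center ↥L) < Nat.card X + 1 := by
    have h1 := Nat.card_le_card_of_surjective _ hsur
    have h2 := Subgroup.card_le_card_group L
    omega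
  have htyp : TypedX (↥L ⧸ center ↥L) := h.below _ hna P Ab hne hcomm hc hlt
  have hF := simpleFacts_of_typed hna htyp P
  refine ⟨P, htyp, hF, hmem, fun x => ⟨fun hx => ?_, fun ⟨w, hw, e⟩ => e ▸ ?_⟩⟩
  · by_cases h1 : zm L x = 1
    · exact ⟨1, one_mem A, (map_one _).trans h1.symm⟩
    obtain ⟨r, hr, -, htr, -, -⟩ := hF.rot
    have hvI : Inv (P : Subgroup (↥L ⧸ center ↥L)) (zm L v) :=
      ⟨(hmem v).2 (h.le hvA), by rw [← map_mul, show v * v = 1 from Subtype.ext (h.sq _ hvA), map_one]⟩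
    obtain ⟨k, hk⟩ := htr _ _ hvI hx hv1 h1
    obtain ⟨w, hw, e⟩ := hc.2 _ (mem_map_of_mem (zm L) (show v ∈ A.subgroupOf L from hvA)) (r ^ k)
      (by rw [hk]; exact hx.1)
    exact ⟨w, hw, e.trans hk⟩
  · exact ⟨(hmem w).2 (h.le hw), by rw [← map_mul, show w * w = 1 from Subtype.ext (h.sq _ hw), map_one]⟩

/-- `A` splits along the component. -/
theorem exists_inner {a : X} (ha : a ∈ A) :
    ∃ v, v ∈ A ∧ v ∈ L ∧ v⁻¹ * a ∈ centralizer (L : Set X) := by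
  haveI : Fact (Nat.Prime 2) := ⟨Nat.prime_two⟩
  obtain ⟨P, D⟩ := h.data hL hm
  set α : MulAut ↥L := GenDihedral.cj L a (h.le_norm hL ha)
  have hα : ∀ y : ↥L, ((α y : ↥L) : X) = a * y * a⁻¹ := fun y => rfl
  have hcen : (center ↥L).map α.toMonoidHom = center ↥L :=
    Subgroup.characteristic_iff_map_eq.1 Subgroup.centerCharacteristic α
  set β : MulAut (↥L ⧸ center ↥L) := QuotientGroup.congr _ _ α hcen
  have hβ : ∀ y : ↥L, β (zm L y) = zm L (α y) := fun y => rfl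
  have hsur : Function.Surjective (zm L) := QuotientGroup.mk'_surjective _
  have h2 : β * β = 1 := MulEquiv.ext fun q => by
    obtain ⟨y, rfl⟩ := hsur q
    rw [MulAut.mul_apply, hβ, hβ, MulAut.one_apply]
    refine congrArg _ (Subtype.ext ?_)
    rw [hα, hα, show a * (a * y * a⁻¹) * a⁻¹ = (a * a) * y * (a * a)⁻¹ by group, h.sq a ha]
    group
  have hfix : ∀ i, Inv (P : Subgroup (↥L ⧸ center ↥L)) i → β i = i := fun i hi => by
    obtain ⟨w, rfl⟩ := hsur i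
    obtain ⟨v, hv, e⟩ := (D.inv_iff w).1 hi
    rw [← e, hβ]
    refine congrArg _ (Subtype.ext ?_)
    rw [hα, h.comm ha hv, mul_inv_cancel_right]
  have hd : ∀ q ∈ P, Inv (P : Subgroup (↥L ⧸ center ↥L)) (q⁻¹ * β q) := fun q hq => by
    obtain ⟨y, rfl⟩ := hsur q
    rw [hβ, ← map_inv, ← map_mul, D.inv_iff]
    refine ⟨y⁻¹ * α y, ?_, rfl⟩
    show (y : X)⁻¹ * (a * y * a⁻¹) ∈ A
    rw [show (y : X)⁻¹ * (a * y * a⁻¹) = ((y : X)⁻¹ * a * ((y : X)⁻¹)⁻¹) * a⁻¹ by group]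
    exact mul_mem ((mem_normalizer_iff.1 (h.sylow_norm (inv_mem ((D.mem_iff y).1 hq))) a).1 ha) (inv_mem ha)
  obtain ⟨i, hi, hβi⟩ := D.facts.inner β h2 hfix hd
  obtain ⟨w, rfl⟩ := hsur i
  obtain ⟨v, hv, e⟩ := (D.inv_iff w).1 hi
  rw [← e] at hβi
  refine ⟨v, hv, v.2, mem_centralizer_of_mod_center hL fun l hl => ?_⟩
  have h1 : zm L (α ⟨l, hl⟩) = zm L (v * ⟨l, hl⟩ * v⁻¹) := by
    rw [← hβ, hβi, MulAut.conj_apply, map_mul, map_mul, map_inv]
  have h3 : zm L (v⁻¹ * α ⟨l, hl⟩ * v * ⟨l, hl⟩⁻¹) = 1 := by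
    rw [map_mul, map_mul, map_mul, h1, map_mul, map_mul, map_inv, map_inv]; group
  have h4 := zm_eq_one.1 h3
  simp only [Subgroup.coe_mul, Subgroup.coe_inv, hα] at h4
  rw [show (v : X)⁻¹ * a * l * ((v : X)⁻¹ * a)⁻¹ * l⁻¹ = (v : X)⁻¹ * (a * l * a⁻¹) * v * l⁻¹ by group]
  exact ⟨L.mul_mem (L.mul_mem (L.mul_mem (L.inv_mem v.2)
    ((mem_normalizer_iff.1 (h.le_norm hL ha) l).1 hl)) v.2) (L.inv_mem hl), h4⟩

/-- `|A : A ∩ C(L)|` is the number of elements of order at most two. -/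
theorem index_eq {P : Sylow 2 (↥L ⧸ center ↥L)} (D : MovData A L T P) :
    (A ⊓ centralizer (L : Set X)).relIndex A = Nat.card {i // Inv (P : Subgroup (↥L ⧸ center ↥L)) i} := by
  classical
  set Z := (A ⊓ centralizer (L : Set X)).subgroupOf A
  have hex : ∀ i : {i // Inv (P : Subgroup (↥L ⧸ center ↥L)) i}, ∃ v : ↥L, (v : X) ∈ A ∧ zm L v = i.1 := fun i => by
    obtain ⟨w, hw⟩ := QuotientGroup.mk'_surjective (center ↥L) i.1
    obtain ⟨v, hv, e⟩ := (D.inv_iff w).1 (by rw [show zm L w = i.1 from hw]; exact i.2)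
    exact ⟨v, hv, e.trans hw⟩
  choose v hv he using hex
  show Z.index = _
  rw [index_eq_card]
  refine (Nat.card_eq_of_bijective (fun i => (QuotientGroup.mk ⟨(v i : X), hv i⟩ : ↥A ⧸ Z))
    ⟨fun i j e => ?_, fun q => ?_⟩).symm
  · have h1 : (v i : X)⁻¹ * v j ∈ centralizer (L : Set X) := (mem_subgroupOf.1 (QuotientGroup.eq.1 e)).2
    exact Subtype.ext ((he i).symm.trans ((zm_eq_iff.2 h1).trans (he j)))
  · induction q using QuotientGroup.induction_on with | _ a => ?_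
    obtain ⟨w, hwA, hwL, hwc⟩ := h.exists_inner hL hm a.2
    have hi : Inv (P : Subgroup (↥L ⧸ center ↥L)) (zm L ⟨w, hwL⟩) := (D.inv_iff _).2 ⟨_, hwA, rfl⟩
    refine ⟨⟨_, hi⟩, QuotientGroup.eq.2 (mem_subgroupOf.2 ⟨A.mul_mem (A.inv_mem (hv _)) a.2, ?_⟩)⟩
    have h1 := zm_eq_iff.1 (he ⟨_, hi⟩)
    show (v ⟨_, hi⟩ : X)⁻¹ * a ∈ centralizer (L : Set X)
    rw [show (v ⟨_, hi⟩ : X)⁻¹ * a = ((v ⟨_, hi⟩ : X)⁻¹ * w) * (w⁻¹ * a) by group]
    exact mul_mem h1 hwc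

theorem four_le_index : 4 ≤ (A ⊓ centralizer (L : Set X)).relIndex A := by
  classical
  haveI : Fact (Nat.Prime 2) := ⟨Nat.prime_two⟩
  obtain ⟨P, D⟩ := h.data hL hm
  rw [h.index_eq hL hm D]
  obtain ⟨i, j, hi, hj, hi1, hj1, hij⟩ := D.facts.two
  set Q := (A.subgroupOf L).map (zm L)
  have hIQ : ∀ {k}, Inv (P : Subgroup (↥L ⧸ center ↥L)) k ↔ k ∈ Q := fun {k} => by
    obtain ⟨w, rfl⟩ := QuotientGroup.mk'_surjective (center ↥L) k
    rw [D.inv_iff]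
    exact ⟨fun ⟨v, hv, e⟩ => ⟨v, hv, e⟩, fun ⟨v, hv, e⟩ => ⟨v, hv, e⟩⟩
  rw [Nat.card_congr (Equiv.subtypeEquivRight fun k => hIQ)]
  have hQ : IsPGroup 2 ↥Q := P.2.to_le fun k hk => (hIQ.2 hk).1
  obtain ⟨m, hm'⟩ := IsPGroup.iff_card.1 hQ
  have h3 : ({1, i, j} : Set (↥L ⧸ center ↥L)) ⊆ (Q : Set (↥L ⧸ center ↥L)) := by
    rintro z (rfl | rfl | rfl)
    exacts [one_mem _, hIQ.1 hi, hIQ.1 hj]
  have h4 := Set.ncard_le_ncard h3 (Set.toFinite _)
  rw [Set.ncard_eq_three.2 ⟨1, i, j, Ne.symm hi1, Ne.symm hj1, hij, rfl⟩, ← Nat.card_coe_set_eq] at h4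
  show 4 ≤ Nat.card ↥Q
  change 3 ≤ Nat.card ↥Q at h4
  rw [hm'] at h4 ⊢
  have hm2 : 2 ≤ m := by
    by_contra hlt
    have := Nat.pow_le_pow_right two_pos (show m ≤ 1 by omega)
    omega
  exact le_trans (by norm_num) (Nat.pow_le_pow_right two_pos hm2)

end CoreFree

end Cfsg.Lib.Goldschmidt
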