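import Cfsg.Agent.Goldschmidt.S1.Moved
import Cfsg.Agent.Components.GenFitting
import Cfsg.Agent.Components.Structure
import Cfsg.Agent.Components.Local
import Cfsg.Agent.Components.BalanceDelta

/-!
The core of the centraliser of an element of `A`: balance off the small types, faithfulness.
-/

set_option autoImplicit false
set_option linter.unusedSectionVars false
set_option linter.style.haveILetI false

namespace Cfsg.Lib.Goldschmidt

open Subgroup Cfsg.Lib.Components

universe u

variable {X : Type u} [Group X] [Finite X]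

namespace CoreFree

variable {T : Sylow 2 X} {A : Subgroup X} (h : CoreFree T A)
include h

theorem two_zpowers {b : X} (hb : b ∈ A) : IsPGroup 2 (zpowers b) :=
  T.2.to_le (zpowers_le.2 (h.le hb))

/-- The core centralises `O_2`. -/
theorem core_pCore {b : X} (hb : b ∈ A) :
    Cfsg.centralizerPPrimeCore 2 b ≤ centralizer (Cfsg.pCore 2 X : Set X) := by
  haveI : Fact (Nat.Prime 2) := ⟨Nat.prime_two⟩
  haveI : (Cfsg.pCore 2 X).Normal := normal_of_mem_sSup_normal fun _ h => h.1
  exact (centralizerPPrimeCore_le_local b).trans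
    (local_pPrimeCore_centralizes (h.two_zpowers hb) (isPGroup_pCore 2))

theorem core_norm {b : X} (hb : b ∈ A) {L : Subgroup X} (hL : Cfsg.IsComponent L) :
    Cfsg.centralizerPPrimeCore 2 b ≤ normalizer (L : Set X) := fun _ hx =>
  haveI : Fact (Nat.Prime 2) := ⟨Nat.prime_two⟩
  mem_compKernel.1 (centralizerPPrimeCore_le_compKernel h.core (h.two_zpowers hb) hx) L hL

/-- Balance at a centralised component. -/
theorem core_unmoved {b : X} (hb : b ∈ A) {L : Subgroup X} (hL : Cfsg.IsComponent L)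
    (hbc : b ∈ centralizer (L : Set X)) : Cfsg.centralizerPPrimeCore 2 b ≤ centralizer (L : Set X) := by
  haveI : Fact (Nat.Prime 2) := ⟨Nat.prime_two⟩
  refine commutator_eq_bot_iff_le_centralizer.1 ?_
  rw [commutator_comm]
  exact core_commute_of_centralized h.core (h.two_zpowers hb) hL fun y hy =>
    mem_centralizer_singleton_iff.2 (mem_centralizer_iff.1 hbc y hy)

/-- Balance off the small types. -/
theorem core_moved {b : X} (hb : b ∈ A) {L : Subgroup X} (hL : Cfsg.IsComponent L) (hm : Mov A L)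
    (hns : ¬ Small (↥L ⧸ center ↥L)) : Cfsg.centralizerPPrimeCore 2 b ≤ centralizer (L : Set X) := by
  classical
  haveI : Fact (Nat.Prime 2) := ⟨Nat.prime_two⟩
  by_cases hbc : b ∈ centralizer (L : Set X)
  · exact h.core_unmoved hb hL hbc
  obtain ⟨P, D⟩ := h.data hL hm
  obtain ⟨v, hvA, hvL, hvc⟩ := h.exists_inner hL hm hb
  set v' : ↥L := ⟨v, hvL⟩
  have hv1 : zm L v' ≠ 1 := fun e => hbc (by
    have := mul_mem (zm_eq_one.1 e) hvc
    rwa [mul_inv_cancel_left] at this)
  obtain ⟨hD, hfix⟩ := D.facts.bal hns _ ((D.inv_iff v').2 ⟨v', hvA, rfl⟩) hv1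
  set R := Cfsg.centralizerPPrimeCore 2 b
  have hRb : R ≤ centralizer ({b} : Set X) := centralizerPPrimeCore_le_centralizer b
  have hRo : Odd (Nat.card R) := Nat.coprime_two_right.1 (centralizerPPrimeCore_card_coprime b)
  -- in `L`, commuting with `v` is commuting with `b`
  have hvb : ∀ y ∈ L, (y * v = v * y ↔ y * b = b * y) := by
    intro y hy
    have hc : Commute y (v⁻¹ * b) := mem_centralizer_iff.1 hvc y hy
    refine ⟨fun h1 => ?_, fun h1 => ?_⟩
    · have := ((show Commute y v from h1).mul_right hc).eq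
      rwa [mul_inv_cancel_left] at this
    · have h2 : Commute y (b * (v⁻¹ * b)⁻¹) := (show Commute y b from h1).mul_right hc.inv_right
      rwa [show b * (v⁻¹ * b)⁻¹ = v by group] at h2
  set Cv := centralizer ({v'} : Set ↥L)
  set C' := (centralizer ({zm L v'} : Set (↥L ⧸ center ↥L))).comap (zm L)
  have hCn : ∀ y ∈ C', ∀ x ∈ Cv, y * x * y⁻¹ ∈ Cv := by
    intro y hy x hx
    have hc := mem_centralizer_singleton_iff.1 hy
    rw [← map_mul, ← map_mul] at hc
    have hz : (y * v')⁻¹ * (v' * y) ∈ center ↥L := QuotientGroup.eq.1 hc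
    set z := (y * v')⁻¹ * (v' * y) with hzd
    have e : y * v' * y⁻¹ = v' * z⁻¹ := by
      calc y * v' * y⁻¹ = (v' * y) * z⁻¹ * y⁻¹ := by rw [hzd]; group
        _ = v' * (y * z⁻¹) * y⁻¹ := by group
        _ = v' * (z⁻¹ * y) * y⁻¹ := by rw [mem_center_iff.1 (inv_mem hz) y]
        _ = _ := by group
    refine mem_centralizer_singleton_iff.2 ?_
    have h1 : (y * x * y⁻¹) * (y * v' * y⁻¹) = (y * v' * y⁻¹) * (y * x * y⁻¹) := by
      rw [_root_.conj_mul, _root_.conj_mul, mem_centralizer_singleton_iff.1 hx]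
    rw [e] at h1
    have h2 := (show Commute (y * x * y⁻¹) (v' * z⁻¹) from h1).mul_right
      (show Commute (y * x * y⁻¹) z from mem_center_iff.1 hz _)
    rwa [inv_mul_cancel_right] at h2
  have hcle : center ↥L ≤ Cv := fun z hz =>
    mem_centralizer_singleton_iff.2 ((mem_center_iff.1 hz v').symm)
  -- `O(C_L(v)) = 1`
  set O := (Cfsg.pPrimeCore 2 ↥Cv).map Cv.subtype
  have hOo : (Nat.card ↥O).Coprime 2 := by
    rw [Nat.card_congr ((Cfsg.pPrimeCore 2 ↥Cv).equivMapOfInjective _ Cv.subtype_injective).toEquiv.symm]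
    exact coprime_card_pPrimeCore 2
  have hC'Cv : C' ≤ normalizer (Cv : Set ↥L) := fun y hy => ZStarApps.mem_normalizer_of_maps (hCn y hy)
  have hCvC' : Cv ≤ C' := fun x hx => by
    refine mem_centralizer_singleton_iff.2 ?_
    rw [← map_mul, ← map_mul, mem_centralizer_singleton_iff.1 hx]
  have hC'O : C' ≤ normalizer (O : Set ↥L) := by
    intro y hy
    refine ZStarApps.mem_normalizer_of_maps ?_
    rintro _ ⟨x, hx, rfl⟩
    set e : MulAut ↥Cv := GenDihedral.cj Cv y (hC'Cv hy)
    refine ⟨e x, ?_, rfl⟩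
    have := pPrimeCore_map_equiv (p := 2) e
    rw [← this]
    exact mem_map_of_mem _ hx
  have hObot : O = ⊥ := by
    have h1 := hD (O.map (zm L)) ?_ ?_ ?_
    · rw [Subgroup.map_eq_bot_iff, QuotientGroup.ker_mk'] at h1
      obtain ⟨m, hm'⟩ := IsPGroup.iff_card.1 (h.center_two hL)
      exact Subgroup.eq_bot_of_card_eq _ (Nat.eq_one_of_dvd_coprimes (hOo.pow_right m) dvd_rfl
        (hm' ▸ card_dvd_of_le h1))
    · exact (Nat.coprime_two_right.1 hOo).of_dvd_nat (card_map_dvd _ _)
    · rintro _ ⟨x, hx, rfl⟩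
      exact hCvC' (map_subtype_le _ hx)
    · intro q hq
      obtain ⟨y, rfl⟩ := QuotientGroup.mk'_surjective (center ↥L) q
      exact (le_normalizer_map (zm L)) (mem_map_of_mem _ (hC'O hq))
  intro x hx
  have hxn := h.core_norm hb hL hx
  set e : MulAut ↥L := GenDihedral.cj L x hxn
  have he : ∀ y : ↥L, ((e y : ↥L) : X) = x * y * x⁻¹ := fun y => rfl
  have hoddx : Odd (orderOf x) := hRo.of_dvd_nat (Subgroup.orderOf_dvd_natCard _ hx)
  -- `e` fixes `C_L(v)`
  have hefix : ∀ y ∈ Cv, e y = y := by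
    intro y hy
    have hbot : (R.subgroupOf L).subgroupOf Cv ≤ Cfsg.pPrimeCore 2 ↥Cv := by
      have hn : ((R.subgroupOf L).subgroupOf Cv).Normal := ⟨fun z hz c => by
        have hcb : ((c : ↥L) : X) * b = b * ((c : ↥L) : X) :=
          (hvb _ (c : ↥L).2).1 (congrArg Subtype.val (mem_centralizer_singleton_iff.1 c.2))
        exact (mem_normalizer_iff.1 (centralizer_le_normalizer_centralizerPPrimeCore b
          (mem_centralizer_singleton_iff.2 hcb)) _).1 hz⟩
      refine le_pPrimeCore ?_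
      refine (centralizerPPrimeCore_card_coprime b).coprime_dvd_left ?_
      have h1 : Nat.card ↥((R.subgroupOf L).subgroupOf Cv) ∣ Nat.card ↥(R.subgroupOf L) :=
        card_comap_dvd_of_injective _ _ Cv.subtype_injective
      exact h1.trans (card_comap_dvd_of_injective _ _ L.subtype_injective)
    have hO' : Cfsg.pPrimeCore 2 ↥Cv = ⊥ := (Subgroup.map_eq_bot_iff_of_injective _ Cv.subtype_injective).1 hObot
    have hyb : (y : X) * b = b * (y : X) :=
      (hvb y y.2).1 (congrArg Subtype.val (mem_centralizer_singleton_iff.1 hy))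
    have h1 : ((e y * y⁻¹ : ↥L) : X) ∈ R := by
      show x * y * x⁻¹ * (y : X)⁻¹ ∈ R
      rw [show x * y * x⁻¹ * (y : X)⁻¹ = x * ((y : X) * x⁻¹ * (y : X)⁻¹) by group]
      exact mul_mem hx ((mem_normalizer_iff.1 (centralizer_le_normalizer_centralizerPPrimeCore b
        (mem_centralizer_singleton_iff.2 hyb)) _).1 (inv_mem hx))
    have h2 : e y * y⁻¹ ∈ Cv := mem_centralizer_singleton_iff.2 (Subtype.ext
      ((hvb _ (e y * y⁻¹).2).2 (mem_centralizer_singleton_iff.1 (hRb h1))))
    have h3 : (⟨_, h2⟩ : ↥Cv) = 1 := mem_bot.1 (hO' ▸ hbot h1)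
    exact mul_inv_eq_one.1 (congrArg Subtype.val h3)
  have hcen : (center ↥L).map e.toMonoidHom = center ↥L :=
    Subgroup.characteristic_iff_map_eq.1 Subgroup.centerCharacteristic e
  set β : MulAut (↥L ⧸ center ↥L) := QuotientGroup.congr _ _ e hcen
  have hβ : ∀ y : ↥L, β (zm L y) = zm L (e y) := fun y => rfl
  have hen : ∀ (k : ℕ) (y : ↥L), (((e ^ k) y : ↥L) : X) = x ^ k * y * (x ^ k)⁻¹ := by
    intro k
    induction k with
    | zero => simp
    | succ k ih => intro y; rw [pow_succ', MulAut.mul_apply, he, ih, pow_succ']; group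
  have heone : e ^ orderOf x = 1 := MulEquiv.ext fun y => Subtype.ext (by rw [hen, pow_orderOf_eq_one]; simp)
  have hβn : ∀ (k : ℕ) (y : ↥L), (β ^ k) (zm L y) = zm L ((e ^ k) y) := by
    intro k
    induction k with
    | zero => intro y; rfl
    | succ k ih => intro y; rw [pow_succ', pow_succ', MulAut.mul_apply, MulAut.mul_apply, ih, hβ]
  have hβodd : Odd (orderOf β) := hoddx.of_dvd_nat (orderOf_dvd_of_pow_eq_one (MulEquiv.ext fun q => by
    obtain ⟨y, rfl⟩ := QuotientGroup.mk'_surjective (center ↥L) q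
    rw [hβn, heone]; rfl))
  have hone : β = 1 := hfix β hβodd fun q hq => by
    obtain ⟨y, rfl⟩ := QuotientGroup.mk'_surjective (center ↥L) q
    have hy : y ∈ C' := mem_centralizer_singleton_iff.2 hq
    show β (zm L y) = zm L y
    rw [hβ]
    refine congrArg _ ?_
    set c := y⁻¹ * e y with hc
    have hfz : ∀ u ∈ Cv, c * u = u * c := by
      intro u hu
      have h1 := hefix _ (hCn y hy u hu)
      rw [map_mul, map_mul, map_inv, hefix u hu] at h1
      rw [hc]
      calc y⁻¹ * e y * u = y⁻¹ * (e y * u * (e y)⁻¹) * e y := by group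
        _ = u * (y⁻¹ * e y) := by rw [h1]; group
    have hcCv : c ∈ Cv :=
      mem_centralizer_singleton_iff.2 (hfz v' (mem_centralizer_singleton_iff.2 rfl))
    have hit : ∀ k : ℕ, (e ^ k) y = y * c ^ k := by
      intro k
      induction k with
      | zero => simp
      | succ k ih =>
        rw [pow_succ', MulAut.mul_apply, ih, map_mul, map_pow, hefix c hcCv, pow_succ' c, ← mul_assoc, hc]
        group
    have hcn : c ^ orderOf x = 1 := by
      have := hit (orderOf x)
      rwa [heone, MulAut.one_apply, left_eq_mul] at this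
    have hnorm : (zpowers (⟨c, hcCv⟩ : ↥Cv)).Normal := ⟨fun z hz u => by
      obtain ⟨k, rfl⟩ := mem_zpowers_iff.1 hz
      have h1 : Commute u (⟨c, hcCv⟩ : ↥Cv) := Subtype.ext (hfz u u.2).symm
      rw [(h1.zpow_right k).eq, mul_inv_cancel_right]
      exact zpow_mem (mem_zpowers _) k⟩
    have hO' : Cfsg.pPrimeCore 2 ↥Cv = ⊥ := (Subgroup.map_eq_bot_iff_of_injective _ Cv.subtype_injective).1 hObot
    have hle : zpowers (⟨c, hcCv⟩ : ↥Cv) ≤ Cfsg.pPrimeCore 2 ↥Cv := by
      refine le_pPrimeCore ?_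
      rw [Nat.card_zpowers, Subgroup.orderOf_mk]
      exact Nat.coprime_two_right.2 (hoddx.of_dvd_nat (orderOf_dvd_of_pow_eq_one hcn))
    have h3 : (⟨c, hcCv⟩ : ↥Cv) = 1 := mem_bot.1 (hO' ▸ hle (mem_zpowers _))
    exact (inv_mul_eq_one.1 (congrArg Subtype.val h3)).symm
  refine mem_centralizer_of_mod_center hL fun l hl => ?_
  have h1 := MulEquiv.ext_iff.1 hone (zm L ⟨l, hl⟩)
  rw [hβ, MulAut.one_apply] at h1
  have h2 : e ⟨l, hl⟩ * (⟨l, hl⟩ : ↥L)⁻¹ ∈ center ↥L := by
    rw [← QuotientGroup.eq_one_iff, ← QuotientGroup.mk'_apply, map_mul, map_inv]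
    exact mul_inv_eq_one.2 h1
  exact ⟨(e ⟨l, hl⟩ * (⟨l, hl⟩ : ↥L)⁻¹).2,
    mem_centralizer_iff.2 fun m hm => congrArg Subtype.val (mem_center_iff.1 h2 ⟨m, hm⟩)⟩

/-- Where balance fails. -/
theorem unbalanced {b : X} (hb : b ∈ A) {L : Subgroup X} (hL : Cfsg.IsComponent L) (hm : Mov A L)
    {x : X} (hx : x ∈ Cfsg.centralizerPPrimeCore 2 b) (hxc : x ∉ centralizer (L : Set X)) :
    Small (↥L ⧸ center ↥L) := by
  by_contra hns
  exact hxc (h.core_moved hb hL hm hns hx)

/-- Faithfulness on the moved components. -/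
theorem faith {b x : X} (hb : b ∈ A) (hx : x ∈ Cfsg.centralizerPPrimeCore 2 b)
    (hmov : ∀ L, Cfsg.IsComponent L → Mov A L → x ∈ centralizer (L : Set X)) : x = 1 := by
  haveI : Fact (Nat.Prime 2) := ⟨Nat.prime_two⟩
  have hlay : x ∈ centralizer (Cfsg.layer X : Set X) := by
    have : Cfsg.layer X ≤ centralizer ({x} : Set X) := sSup_le fun L hL y hy => by
      by_cases hm : Mov A L
      · exact mem_centralizer_singleton_iff.2 (mem_centralizer_iff.1 (hmov L hL hm) y hy)
      · have hb' : b ∈ centralizer (L : Set X) := not_not.1 hm hb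
        exact mem_centralizer_singleton_iff.2 (mem_centralizer_iff.1 (h.core_unmoved hb hL hb' hx) y hy)
    exact mem_centralizer_iff.2 fun y hy => mem_centralizer_singleton_iff.1 (this hy)
  have hF : x ∈ centralizer (Cfsg.generalizedFittingSubgroup X : Set X) := by
    have : Cfsg.generalizedFittingSubgroup X ≤ centralizer ({x} : Set X) := by
      refine sup_le (fun y hy => mem_centralizer_singleton_iff.2 (mem_centralizer_iff.1 hlay y hy)) ?_
      rw [fitting_eq_pCore h.core]
      exact fun y hy => mem_centralizer_singleton_iff.2 (mem_centralizer_iff.1 (h.core_pCore hb hx) y hy)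
    exact mem_centralizer_iff.2 fun y hy => mem_centralizer_singleton_iff.1 (this hy)
  set K := centralizer (Cfsg.generalizedFittingSubgroup X : Set X)
  haveI : (Cfsg.generalizedFittingSubgroup X).Normal := by
    unfold Cfsg.generalizedFittingSubgroup
    infer_instance
  haveI : K.Normal := inferInstance
  have hK : K ≤ Cfsg.pCore 2 X := by
    rw [← fitting_eq_pCore h.core]
    refine le_fitting_of_subnormal (Subgroup.Normal.isSubnormal inferInstance) ?_
    letI : CommGroup ↥K := { (inferInstance : Group ↥K) with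
      mul_comm := fun p q => Subtype.ext (mem_centralizer_iff.1 q.2 p (centralizer_genFitting_le p.2)) }
    infer_instance
  obtain ⟨k, hk⟩ := isPGroup_pCore 2 (G := X) ⟨x, hK hF⟩
  refine orderOf_eq_one_iff.1 (Nat.eq_one_of_dvd_coprimes
    ((centralizerPPrimeCore_card_coprime b).pow_right k) (Subgroup.orderOf_dvd_natCard _ hx)
    (orderOf_dvd_of_pow_eq_one (congrArg Subtype.val hk : x ^ 2 ^ k = 1)))

end CoreFree

end Cfsg.Lib.Goldschmidt
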