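import Cfsg.Agent.Goldschmidt.S1.Rank

/-!
Rank one groups in characteristic two: an involutory automorphism trivial on `Z` and on `Q / Z` is induced by
an element of `Z`; odd automorphisms and odd subgroups centralised by `Q` are trivial.
-/

set_option autoImplicit false
set_option linter.unusedSectionVars false
set_option linter.style.haveILetI false

namespace Cfsg.Lib.Goldschmidt.Rk

open MulAction Cfsg.Lib.RankOne Cfsg.Lib.BenderSuzuki

universe u v

variable {G : Type u} {Ω : Type v} [Group G] [Finite G] [MulAction G Ω] {a : Ω} {t : G} {Q : Subgroup G}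

theorem pow_four (hs : Simple G Ω a t Q) {u : G} (hu : u ∈ Q) : u ^ 4 = 1 := by
  rw [show (4 : ℕ) = 2 + 2 from rfl, pow_add, pow_two]
  exact involGroup_sq hs.setup hs.two (sq_mem hs hu)

theorem eq_one_of_odd_pow (hs : Simple G Ω a t Q) {u : G} (hu : u ∈ Q) {n : ℕ} (hn : Odd n)
    (h : u ^ n = 1) : u = 1 := by
  rw [← orderOf_eq_one_iff]
  refine Nat.eq_one_of_dvd_coprimes (a := 2 ^ 2) ((Nat.coprime_two_left.2 hn).pow_left 2) ?_
    (orderOf_dvd_of_pow_eq_one h)
  exact orderOf_dvd_of_pow_eq_one (pow_four hs hu)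

theorem eq_one_of_fix (hs : Simple G Ω a t Q) {x : G} (hxa : x • a = a) (hxt : x • t • a = t • a)
    (hxQ : ∀ p ∈ Q, x * p = p * x) : x = 1 := by
  haveI := hs.faithful
  refine eq_of_smul_eq_smul fun c : Ω => ?_
  rw [one_smul]
  rcases eq_or_ne c a with rfl | hc
  · exact hxa
  obtain ⟨q, hq, -⟩ := regular hs.setup (ta_ne hs.setup) hc
  have hq' : (q : G) • t • a = c := hq
  rw [← hq', ← mul_smul, hxQ q q.2, mul_smul, hxt]

/-- An automorphism of odd order fixing `Q` pointwise is trivial. -/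
theorem odd_aut (hs : Simple G Ω a t Q) {α : MulAut G} (hodd : Odd (orderOf α)) (hα : ∀ p ∈ Q, α p = p) :
    α = 1 := by
  have hS := hs.setup
  have hst := fun {g : G} => aut_stab hs α (g := g) fun p hp => (hα p hp).symm ▸ hp
  have hne : α t • a ≠ a := fun h => hS.not_mem (hst.1 (mem_stabilizer_iff.2 h))
  obtain ⟨u, hu, -⟩ := regular hS (ta_ne hS) hne
  have hu' : (u : G) • t • a = α t • a := hu
  have hit : ∀ n : ℕ, (α ^ n) t • a = (u : G) ^ n • t • a := by
    intro n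
    induction n with
    | zero => simp
    | succ n ih =>
      have hm : ((u : G) ^ n * t)⁻¹ * (α ^ n) t ∈ stabilizer G a := by
        rw [mem_stabilizer_iff, mul_smul, ih, ← mul_smul ((u : G) ^ n) t a, inv_smul_smul]
      have h2 := hst.2 hm
      rw [map_mul, map_inv, map_mul, map_pow, hα u u.2, mem_stabilizer_iff, mul_smul, inv_smul_eq_iff, mul_smul,
        ← hu', ← mul_smul, ← pow_succ] at h2
      rw [pow_succ' α, MulAut.mul_apply, h2]
  have h1 := hit (orderOf α)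
  rw [pow_orderOf_eq_one, MulAut.one_apply] at h1
  have h2 : (u : G) ^ orderOf α ∈ Q ⊓ stabilizer G (t • a) :=
    Subgroup.mem_inf.2 ⟨pow_mem u.2 _, h1.symm⟩
  rw [hS.inf_eq_bot, Subgroup.mem_bot] at h2
  refine aut_eq_one hs hα ?_
  rw [← hu', eq_one_of_odd_pow hs u.2 hodd h2, one_smul]

/-- A subgroup of odd order of the point stabiliser normalised by `Q` is trivial. -/
theorem odd_stab (hs : Simple G Ω a t Q) {X : Subgroup G} (hX : X ≤ stabilizer G a)
    (hn : Q ≤ Subgroup.normalizer (X : Set G)) (hodd : Odd (Nat.card X)) : X = ⊥ := by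
  have hS := hs.setup
  have hcomm : ∀ x ∈ X, ∀ p ∈ Q, x * p = p * x := by
    intro x hx p hp
    have h1 : x * p * x⁻¹ * p⁻¹ ∈ X := by
      rw [show x * p * x⁻¹ * p⁻¹ = x * (p * x⁻¹ * p⁻¹) by group]
      exact mul_mem hx ((Subgroup.mem_normalizer_iff.1 (hn hp) _).1 (inv_mem hx))
    have h2 : x * p * x⁻¹ * p⁻¹ ∈ Q := mul_mem (hS.conj_mem x (hX hx) p hp) (inv_mem hp)
    have := eq_one_of_odd_pow hs h2 (orderOf_odd_mem hodd h1) (pow_orderOf_eq_one _)
    exact mul_inv_eq_iff_eq_mul.1 (mul_inv_eq_one.1 this)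
  refine (Subgroup.eq_bot_iff_forall X).2 fun x hx => ?_
  have hxa : x • a = a := hX hx
  have hne : x • t • a ≠ a := fun h => ta_ne hS (smul_left_cancel x (h.trans hxa.symm))
  obtain ⟨u, hu, -⟩ := regular hS (ta_ne hS) hne
  have hu' : (u : G) • t • a = x • t • a := hu
  have hit : ∀ n : ℕ, x ^ n • t • a = (u : G) ^ n • t • a := by
    intro n
    induction n with
    | zero => simp
    | succ n ih =>
      rw [pow_succ' x, mul_smul, ih, ← mul_smul, hcomm x hx _ (pow_mem u.2 n), mul_smul, ← hu', ← mul_smul,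
        ← pow_succ]
  have h1 := hit (orderOf x)
  rw [pow_orderOf_eq_one, one_smul] at h1
  have h2 : (u : G) ^ orderOf x ∈ Q ⊓ stabilizer G (t • a) :=
    Subgroup.mem_inf.2 ⟨pow_mem u.2 _, h1.symm⟩
  rw [hS.inf_eq_bot, Subgroup.mem_bot] at h2
  refine eq_one_of_fix hs hxa ?_ (hcomm x hx)
  rw [← hu', eq_one_of_odd_pow hs u.2 (orderOf_odd_mem hodd hx) h2, one_smul]

/-- An involutory automorphism trivial on `Z` and on `Q / Z` is conjugation by an element of `Z`. -/
theorem inner (hs : Simple G Ω a t Q) {α : MulAut G} (h2 : α * α = 1) (hZ : ∀ z ∈ zGroup hs, α z = z)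
    (hQ : ∀ p ∈ Q, p⁻¹ * α p ∈ zGroup hs) : ∃ v ∈ zGroup hs, α = MulAut.conj v := by
  haveI := hs.faithful
  have hS := hs.setup
  have hαQ : ∀ p ∈ Q, α p ∈ Q := fun p hp => by
    have := mul_mem hp (zGroup_le hs (hQ p hp))
    rwa [mul_inv_cancel_left] at this
  have hst := fun {g : G} => aut_stab hs α (g := g) hαQ
  have hne : α t • a ≠ a := fun h => hS.not_mem (hst.1 (mem_stabilizer_iff.2 h))
  obtain ⟨u, hu, -⟩ := regular hS (ta_ne hS) hne
  have hu' : (u : G) • t • a = α t • a := hu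
  set β : MulAut G := MulAut.conj (u : G)⁻¹ * α with hβdef
  have hβ : ∀ g, β g = (u : G)⁻¹ * α g * u := fun g => by
    rw [hβdef, MulAut.mul_apply, MulAut.conj_apply, inv_inv]
  have hβZ : ∀ z ∈ zGroup hs, β z = z := fun z hz => by
    rw [hβ, hZ z hz, mul_assoc, zGroup_comm hs hz u.2, inv_mul_cancel_left]
  have hβQ : ∀ p ∈ Q, p⁻¹ * β p ∈ zGroup hs := fun p hp => by
    have hz := hQ p hp
    rw [hβ, show p⁻¹ * ((u : G)⁻¹ * α p * u) =
      p⁻¹ * (u : G)⁻¹ * p * ((p⁻¹ * α p) * u) by group, zGroup_comm hs hz u.2,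
      show p⁻¹ * (u : G)⁻¹ * p * (u * (p⁻¹ * α p)) = (p⁻¹ * (u : G)⁻¹ * p⁻¹⁻¹ * (u : G)⁻¹⁻¹) * (p⁻¹ * α p) by group]
    exact mul_mem (comm_mem hs (inv_mem hp) (inv_mem u.2)) hz
  have hβQ' : ∀ p ∈ Q, β p ∈ Q := fun p hp => by
    have := mul_mem hp (zGroup_le hs (hβQ p hp))
    rwa [mul_inv_cancel_left] at this
  have hstβ := fun {g : G} => aut_stab hs β (g := g) hβQ'
  have hβt : β t • a = t • a := by
    rw [hβ, mul_smul, fix_a hS u.2, mul_smul, ← hu', inv_smul_smul]
  -- `β` fixes the two-point stabiliser pointwise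
  have hD : ∀ d ∈ twoStab Ω a t, β d = d := by
    intro d hd
    obtain ⟨hda, hdt⟩ := Subgroup.mem_inf.1 hd
    have h1 : β d ∈ stabilizer G a := hstβ.2 hda
    have h3 : β d • t • a = t • a := by
      have hm : t⁻¹ * d * t ∈ stabilizer G a := by
        rw [mem_stabilizer_iff, mul_smul, mul_smul, show d • t • a = t • a from hdt, inv_smul_smul]
      have h4 := hstβ.2 hm
      rw [map_mul, map_mul, map_inv, mem_stabilizer_iff, mul_smul, mul_smul, inv_smul_eq_iff, hβt] at h4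
      exact h4
    set c := d⁻¹ * β d with hc
    have hcD : c ∈ twoStab Ω a t := mul_mem (inv_mem hd) (Subgroup.mem_inf.2 ⟨h1, h3⟩)
    have hcZ : ∀ z ∈ zGroup hs, c * z * c⁻¹ = z := fun z hz => by
      have h5 := hβZ _ (stab_mem_zGroup hs hda hz)
      rw [map_mul, map_mul, map_inv, hβZ z hz] at h5
      rw [hc, show d⁻¹ * β d * z * (d⁻¹ * β d)⁻¹ = d⁻¹ * (β d * z * (β d)⁻¹) * d by group, h5]
      group
    have hcQ : ∀ p ∈ Q, c * p = p * c := by
      intro p hp
      obtain ⟨p', hp', e⟩ : ∃ p' ∈ Q, β p' = p := by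
        have hm : Q.map β.toMonoidHom = Q := Subgroup.eq_of_le_of_card_ge
          (by rintro _ ⟨x, hx, rfl⟩; exact hβQ' x hx) (Subgroup.card_map_of_injective β.injective).ge
        rw [← hm] at hp
        obtain ⟨x, hx, e⟩ := hp
        exact ⟨x, hx, e⟩
      have hz1 : p'⁻¹ * p ∈ zGroup hs := e ▸ hβQ p' hp'
      have hz2 := hβQ _ (hS.conj_mem d hda p' hp')
      rw [map_mul, map_mul, map_inv, e] at hz2
      set z2 := (d * p' * d⁻¹)⁻¹ * (β d * p * (β d)⁻¹) with hz2d
      set z := (p'⁻¹ * p)⁻¹ * (d⁻¹ * z2 * d) with hz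
      have hzm : z ∈ zGroup hs := mul_mem (inv_mem hz1) (by
        simpa using stab_mem_zGroup hs (inv_mem hda) hz2)
      have e1 : c * p * c⁻¹ = p * z := by rw [hc, hz, hz2d]; group
      have hit : ∀ n : ℕ, c ^ n * p * (c ^ n)⁻¹ = p * z ^ n := by
        intro n
        induction n with
        | zero => simp
        | succ n ih =>
          rw [pow_succ' c, show c * c ^ n * p * (c * c ^ n)⁻¹ = c * (c ^ n * p * (c ^ n)⁻¹) * c⁻¹ by group, ih,
            show c * (p * z ^ n) * c⁻¹ = (c * p * c⁻¹) * (c * z ^ n * c⁻¹) by group, e1,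
            hcZ _ (pow_mem hzm n), pow_succ' z]
          group
      have h6 := hit (orderOf c)
      rw [pow_orderOf_eq_one, one_mul, inv_one, mul_one, left_eq_mul] at h6
      have h7 := eq_one_of_odd_pow hs (zGroup_le hs hzm) (orderOf_odd_mem hS.odd_card hcD) h6
      rw [h7, mul_one, mul_inv_eq_iff_eq_mul] at e1
      exact e1
    have h8 := eq_one_of_fix hs (Subgroup.mem_inf.1 hcD).1 (Subgroup.mem_inf.1 hcD).2 hcQ
    exact (inv_mul_eq_one.1 h8).symm
  -- the commutator map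
  let δ : Q →* Q := MonoidHom.mk' (fun p => ⟨(p : G)⁻¹ * β p, zGroup_le hs (hβQ p p.2)⟩) fun p r => by
    refine Subtype.ext ?_
    show ((p : G) * r)⁻¹ * β (p * r) = (p : G)⁻¹ * β p * ((r : G)⁻¹ * β r)
    rw [map_mul, show ((p : G) * r)⁻¹ * (β p * β r) = (r : G)⁻¹ * ((p : G)⁻¹ * β p) * β r by group,
      ← zGroup_comm hs (hβQ p p.2) (inv_mem r.2)]
    group
  have hδ1 : ∀ p, (δ p : G) ∈ zGroup hs := fun p => hβQ p p.2
  have hδZ : ∀ p : Q, (p : G) ∈ zGroup hs → δ p = 1 := fun p hp => Subtype.ext (by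
    show (p : G)⁻¹ * β p = 1
    rw [hβZ p hp, inv_mul_cancel])
  have hδd : ∀ d ∈ twoStab Ω a t, ∀ p r : Q, (r : G) = d * p * d⁻¹ → (δ r : G) = d * δ p * d⁻¹ := by
    intro d hd p r e
    show (r : G)⁻¹ * β r = d * ((p : G)⁻¹ * β p) * d⁻¹
    rw [e, map_mul, map_mul, map_inv, hD d hd]
    group
  have hδ : δ = 1 := by
    rcases (good hs).dich with ⟨-, hn⟩ | ⟨-, hn, hna⟩ | ⟨hL, hn, hna, hV⟩
    · refine MonoidHom.ext fun p => hδZ p ?_
      rcases eq_or_ne (p : G) 1 with e | e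
      · rw [e]; exact one_mem _
      · exact (mem_zGroup hs).2 (Or.inr (invl_eq hs hn p.2 e))
    · exact suz_kills hs hn hna δ hδ1 hδZ fun k hk => hδd k hk.1
    · refine centI_kills hs hL hn hna hV δ hδZ fun w hw p r e => Subtype.ext ?_
      rw [hδd w (Subgroup.mem_inf.1 hw).1 p r e, centI_comm hs hw (hδ1 p)]
  have hβ1 : β = 1 := aut_eq_one hs (fun p hp => by
    have h : (p : G)⁻¹ * β p = 1 :=
      (congrArg Subtype.val (DFunLike.congr_fun hδ (⟨p, hp⟩ : Q)) :)
    exact (inv_mul_eq_one.1 h).symm) hβt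
  have hα : α = MulAut.conj (u : G) := by
    rw [hβdef, map_inv, inv_mul_eq_one] at hβ1
    exact hβ1.symm
  refine ⟨u, mem_zGroup_of_sq hs u.2 ?_, hα⟩
  haveI := hs.simple
  have hc : Subgroup.center G = ⊥ := by
    refine ((inferInstance : (Subgroup.center G).Normal).eq_bot_or_eq_top).resolve_right fun e => hS.not_mem ?_
    obtain ⟨s, hs'⟩ := exists_invol hS
    rw [mem_stabilizer_iff]
    exact fix_only hS (inv_mem_Q hS hs'.1 hs'.2.2) hs'.2.1 (by
      have ht : t ∈ Subgroup.center G := e.symm ▸ Subgroup.mem_top t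
      rw [← mul_smul, Subgroup.mem_center_iff.1 ht s, mul_smul, show s • a = a from hs'.1])
  refine Subgroup.mem_bot.1 (hc ▸ Subgroup.mem_center_iff.2 fun g => ?_)
  rw [hα, ← map_mul] at h2
  have h9 := DFunLike.congr_fun h2 g
  rw [MulAut.conj_apply, MulAut.one_apply, mul_inv_eq_iff_eq_mul] at h9
  exact h9.symm

end Cfsg.Lib.Goldschmidt.Rk
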