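import Cfsg.Agent.Goldschmidt.S1.Facts
import Cfsg.Agent.Goldschmidt.S1.RankAut
import Cfsg.Agent.Walter.CI.Embedded

/-!
The facts for simple groups with a strongly embedded subgroup.
-/

set_option autoImplicit false
set_option linter.unusedSectionVars false
set_option linter.style.haveILetI false

namespace Cfsg.Lib.Goldschmidt

open Subgroup MulAction Cfsg.Lib.BenderSuzuki Cfsg.Lib.RankOne

universe u

variable {X : Type u} [Group X] [Finite X]

theorem exists_rankOne [IsSimpleGroup X] (hna : ¬ IsMulCommutative X)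
    (hH : ∃ H : Subgroup X, Cfsg.IsStronglyEmbedded H) (P : Sylow 2 X) :
    ∃ (H : Subgroup X) (t : X), Simple X (X ⧸ H) ((1 : X) : X ⧸ H) t (P : Subgroup X) ∧
      normalizer ((P : Subgroup X) : Set X) = H := by
  haveI : Fact (Nat.Prime 2) := ⟨Nat.prime_two⟩
  obtain ⟨H, hp⟩ := Walter.CI.exists_pair hna hH P
  have hPH : (P : Subgroup X) ≤ H := le_normalizer.trans hp.norm.le
  have hPn : ((P : Subgroup X).subgroupOf H).Normal :=
    (normal_subgroupOf_iff_le_normalizer hPH).2 hp.norm.ge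
  have hreg : ∀ g : X, g ∉ H → ∀ u ∈ (P : Subgroup X), g⁻¹ * (u * g) ∈ H → u = 1 := by
    intro g hg u hu h
    by_contra hu1
    obtain ⟨j, hj⟩ := IsPGroup.iff_orderOf.1 P.2 ⟨u, hu⟩
    have hj1 : j ≠ 0 := fun e => by
      rw [e, pow_zero, orderOf_eq_one_iff] at hj
      exact hu1 (congrArg Subtype.val hj)
    have hdvd : 2 ∣ orderOf u := by
      rw [← Subgroup.orderOf_mk u hu, hj]; exact dvd_pow_self 2 hj1
    set i := u ^ (orderOf u / 2)
    have hi : orderOf i = 2 := orderOf_pow_orderOf_div (orderOf_pos u).ne' hdvd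
    have hgi : g⁻¹ * i * g⁻¹⁻¹ ∈ H := by
      rw [← conj_pow, show g⁻¹ * u * g⁻¹⁻¹ = g⁻¹ * (u * g) by group]
      exact pow_mem h _
    exact hg (inv_mem_iff.1 (Cfsg.Lib.StrongEmb.conj_eq hp.se hi (hPH (pow_mem hu _)) hgi))
  obtain ⟨t, ht, ht2⟩ := exists_invol_out H hp.se
  have hS := embedded_setup H hp.se (P : Subgroup X) hPH hPn hp.trans hreg ht ht2
  haveI : FaithfulSMul X (X ⧸ H) := by
    constructor
    intro x y h
    have hk : y⁻¹ * x ∈ H.normalCore := by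
      rw [Subgroup.normalCore_eq_ker, MonoidHom.mem_ker]
      refine Equiv.ext fun p => ?_
      show (y⁻¹ * x) • p = p
      rw [mul_smul, h p, inv_smul_smul]
    rw [BenderSE.normalCore_eq_bot_of_simple hp.se, mem_bot, inv_mul_eq_one] at hk
    exact hk.symm
  obtain ⟨p, q, hp', hq, hne, hc⟩ := BenderSE.comm_of_nonab hp.se hna
  have hne1 : ∀ {x : X}, orderOf x = 2 → x ≠ 1 := fun {x} hx e => by
    rw [e, orderOf_one] at hx; omega
  exact ⟨H, t, ⟨hS, inferInstance, ⟨p, q, hne1 hp', hne1 hq, hne,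
    by rw [← pow_two, ← hp', pow_orderOf_eq_one], by rw [← pow_two, ← hq, pow_orderOf_eq_one], hc⟩,
    inferInstance⟩, hp.norm⟩

theorem bender_facts [IsSimpleGroup X] (hna : ¬ IsMulCommutative X)
    (hH : ∃ H : Subgroup X, Cfsg.IsStronglyEmbedded H) (P : Sylow 2 X) : SimpleFacts P := by
  haveI : Fact (Nat.Prime 2) := ⟨Nat.prime_two⟩
  obtain ⟨H, t, hs, hN⟩ := exists_rankOne hna hH P
  set a : X ⧸ H := ((1 : X) : X ⧸ H)
  haveI := hs.faithful
  have hS := hs.setup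
  have hst : stabilizer X a = H := MulAction.stabilizer_quotient H
  have hInv : ∀ {i : X}, Inv (P : Subgroup X) i ↔ i ∈ zGroup hs := fun {i} =>
    ⟨fun h => mem_zGroup_of_sq hs h.1 h.2, fun h => ⟨zGroup_le hs h, involGroup_sq hS hs.two h⟩⟩
  have hinvl : ∀ {i : X}, Inv (P : Subgroup X) i → i ≠ 1 → i ∈ invl X a := fun h h1 =>
    ((mem_zGroup hs).1 (hInv.1 h)).resolve_left h1
  obtain ⟨C, hC, hcyc, -⟩ := inverted_subgroup hS hs.two
  have hCmem : ∀ k, k ∈ C ↔ k ∈ invK (X ⧸ H) a t := fun k => Set.ext_iff.1 hC k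
  have hCN : ∀ k ∈ C, k ∈ normalizer ((P : Subgroup X) : Set X) := fun k hk => by
    rw [hN, ← hst]; exact (Subgroup.mem_inf.1 ((hCmem k).1 hk).1).1
  have hcz : Nat.card {i // Inv (P : Subgroup X) i} = qNum X a := by
    rw [← card_zGroup hs]
    exact Nat.card_congr (Equiv.subtypeEquivRight fun i => hInv)
  have hnorm : ∀ g : X, (∀ i, Inv (P : Subgroup X) i → Inv (P : Subgroup X) (g * i * g⁻¹)) →
      g ∈ normalizer ((P : Subgroup X) : Set X) := by
    intro g hg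
    obtain ⟨s, hs'⟩ := exists_invol hS
    have hsI : Inv (P : Subgroup X) s := ⟨inv_mem_Q hS hs'.1 hs'.2.2, hs'.2.2⟩
    rw [hN, ← hst]
    exact fix_only hS (hg s hsI).1 (fun e => hs'.2.1 (conj_eq_one_iff.1 e))
      (by rw [mul_smul, mul_smul, inv_smul_smul, fix_a hS hsI.1])
  refine
    { central := fun i hi x hx => zGroup_comm hs (hInv.1 hi) hx
      sq := fun x hx => hInv.2 (Rk.sq_mem hs hx)
      two := ?_
      norm := hnorm
      rot := ?_
      inner := fun α h2 hfix hd => ?_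
      bal := fun _ v hv hv1 => ⟨fun D hD hDC hCn => ?_, fun e he hfix => ?_⟩
      kill := fun h4 ⟨x, hx, hx1⟩ => ?_ }
  · obtain ⟨x, hx, y, hy, hxy⟩ := exists_two_invl hs
    exact ⟨x, y, hInv.2 ((mem_zGroup hs).2 (Or.inr hx)), hInv.2 ((mem_zGroup hs).2 (Or.inr hy)),
      hx.2.1, hy.2.1, hxy⟩
  · obtain ⟨r, hr⟩ := hcyc.exists_generator
    have hpow : ∀ k ∈ C, ∃ n : ℕ, (r : X) ^ n = k := fun k hk => by
      obtain ⟨n, hn⟩ := (mem_powers_iff_mem_zpowers.2 (hr ⟨k, hk⟩))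
      exact ⟨n, congrArg Subtype.val hn⟩
    have hrinv : ∀ n : ℕ, (r : X) ^ n ∈ invK (X ⧸ H) a t := fun n => (hCmem _).1 (pow_mem r.2 n)
    refine ⟨r, hCN _ r.2, orderOf_odd_mem hS.odd_card ((hCmem _).1 r.2).1, fun i j hi hj hi1 hj1 => ?_,
      fun k i hi hi1 hfix j _ => ?_, fun g hg => Or.inl ?_⟩
    · obtain ⟨k, hk, e⟩ := conj_surj hS (hinvl hi hi1) (hinvl hj hj1)
      obtain ⟨n, hn⟩ := hpow k⁻¹ (inv_mem ((hCmem k).2 hk))
      exact ⟨n, by rw [hn, inv_inv]; exact e⟩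
    · have h1 : ((r : X) ^ k)⁻¹ = 1 := by
        refine conj_inj hS (hinvl hi hi1) ((hCmem _).1 (inv_mem (pow_mem r.2 k))) ((hCmem 1).1 (one_mem _)) ?_
        rw [inv_inv, hfix, inv_one, one_mul, mul_one]
      rw [inv_eq_one] at h1
      rw [h1, one_mul, inv_one, mul_one]
    · rw [hN, ← hst] at hg
      obtain ⟨q, hq, d, hd, rfl⟩ := Cfsg.Lib.RankOne.qd hS hg
      obtain ⟨k, hk, w, hw, rfl⟩ := Rk.twoStab_eq hs hd
      obtain ⟨n, hn⟩ := hpow k ((hCmem k).2 hk)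
      refine ⟨n, fun i hi => ?_⟩
      have hz := hInv.1 hi
      have hka : k ∈ stabilizer X a := (Subgroup.mem_inf.1 hk.1).1
      have h1 := Rk.centI_comm hs hw hz
      have h2 := zGroup_comm hs (zGroup_conj hs hz hka) hq
      rw [hn]
      calc q * (k * w) * i * (q * (k * w))⁻¹ = q * (k * (w * i * w⁻¹) * k⁻¹) * q⁻¹ := by group
        _ = (k * i * k⁻¹ * q) * q⁻¹ := by rw [h1, h2]
        _ = _ := by group
  · obtain ⟨v, hv, e⟩ := Rk.inner hs h2 (fun z hz => hfix z (hInv.2 hz)) fun p hp => hInv.1 (hd p hp)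
    exact ⟨v, hInv.2 hv, e⟩
  · have hvc : centralizer ({v} : Set X) ≤ stabilizer X a := fun g hg => by
      have hgv : g * v * g⁻¹ = v := by
        rw [mem_centralizer_singleton_iff.1 hg, mul_inv_cancel_right]
      exact fix_only hS hv.1 hv1 (by
        conv_lhs => rw [← hgv]
        rw [mul_smul, mul_smul, inv_smul_smul, fix_a hS hv.1])
    exact Rk.odd_stab hs (hDC.trans hvc)
      (fun q hq => hCn (mem_centralizer_singleton_iff.2 (zGroup_comm hs (hInv.1 hv) hq).symm)) hD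
  · exact Rk.odd_aut hs he fun p hp => hfix p (zGroup_comm hs (hInv.1 hv) hp).symm
  · rw [hcz] at h4
    have hcZ := card_zGroup hs
    rcases (Rk.good hs).dich with ⟨-, hn⟩ | ⟨hL, hn, hna'⟩ | ⟨hL, hn, hna', hV⟩
    · exact absurd ((invl_eq hs hn hx fun e => hx1 (by rw [e, one_mul])).2.2) hx1
    · have := (Rk.torus_suzuki hs hL hn hna').1
      omega
    · obtain ⟨⟨w, hw⟩, hw1⟩ := Subgroup.ne_bot_iff_exists_ne_one.1 hV
      have hwD : w ∈ twoStab (X ⧸ H) a t := (Subgroup.mem_inf.1 hw).1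
      refine ⟨w, ?_, orderOf_odd_mem hS.odd_card hwD, fun i hi => Rk.centI_comm hs hw (hInv.1 hi),
        fun M _ δ hZ hδ => ?_⟩
      · rw [hN, ← hst]; exact (Subgroup.mem_inf.1 hwD).1
      · refine Rk.centI_kills_one hs hL hn hna' hV hw (fun e => hw1 (Subtype.ext e)) δ
          (fun p hp => hZ p (hInv.2 hp)) fun p r e => hδ p r e

end Cfsg.Lib.Goldschmidt
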