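import Cfsg.Prelude.Def_TwoFusion
import Cfsg.Agent.Walter.Setting

/-!
What is used of the simple groups with a strongly closed abelian 2-subgroup: definitions.
-/

set_option autoImplicit false
set_option linter.unusedSectionVars false

namespace Cfsg.Lib.Goldschmidt

open Subgroup

universe u

variable {X : Type u} [Group X] [Finite X]

/-- An element of `P` of order at most two. -/
def Inv (P : Subgroup X) (i : X) : Prop := i ∈ P ∧ i * i = 1

/-- `PSL(2, q)` with `q ≡ 3, 5 (mod 8)` and `q > 5`. -/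
def Small (X : Type u) [Group X] [Finite X] : Prop := GWFour.IsSmallSylowPSL X ∧ Nat.card X ≠ 60

/-- The facts on a simple group with Sylow 2-subgroup `P`. -/
structure SimpleFacts (P : Sylow 2 X) : Prop where
  central : ∀ i, Inv (P : Subgroup X) i → ∀ x ∈ P, i * x = x * i
  sq : ∀ x ∈ P, Inv (P : Subgroup X) (x * x)
  two : ∃ i j, Inv (P : Subgroup X) i ∧ Inv (P : Subgroup X) j ∧ i ≠ 1 ∧ j ≠ 1 ∧ i ≠ j
  norm : ∀ g : X, (∀ i, Inv (P : Subgroup X) i → Inv (P : Subgroup X) (g * i * g⁻¹)) →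
    g ∈ normalizer ((P : Subgroup X) : Set X)
  rot : ∃ r ∈ normalizer ((P : Subgroup X) : Set X), Odd (orderOf r) ∧
    (∀ i j, Inv (P : Subgroup X) i → Inv (P : Subgroup X) j → i ≠ 1 → j ≠ 1 → ∃ k : ℕ, r ^ k * i * (r ^ k)⁻¹ = j) ∧
    (∀ (k : ℕ) i, Inv (P : Subgroup X) i → i ≠ 1 → r ^ k * i * (r ^ k)⁻¹ = i →
      ∀ j, Inv (P : Subgroup X) j → r ^ k * j * (r ^ k)⁻¹ = j) ∧
    ∀ g ∈ normalizer ((P : Subgroup X) : Set X),
      (∃ k : ℕ, ∀ i, Inv (P : Subgroup X) i → g * i * g⁻¹ = r ^ k * i * (r ^ k)⁻¹) ∨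
        (Nat.card {i // Inv (P : Subgroup X) i} = 8 ∧ ∀ i, Inv (P : Subgroup X) i → g ^ 3 * i * (g ^ 3)⁻¹ = i)
  inner : ∀ α : MulAut X, α * α = 1 → (∀ i, Inv (P : Subgroup X) i → α i = i) →
    (∀ x ∈ P, Inv (P : Subgroup X) (x⁻¹ * α x)) → ∃ v, Inv (P : Subgroup X) v ∧ α = MulAut.conj v
  bal : ¬ Small X → ∀ v, Inv (P : Subgroup X) v → v ≠ 1 →
    (∀ D : Subgroup X, Odd (Nat.card D) → D ≤ centralizer ({v} : Set X) →
      centralizer ({v} : Set X) ≤ normalizer (D : Set X) → D = ⊥) ∧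
    ∀ e : MulAut X, Odd (orderOf e) → (∀ y, y * v = v * y → e y = y) → e = 1
  kill : Nat.card {i // Inv (P : Subgroup X) i} = 4 → (∃ x ∈ P, x * x ≠ 1) →
    ∃ w ∈ normalizer ((P : Subgroup X) : Set X), Odd (orderOf w) ∧
      (∀ i, Inv (P : Subgroup X) i → w * i * w⁻¹ = i) ∧
      ∀ (M : Type u) [Group M] (δ : ↥(P : Subgroup X) →* M),
        (∀ p : ↥(P : Subgroup X), Inv (P : Subgroup X) (p : X) → δ p = 1) →
        (∀ p q : ↥(P : Subgroup X), (q : X) = w * p * w⁻¹ → δ q = δ p) → δ = 1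

end Cfsg.Lib.Goldschmidt
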