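import Cfsg.Agent.Goldschmidt.S1.Balance
import Mathlib.GroupTheory.Sylow

/-!
The group is the product of the moved components and `N(A)`.
-/

set_option autoImplicit false
set_option linter.unusedSectionVars false
set_option linter.style.haveILetI false

namespace Cfsg.Lib.Goldschmidt

open Subgroup Cfsg.Lib.Components

universe u

variable {X : Type u} [Group X] [Finite X]

namespace CoreFree

variable {T : Sylow 2 X} {A : Subgroup X} (h : CoreFree T A)
include h

theorem pCore_norm : (A ⊓ Cfsg.pCore 2 X).Normal := by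
  haveI : Fact (Nat.Prime 2) := ⟨Nat.prime_two⟩
  haveI hn : (Cfsg.pCore 2 X).Normal := normal_of_mem_sSup_normal fun _ h => h.1
  exact ⟨fun x hx g => ⟨h.closed.2 x hx.1 g (IsPGroup.le_sylow_of_normal (isPGroup_pCore 2) T
    (hn.conj_mem x hx.2 g)), hn.conj_mem x hx.2 g⟩⟩

/-- What centralises the layer lies in `O_2`. -/
theorem cent_layer {a : X} (ha : a ∈ A) (hc : a ∈ centralizer (Cfsg.layer X : Set X)) : a ∈ Cfsg.pCore 2 X := by
  haveI : Fact (Nat.Prime 2) := ⟨Nat.prime_two⟩
  set O := Cfsg.pCore 2 X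
  haveI hn : O.Normal := normal_of_mem_sSup_normal fun _ h => h.1
  set W := A ⊓ O
  haveI hW : W.Normal := h.pCore_norm
  set π := QuotientGroup.mk' W
  haveI : (O.map π).Normal := hn.map π (QuotientGroup.mk'_surjective W)
  set K := (centralizer (O.map π : Set (X ⧸ W))).comap π ⊓ centralizer (W : Set X) ⊓
    centralizer (Cfsg.layer X : Set X) with hKd
  haveI : K.Normal := by rw [hKd]; infer_instance
  have hK : IsPGroup 2 ↥K := by
    rintro ⟨g, ⟨hg1, hg2⟩, hg3⟩
    have hu : ∀ u ∈ O, g * g * u = u * (g * g) := by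
      intro u hu
      have h1 : π g * π u = π u * π g := (mem_centralizer_iff.1 hg1 (π u) (mem_map_of_mem π hu)).symm
      rw [← map_mul, ← map_mul] at h1
      have hw : (u * g)⁻¹ * (g * u) ∈ W := QuotientGroup.eq.1 h1.symm
      set w := (u * g)⁻¹ * (g * u) with hwd
      have hwg : w * g = g * w := mem_centralizer_iff.1 hg2 w hw
      have e : g * u = u * g * w := by rw [hwd]; group
      calc g * g * u = g * (u * g * w) := by rw [mul_assoc, e]
        _ = (g * u) * (g * w) := by group
        _ = u * g * (w * g) * w := by rw [e]; group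
        _ = u * (g * g) * (w * w) := by rw [hwg]; group
        _ = _ := by rw [h.sq w hw.1, mul_one]
    have hF : g * g ∈ centralizer (Cfsg.generalizedFittingSubgroup X : Set X) := by
      have : Cfsg.generalizedFittingSubgroup X ≤ centralizer ({g * g} : Set X) := by
        refine sup_le (fun y hy => mem_centralizer_singleton_iff.2
          (mem_centralizer_iff.1 (mul_mem hg3 hg3) y hy)) ?_
        rw [fitting_eq_pCore h.core]
        exact fun y hy => mem_centralizer_singleton_iff.2 (hu y hy).symm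
      exact mem_centralizer_iff.2 fun y hy => mem_centralizer_singleton_iff.1 (this hy)
    haveI : (Cfsg.generalizedFittingSubgroup X).Normal := by
      unfold Cfsg.generalizedFittingSubgroup
      infer_instance
    set K' := centralizer (Cfsg.generalizedFittingSubgroup X : Set X)
    have hK' : K' ≤ O := by
      show K' ≤ Cfsg.pCore 2 X
      rw [← fitting_eq_pCore h.core]
      refine le_fitting_of_subnormal (Subgroup.Normal.isSubnormal inferInstance) ?_
      letI : CommGroup ↥K' := { (inferInstance : Group ↥K') with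
        mul_comm := fun p q => Subtype.ext (mem_centralizer_iff.1 q.2 p (centralizer_genFitting_le p.2)) }
      infer_instance
    obtain ⟨k, hk⟩ := isPGroup_pCore 2 (G := X) ⟨g * g, hK' hF⟩
    have hk' : (g * g) ^ 2 ^ k = 1 := congrArg Subtype.val hk
    exact ⟨k + 1, Subtype.ext (by
      show g ^ 2 ^ (k + 1) = 1
      rw [pow_succ', pow_mul, pow_two, hk'])⟩
  have hKle : K ≤ O := le_pCore hK
  refine hKle ⟨⟨?_, mem_centralizer_iff.2 fun w hw => h.comm hw.1 ha⟩, hc⟩
  refine mem_centralizer_iff.2 ?_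
  rintro _ ⟨u, hu, rfl⟩
  rw [← map_mul, ← map_mul]
  refine QuotientGroup.eq.2 ⟨?_, ?_⟩
  · rw [show (u * a)⁻¹ * (a * u) = a⁻¹ * (u⁻¹ * a * u⁻¹⁻¹) by group]
    exact A.mul_mem (A.inv_mem ha)
      ((mem_normalizer_iff.1 (h.sylow_norm (IsPGroup.le_sylow_of_normal (isPGroup_pCore 2) T (inv_mem hu))) a).1 ha)
  · rw [show (u * a)⁻¹ * (a * u) = (a⁻¹ * u⁻¹ * a⁻¹⁻¹) * u by group]
    exact mul_mem (hn.conj_mem _ (inv_mem hu) _) hu

theorem le_layer_sup : A ≤ Cfsg.layer X ⊔ (A ⊓ Cfsg.pCore 2 X) := by
  classical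
  intro a ha
  obtain ⟨s, hs, -⟩ := layer_eq_finset (G := X)
  have key : ∀ t : Finset (Subgroup X), (∀ L ∈ t, Cfsg.IsComponent L) →
      ∃ e ∈ A, e ∈ Cfsg.layer X ∧ ∀ L ∈ t, e⁻¹ * a ∈ centralizer (L : Set X) := by
    intro t
    induction t using Finset.induction with
    | empty => exact fun _ => ⟨1, one_mem _, one_mem _, fun L hL => absurd hL (Finset.notMem_empty L)⟩
    | insert L t hLt ih =>
      intro ht
      obtain ⟨e, heA, heE, he⟩ := ih fun K hK => ht K (Finset.mem_insert_of_mem hK)
      have hL := ht L (Finset.mem_insert_self L t)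
      have ha' : e⁻¹ * a ∈ A := mul_mem (inv_mem heA) ha
      by_cases hm : Mov A L
      · obtain ⟨v, hvA, hvL, hvc⟩ := h.exists_inner hL hm ha'
        refine ⟨e * v, mul_mem heA hvA, mul_mem heE (comp_le_layer hL hvL), fun K hK => ?_⟩
        rw [show (e * v)⁻¹ * a = v⁻¹ * (e⁻¹ * a) by group]
        rcases Finset.mem_insert.1 hK with rfl | hK'
        · exact hvc
        · refine mul_mem (inv_mem ?_) (he K hK')
          exact commutator_eq_bot_iff_le_centralizer.1
            (comp_commute hL (ht K hK) fun e => hLt (e ▸ hK')) hvL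
      · refine ⟨e, heA, heE, fun K hK => ?_⟩
        rcases Finset.mem_insert.1 hK with rfl | hK'
        · exact not_not.1 hm ha'
        · exact he K hK'
  obtain ⟨e, heA, heE, he⟩ := key s fun L hL => (hs L).1 hL
  have hc : e⁻¹ * a ∈ centralizer (Cfsg.layer X : Set X) := by
    have : Cfsg.layer X ≤ centralizer ({e⁻¹ * a} : Set X) := sSup_le fun L hL y hy =>
      mem_centralizer_singleton_iff.2 (mem_centralizer_iff.1 (he L ((hs L).2 hL)) y hy)
    exact mem_centralizer_iff.2 fun y hy => mem_centralizer_singleton_iff.1 (this hy)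
  have := mul_mem (mem_sup_left (T := A ⊓ Cfsg.pCore 2 X) heE) (mem_sup_right (S := Cfsg.layer X)
    (show e⁻¹ * a ∈ A ⊓ Cfsg.pCore 2 X from
      ⟨A.mul_mem (A.inv_mem heA) ha, h.cent_layer (mul_mem (inv_mem heA) ha) hc⟩))
  rwa [mul_inv_cancel_left] at this

/-- The generation. -/
theorem generated : (⊤ : Subgroup X) ≤
    (⨆ L : {L : Subgroup X // Cfsg.IsComponent L ∧ Mov A L}, (L : Subgroup X)) ⊔ normalizer (A : Set X) := by
  haveI : Fact (Nat.Prime 2) := ⟨Nat.prime_two⟩
  set W := A ⊓ Cfsg.pCore 2 X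
  haveI : W.Normal := h.pCore_norm
  set N := Cfsg.layer X ⊔ W
  haveI : N.Normal := inferInstance
  set R := (⨆ L : {L : Subgroup X // Cfsg.IsComponent L ∧ Mov A L}, (L : Subgroup X)) ⊔ normalizer (A : Set X)
  obtain ⟨P, hP⟩ := exists_sylow_above h.le h.le_layer_sup
  obtain ⟨Q, hQ⟩ := (P.2.map N.subtype).exists_le_sylow
  have hc := InvolCalc.stronglyClosed_sylow T Q (fun a ha => hQ ⟨⟨a, h.le_layer_sup ha⟩, hP ha, rfl⟩) h.closed
  have hn : normalizer (((P : Subgroup ↥N).map N.subtype : Subgroup X) : Set X) ≤ normalizer (A : Set X) := by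
    intro g hg
    refine ZStarApps.mem_normalizer_of_maps fun a ha => hc.2 a ha g (hQ ?_)
    exact (mem_normalizer_iff.1 hg a).1 ⟨⟨a, h.le_layer_sup ha⟩, hP ha, rfl⟩
  rw [← Sylow.normalizer_sup_eq_top P]
  refine sup_le (hn.trans le_sup_right) (sup_le (sSup_le fun L hL => ?_) ?_)
  · by_cases hm : Mov A L
    · exact (le_iSup (fun L : {L : Subgroup X // Cfsg.IsComponent L ∧ Mov A L} => (L : Subgroup X))
        ⟨L, hL, hm⟩).trans le_sup_left
    · refine le_trans (fun l hl => ?_) le_sup_right
      exact ZStarApps.mem_normalizer_of_maps fun a ha => by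
        rw [mem_centralizer_iff.1 (not_not.1 hm ha) l hl, mul_inv_cancel_right]
        exact ha
  · exact (inf_le_left.trans le_normalizer).trans le_sup_right

end CoreFree

end Cfsg.Lib.Goldschmidt
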