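import Cfsg.Agent.Goldschmidt.S1.Quot
import Cfsg.Agent.Components.TwoCompPair.Setting

/-!
L-balance along `Z_L`: a moved 2-component of `C(a)` goes into a moved 2-component of `C(b)`, `b ∈ Z_L`.
-/

set_option autoImplicit false
set_option linter.unusedSectionVars false
set_option linter.style.haveILetI false

namespace Cfsg.Lib.Goldschmidt

open Subgroup Cfsg.Lib.Components Cfsg.Lib.ZStarApps
open Cfsg.Lib.Walter (IsComp Triv Oc qm bar Qt)

universe u

variable {G : Type u} [Group G] [Finite G]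

private theorem mem_norm_inf {A B : Subgroup G} {g : G} (hA : g ∈ normalizer (A : Set G))
    (hB : g ∈ normalizer (B : Set G)) : g ∈ normalizer ((A ⊓ B : Subgroup G) : Set G) :=
  mem_normalizer_of_maps fun x hx =>
    ⟨(mem_normalizer_iff.1 hA x).1 hx.1, (mem_normalizer_iff.1 hB x).1 hx.2⟩

variable {S : Sylow 2 G} {A : Subgroup G} {t : G}

/-- Elements of `bar L` commuting with the image of `b` come from `L ∩ C(b)`. -/
theorem Loc.exists_fixed (h : Loc S A t) {L : Subgroup G} (hL : IsComp t L) {b : G} (hb : b ∈ A)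
    {l : G} (hl : l ∈ L)
    (hc : qm t ⟨b, h.cent hb⟩ * qm t ⟨l, hL.1 hl⟩ = qm t ⟨l, hL.1 hl⟩ * qm t ⟨b, h.cent hb⟩) :
    ∃ d, ∃ hd : d ∈ L ⊓ centralizer ({b} : Set G), qm t ⟨d, hL.1 hd.1⟩ = qm t ⟨l, hL.1 hl⟩ := by
  haveI : Fact (Nat.Prime 2) := ⟨Nat.prime_two⟩
  set Ct := centralizer ({t} : Set G)
  have hA2 : IsPGroup 2 ↥(zpowers b) := S.2.to_le (zpowers_le.2 (h.min.le hb))
  have hnN : ∀ x ∈ Ct, x ∈ normalizer (L : Set G) → x ∈ normalizer ((Oc t ⊓ L : Subgroup G) : Set G) :=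
    fun x hx hxL => mem_norm_inf (centralizer_le_normalizer_centralizerPPrimeCore t hx) hxL
  have hcop : (Nat.card ↥(zpowers b)).Coprime (Nat.card ↥(Oc t ⊓ L : Subgroup G)) := by
    obtain ⟨j, hj⟩ := IsPGroup.iff_card.1 hA2
    rw [hj]
    exact (((centralizerPPrimeCore_card_coprime t).coprime_dvd_left (card_dvd_of_le inf_le_left)).symm).pow_left j
  obtain ⟨n, hn, hfix⟩ := Cfsg.Lib.Coprime.exists_fixed_of_commutator_mem (A := zpowers b)
    (N := Oc t ⊓ L) (zpowers_le.2 (hnN b (h.cent hb) (h.le_norm hL hb))) hcop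
    (Or.inl (have := hA2.isNilpotent; inferInstance)) (hnN l (hL.1 hl) (le_normalizer hl)) fun a ha => by
      have haA : a ∈ A := zpowers_le.2 hb ha
      refine ⟨Walter.mem_Oc.2 ⟨mul_mem (mul_mem (mul_mem (h.cent haA) (hL.1 hl)) (inv_mem (h.cent haA)))
          (inv_mem (hL.1 hl)), ?_⟩, L.mul_mem ((mem_normalizer_iff.1 (h.le_norm hL haA) l).1 hl) (L.inv_mem hl)⟩
      obtain ⟨k, rfl⟩ := mem_zpowers_iff.1 ha
      show qm t ((⟨b, h.cent hb⟩ : Ct) ^ k * ⟨l, hL.1 hl⟩ * ((⟨b, h.cent hb⟩ : Ct) ^ k)⁻¹ * ⟨l, hL.1 hl⟩⁻¹) = 1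
      rw [map_mul, map_mul, map_mul, map_inv, map_inv, map_zpow,
        ((show Commute _ _ from hc).zpow_left k).eq, mul_inv_cancel_right, mul_inv_cancel]
  refine ⟨l * n, ⟨L.mul_mem hl hn.2, mem_centralizer_singleton_iff.2
    (mem_centralizer_iff.1 hfix b (mem_zpowers b)).symm⟩, ?_⟩
  obtain ⟨hnC, hne⟩ := Walter.mem_Oc.1 hn.1
  show qm t (⟨l, hL.1 hl⟩ * ⟨n, hnC⟩) = qm t ⟨l, hL.1 hl⟩
  rw [map_mul, hne, mul_one]

theorem Loc.lift_comp (h : Loc S A t) (ht : t ∈ A) {L : Subgroup G} {b : G} (hL : IsComp t L)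
    (hmov : ¬ A ≤ ZA A t L) (hb : b ∈ ZA A t L) (hb1 : b ≠ 1) :
    ∃ K, Moved A b K ∧ ZA A b K ≤ ZA A t L ∧
      L ⊓ centralizer ({b} : Set G) ≤ K ⊔ Oc b ⊔ (Oc t ⊓ centralizer ({b} : Set G)) := by
  classical
  haveI : Fact (Nat.Prime 2) := ⟨Nat.prime_two⟩
  have hbA : b ∈ A := hb.1
  have h' : Loc S A b := h.min.loc hbA hb1
  have hm : Mov (bar t A) (bar t L) := (h.mov_iff hL).2 hmov
  set Ct := centralizer ({t} : Set G) with hCt
  set Cb := centralizer ({b} : Set G) with hCb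
  set D := L ⊓ Cb with hD
  have hDt : D ≤ Ct := inf_le_left.trans hL.1
  have hDb : D ≤ Cb := inf_le_right
  let f : ↥D →* Qt t := (qm t).comp (inclusion hDt)
  let g : ↥D →* Qt b := (qm b).comp (inclusion hDb)
  have hbc := (h.za_iff hL hbA).1 hb
  have hrange : f.range = bar t L := by
    refine le_antisymm ?_ ?_
    · rintro _ ⟨d, rfl⟩
      exact ⟨inclusion hDt d, d.2.1, rfl⟩
    · rintro _ ⟨⟨l, hlC⟩, hl, rfl⟩
      obtain ⟨d, hd, e⟩ := h.exists_fixed hL hbA (show l ∈ L from hl)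
        (mem_centralizer_iff.1 hbc _ (mem_map_of_mem _ (show (⟨l, hlC⟩ : Ct) ∈ L.subgroupOf Ct from hl))).symm
      exact ⟨⟨d, hd⟩, e⟩
  have hqs : Cfsg.IsQuasisimple ↥f.range := qs_congr' (MulEquiv.subgroupCongr hrange.symm) (h.comp hL).2
  set f' := f.rangeRestrict with hf'
  have hf's : Function.Surjective f' := f.rangeRestrict_surjective
  set Zc := (center ↥f.range).comap f' with hZc
  have hker : f.ker = Cfsg.pPrimeCore 2 ↥D := by
    refine le_antisymm (le_pPrimeCore ?_) ?_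
    · refine (centralizerPPrimeCore_card_coprime t).coprime_dvd_left ?_
      rw [Nat.card_congr (f.ker.equivMapOfInjective D.subtype D.subtype_injective).toEquiv]
      refine card_dvd_of_le ?_
      rintro _ ⟨x, hx, rfl⟩
      exact Walter.mem_Oc.2 ⟨hDt x.2, MonoidHom.mem_ker.1 hx⟩
    · set N := (Cfsg.pPrimeCore 2 ↥D).map f'
      have hN : N.Normal := (pPrimeCore_normal' (G := ↥D) 2).map f' hf's
      have hNo : (Nat.card ↥N).Coprime 2 :=
        (coprime_card_pPrimeCore (G := ↥D) 2).coprime_dvd_left (card_map_dvd _ _)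
      have hbot : N = ⊥ := by
        rcases qs_subnormal_eq_top_or_le_center hqs hN.isSubnormal with e | e
        · exfalso
          rw [e, card_top, hrange] at hNo
          exact (Nat.Prime.coprime_iff_not_dvd Nat.prime_two).1 hNo.symm
            (comp_dvd_card h.coreFree.core (h.comp hL))
        · have h2 : IsPGroup 2 ↥(center ↥(bar t L)) := h.coreFree.center_two (h.comp hL)
          let ec : ↥(center ↥f.range) ≃* ↥(center ↥(bar t L)) :=
            Subgroup.centerCongr (MulEquiv.subgroupCongr hrange)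
          obtain ⟨m, hm2⟩ := IsPGroup.iff_card.1 (h2.of_equiv ec.symm)
          exact Subgroup.eq_bot_of_card_eq _ (Nat.eq_one_of_dvd_coprimes (hNo.pow_right m) dvd_rfl
            (hm2 ▸ card_dvd_of_le e))
      rw [Subgroup.map_eq_bot_iff, hf', MonoidHom.ker_rangeRestrict] at hbot
      exact hbot
  set R := Cfsg.pLayer 2 ↥D with hR
  haveI hRn : R.Normal := pLayer_normal
  have hsup : R ⊔ f.ker = ⊤ := by
    have hT : Cfsg.IsComponent (⊤ : Subgroup (↥D ⧸ Cfsg.pPrimeCore 2 ↥D)) :=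
      ⟨Subgroup.Normal.isSubnormal inferInstance, qs_congr' ((MulEquiv.subgroupCongr hrange.symm).trans
        ((QuotientGroup.quotientKerEquivRange f).symm.trans
          ((QuotientGroup.quotientMulEquivOfEq hker).trans Subgroup.topEquiv.symm))) (h.comp hL).2⟩
    have h1 : R.map (QuotientGroup.mk' (Cfsg.pPrimeCore 2 ↥D)) = ⊤ := by
      rw [hR, pLayer_map_q]; exact top_unique (comp_le_layer hT)
    rw [hker, ← comap_map_q, h1, comap_top]
  have hfR : ∀ d : ↥D, ∃ r ∈ R, f r = f d := fun d => by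
    obtain ⟨r, hr, o, ho, rfl⟩ := mem_sup_of_normal_right.1 (hsup ▸ mem_top d)
    exact ⟨r, hr, by rw [map_mul, MonoidHom.mem_ker.1 ho, mul_one]⟩
  -- membership in `Zc`
  have hZiff : ∀ p : ↥D, p ∈ Zc → f p ∈ centralizer (bar t L : Set (Qt t)) := fun p hp => by
    refine mem_centralizer_iff.2 fun q hq => ?_
    exact congrArg Subtype.val (mem_center_iff.1 hp ⟨q, hrange.ge hq⟩)
  -- subgroups normalised by the layer of `D`
  have hkey : ∀ N : Subgroup ↥D, N ≤ R → R ≤ normalizer (N : Set ↥D) → N ≤ Zc ∨ R ≤ N := by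
    intro N hNR hRN
    have hn : (N.map f').Normal := ⟨fun n hn y => by
      obtain ⟨x, hx, rfl⟩ := hn
      obtain ⟨d, rfl⟩ := hf's y
      obtain ⟨r, hr, hre⟩ := hfR d
      refine ⟨r * x * r⁻¹, (mem_normalizer_iff.1 (hRN hr) x).1 hx, ?_⟩
      have he : f' r = f' d := Subtype.ext hre
      rw [map_mul, map_mul, map_inv, he]⟩
    rcases qs_subnormal_eq_top_or_le_center hqs hn.isSubnormal with e | e
    · right
      have h1 := congrArg (Subgroup.comap f') e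
      rw [comap_map_eq, comap_top, hf', MonoidHom.ker_rangeRestrict, hker] at h1
      refine sSup_le fun K hK => pcomp_le_of_image_le hK
        (isSubnormal_of_normal_in hRn.isSubnormal hNR hRN) ?_
      refine (map_mono le_top).trans_eq ?_
      rw [← h1, Subgroup.map_sup, QuotientGroup.map_mk'_self, sup_bot_eq]
    · left
      exact (le_comap_map f' N).trans (comap_mono e)
  -- elements which are central modulo the centre
  have hcen : ∀ p : G, ∀ hp : p ∈ Ct, qm t ⟨p, hp⟩ ∈ normalizer (bar t L : Set (Qt t)) →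
      (∀ m ∈ R, qm t ⟨p, hp⟩ * f m * (qm t ⟨p, hp⟩)⁻¹ * (f m)⁻¹ ∈ centralizer (bar t L : Set (Qt t))) →
      qm t ⟨p, hp⟩ ∈ centralizer (bar t L : Set (Qt t)) := by
    intro p hp hpn hpm
    refine mem_centralizer_of_mod_center (h.comp hL) fun q hq => ?_
    obtain ⟨d, rfl⟩ := MonoidHom.mem_range.1 (hrange.ge hq)
    obtain ⟨r, hr, hre⟩ := hfR d
    rw [← hre]
    exact ⟨(bar t L).mul_mem ((mem_normalizer_iff.1 hpn _).1 (hre.symm ▸ hq))
      ((bar t L).inv_mem (hre.symm ▸ hq)), hpm r hr⟩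
  -- L-balance
  have hlay : ∀ x ∈ R, g x ∈ Cfsg.layer (Qt b) := by
    intro x hx
    have hsn : (D.subgroupOf (Cb ⊓ Ct)).IsSubnormal := by
      have he : D.subgroupOf (Cb ⊓ Ct) = (L.subgroupOf Ct).comap (inclusion (inf_le_right : Cb ⊓ Ct ≤ Ct)) := by
        ext y
        simp only [mem_subgroupOf, mem_comap, hD, mem_inf, coe_inclusion]
        exact and_iff_left y.2.1
      rw [he]; exact hL.2.1.comap _
    obtain ⟨y, hy, hye⟩ := TwoCompPair.LL_le_L (u := b) (w := t) (h.min.sq t ht) (h.min.comm t ht b hbA)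
      (TwoCompPair.pLayerOf_mono (le_inf hDb hDt) hsn (mem_map_of_mem D.subtype hx))
    have he : inclusion hDb x = y := Subtype.ext hye.symm
    show qm b (inclusion hDb x) ∈ _
    rw [he, ← pLayer_map_q]
    exact mem_map_of_mem _ hy
  have hnormG : ∀ H : Subgroup (Qt b), Cfsg.layer (Qt b) ≤ normalizer (H : Set (Qt b)) →
      R ≤ normalizer ((R ⊓ H.comap g : Subgroup ↥D) : Set ↥D) := fun H hH r hr =>
    mem_norm_inf (le_normalizer hr) (mem_normalizer_of_maps fun x hx => by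
      rw [mem_comap, map_mul, map_mul, map_inv]
      exact (mem_normalizer_iff.1 (hH (hlay r hr)) _).1 hx)
  -- `A ∩ L` lies in the layer of `D`
  have hPR : ∀ p (hp : p ∈ A ⊓ L), (⟨p, hp.2, h'.cent hp.1⟩ : ↥D) ∈ R := by
    intro p hp
    set p' : ↥D := ⟨p, hp.2, h'.cent hp.1⟩ with hp'
    obtain ⟨r, hr, o, ho, hro⟩ := mem_sup_of_normal_right.1 (hsup ▸ mem_top p')
    rw [← QuotientGroup.eq_one_iff (N := R)]
    have hq : QuotientGroup.mk' R p' = QuotientGroup.mk' R o := by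
      rw [← hro, map_mul, show QuotientGroup.mk' R r = 1 from (QuotientGroup.eq_one_iff r).2 hr, one_mul]
    have h2 : orderOf (QuotientGroup.mk' R p') ∣ 2 := (orderOf_map_dvd _ p').trans
      (orderOf_dvd_of_pow_eq_one (Subtype.ext (by rw [pow_two]; exact h.min.sq p hp.1)))
    have hodd : (orderOf (QuotientGroup.mk' R p')).Coprime 2 := by
      rw [hq]
      exact (hker ▸ coprime_card_pPrimeCore (G := ↥D) 2 : (Nat.card ↥f.ker).Coprime 2).coprime_dvd_left
        ((orderOf_map_dvd _ o).trans (Subgroup.orderOf_dvd_natCard _ ho))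
    exact orderOf_eq_one_iff.1 (Nat.eq_one_of_dvd_coprimes hodd dvd_rfl h2)
  obtain ⟨p₀, hp₀, hp₀Z⟩ : ∃ p ∈ A ⊓ L, p ∉ ZA A t L := by
    by_contra hcon
    push Not at hcon
    refine hmov fun x hx => ?_
    obtain ⟨v, hv, hvx⟩ := h.exists_part hL hm hx
    have := mul_mem (hcon v hv) hvx
    rwa [mul_inv_cancel_left] at this
  have hp₀f : (⟨p₀, hp₀.2, h'.cent hp₀.1⟩ : ↥D) ∉ Zc := fun e =>
    hp₀Z ((h.za_iff hL hp₀.1).2 (hZiff _ e))
  have hgker : ∀ x ∈ R, g x = 1 → x ∈ Zc := by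
    intro x hx hgx
    rcases hkey (R ⊓ g.ker) inf_le_left fun r hr => mem_norm_inf (le_normalizer hr)
        ((normalizer_eq_top g.ker).symm ▸ mem_top r) with e | e
    · exact e ⟨hx, hgx⟩
    · exact absurd (h'.qm_eq_one hp₀.1 (MonoidHom.mem_ker.1 (e (hPR p₀ hp₀)).2))
        fun e1 => hp₀Z (e1 ▸ one_mem _)
  have hnL : ∀ z, z ∈ A → ∀ hzt : z ∈ Ct, qm t ⟨z, hzt⟩ ∈ normalizer (bar t L : Set (Qt t)) := fun z hz _ =>
    h.coreFree.le_norm (h.comp hL) (h.mem_barA.2 ⟨z, hz, rfl⟩)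
  -- commutator of an element of `A` with `R`
  have hcomR : ∀ z (hzA : z ∈ A), ∀ m ∈ R, ∃ r ∈ R, (r : G) = z * m * z⁻¹ * (m : G)⁻¹ := by
    intro z hzA m hm'
    have hzD : z ∈ normalizer (D : Set G) :=
      mem_norm_inf (h.le_norm hL hzA) (le_normalizer (h'.cent hzA))
    have h1 := TwoCompPair.pLayerOf_map (MulAut.conj z).toMonoidHom (MulAut.conj z).injective D
    rw [show D.map (MulAut.conj z).toMonoidHom = D from mem_normalizer_iff_map_conj_eq.1 hzD] at h1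
    obtain ⟨r, hr, hre⟩ := h1.ge (mem_map_of_mem (MulAut.conj z).toMonoidHom (mem_map_of_mem D.subtype hm'))
    exact ⟨r * m⁻¹, mul_mem hr (inv_mem hm'), congrArg (· * (m : G)⁻¹) hre⟩
  have hfcom : ∀ z (hzA : z ∈ A) (m r : ↥D), (r : G) = z * m * z⁻¹ * (m : G)⁻¹ →
      f r = qm t ⟨z, h.cent hzA⟩ * f m * (qm t ⟨z, h.cent hzA⟩)⁻¹ * (f m)⁻¹ := by
    intro z hzA m r e
    show qm t (inclusion hDt r) = _
    rw [show inclusion hDt r = ⟨z, h.cent hzA⟩ * inclusion hDt m * ⟨z, h.cent hzA⟩⁻¹ * (inclusion hDt m)⁻¹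
      from Subtype.ext e, map_mul, map_mul, map_mul, map_inv, map_inv]
    rfl
  have hgcom : ∀ z (hzA : z ∈ A) (m r : ↥D), (r : G) = z * m * z⁻¹ * (m : G)⁻¹ →
      g r = qm b ⟨z, h'.cent hzA⟩ * g m * (qm b ⟨z, h'.cent hzA⟩)⁻¹ * (g m)⁻¹ := by
    intro z hzA m r e
    show qm b (inclusion hDb r) = _
    rw [show inclusion hDb r = ⟨z, h'.cent hzA⟩ * inclusion hDb m * ⟨z, h'.cent hzA⟩⁻¹ * (inclusion hDb m)⁻¹
      from Subtype.ext e, map_mul, map_mul, map_mul, map_inv, map_inv]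
    rfl
  -- the component
  obtain ⟨K', hK', hpK⟩ : ∃ K' : Subgroup (Qt b), Cfsg.IsComponent K' ∧
      g ⟨p₀, hp₀.2, h'.cent hp₀.1⟩ ∉ centralizer (K' : Set (Qt b)) := by
    by_contra hcon
    push Not at hcon
    refine hp₀Z ((h.za_iff hL hp₀.1).2 (hcen p₀ (h.cent hp₀.1) (hnL p₀ hp₀.1 _) fun m hm' => ?_))
    obtain ⟨r, hr, hre⟩ := hcomR p₀ hp₀.1 m hm'
    rw [← hfcom p₀ hp₀.1 m r hre]
    refine hZiff r (hgker r hr ?_)
    rw [hgcom p₀ hp₀.1 m r hre]
    have hle : Cfsg.layer (Qt b) ≤ centralizer ({g ⟨p₀, hp₀.2, h'.cent hp₀.1⟩} : Set (Qt b)) :=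
      sSup_le fun K hK y hy =>
        mem_centralizer_singleton_iff.2 (mem_centralizer_iff.1 (hcon K hK) y hy)
    have hc : g m * qm b ⟨p₀, h'.cent hp₀.1⟩ = qm b ⟨p₀, h'.cent hp₀.1⟩ * g m :=
      mem_centralizer_singleton_iff.1 (hle (hlay m hm'))
    rw [← hc]; group
  obtain ⟨K, hK, hKe⟩ := h'.exists_comp hK'
  subst hKe
  have hmK : Mov (bar b A) (bar b K) := fun hle => hpK (hle (h'.mem_barA.2 ⟨p₀, hp₀.1, rfl⟩))
  have hgp : g ⟨p₀, hp₀.2, h'.cent hp₀.1⟩ ∈ bar b A := h'.mem_barA.2 ⟨p₀, hp₀.1, rfl⟩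
  obtain ⟨a, haT, haK, hac⟩ := h'.coreFree.exists_inner hK' hmK hgp
  obtain ⟨s, hs, rfl⟩ := h'.mem_barA.1 haT
  have hRK : R ≤ (bar b K).comap g := by
    have hK'n := comp_normal_in_layer hK'
    rcases hkey (R ⊓ (bar b K).comap g) inf_le_left (hnormG _ hK'n) with eN | eN
    swap
    · exact eN.trans inf_le_right
    exfalso
    rcases hkey (R ⊓ (centralizer (bar b K : Set (Qt b))).comap g) inf_le_left
        (hnormG _ (hK'n.trans (normalizer_le_normalizer_centralizer' _))) with eC | eC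
    swap
    · exact hpK (eC (hPR p₀ hp₀)).2
    have hkill : qm t ⟨p₀, h.cent hp₀.1⟩ ∈ centralizer (bar t L : Set (Qt t)) := by
      refine hcen p₀ (h.cent hp₀.1) (hnL p₀ hp₀.1 _) fun m hm' => ?_
      obtain ⟨r, hr, hre⟩ := hcomR s hs m hm'
      obtain ⟨r', hr', hre'⟩ := hcomR p₀ hp₀.1 m hm'
      rw [← hfcom p₀ hp₀.1 m r' hre']
      set a := qm b ⟨s, h'.cent hs⟩ with had
      set c := a⁻¹ * qm b ⟨p₀, h'.cent hp₀.1⟩ with hcd
      have hgm := hlay m hm'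
      have hgr : g r = a * g m * a⁻¹ * (g m)⁻¹ := hgcom s hs m r hre
      have hrK : g r ∈ bar b K := by
        rw [hgr, show a * g m * a⁻¹ * (g m)⁻¹ = a * (g m * a⁻¹ * (g m)⁻¹) by group]
        exact mul_mem haK ((mem_normalizer_iff.1 (hK'n hgm) _).1 (inv_mem haK))
      have hr1 : r ∈ Zc := eN ⟨hr, hrK⟩
      have hx : c * g m * c⁻¹ * (g m)⁻¹ ∈ centralizer (bar b K : Set (Qt b)) := by
        rw [show c * g m * c⁻¹ * (g m)⁻¹ = c * (g m * c⁻¹ * (g m)⁻¹) by group]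
        exact mul_mem hac ((mem_normalizer_iff.1 (normalizer_le_normalizer_centralizer' _ (hK'n hgm)) _).1
          (inv_mem hac))
      have hw : g (r' * r⁻¹) = c * g m * c⁻¹ * (g m)⁻¹ := by
        have hax : a * (c * g m * c⁻¹ * (g m)⁻¹) * a⁻¹ = c * g m * c⁻¹ * (g m)⁻¹ := by
          rw [mem_centralizer_iff.1 hx a haK, mul_inv_cancel_right]
        rw [← hax, map_mul, map_inv, hgr, hgcom p₀ hp₀.1 m r' hre',
          show qm b ⟨p₀, h'.cent hp₀.1⟩ = a * c from (mul_inv_cancel_left a _).symm]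
        group
      have hwC : r' * r⁻¹ ∈ Zc := eC ⟨R.mul_mem hr' (R.inv_mem hr), show g _ ∈ _ from hw ▸ hx⟩
      have := hZiff _ (mul_mem hwC hr1)
      rwa [inv_mul_cancel_right] at this
    exact hp₀Z ((h.za_iff hL hp₀.1).2 hkill)
  refine ⟨K, ⟨hbA, hb1, hK, (h'.mov_iff hK).1 hmK⟩, fun z hz => ?_, fun d hd => ?_⟩
  · -- `ZA K ≤ ZA L`
    have hzc := (h'.za_iff hK hz.1).1 hz
    refine (h.za_iff hL hz.1).2 (hcen z (h.cent hz.1) (hnL z hz.1 _) fun m hm' => ?_)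
    obtain ⟨r, hr, hre⟩ := hcomR z hz.1 m hm'
    rw [← hfcom z hz.1 m r hre]
    refine hZiff r (hgker r hr ?_)
    rw [hgcom z hz.1 m r hre, ← (mem_centralizer_iff.1 hzc _ (hRK hm'))]
    group
  · obtain ⟨r, hr, o, ho, hro⟩ := mem_sup_of_normal_right.1 (hsup ▸ mem_top (⟨d, hd⟩ : ↥D))
    have hd' : d = (r : G) * (o : G) := (congrArg Subtype.val hro).symm
    rw [hd']
    have hoO : (o : G) ∈ Oc t ⊓ Cb := ⟨Walter.mem_Oc.2 ⟨hDt o.2, MonoidHom.mem_ker.1 ho⟩, hDb o.2⟩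
    obtain ⟨k, hk, hke⟩ := hRK hr
    have h1 : (k : G)⁻¹ * r ∈ Oc b := Walter.mem_Oc.2 ⟨mul_mem (inv_mem k.2) (hDb r.2), by
      show qm b (k⁻¹ * inclusion hDb r) = 1
      rw [map_mul, map_inv, hke]
      exact inv_mul_cancel _⟩
    have h2 := mul_mem (mem_sup_left (T := Oc b) (show (k : G) ∈ K from hk)) (mem_sup_right (S := K) h1)
    rw [mul_inv_cancel_left] at h2
    exact mul_mem (mem_sup_left h2) (mem_sup_right hoO)

end Cfsg.Lib.Goldschmidt
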