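import Cfsg.Agent.Goldschmidt.S1.Moved

/-!
Moved components with elementary abelian Sylow quotient: trivial centre; the small types.
-/

set_option autoImplicit false
set_option linter.unusedSectionVars false
set_option linter.style.haveILetI false

namespace Cfsg.Lib.Goldschmidt

open Subgroup Cfsg.Lib.Components

universe u

variable {X : Type u} [Group X] [Finite X]

namespace CoreFree

variable {T : Sylow 2 X} {A : Subgroup X} (h : CoreFree T A) {L : Subgroup X} (hL : Cfsg.IsComponent L)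
  (hm : Mov A L)
include h hL hm

theorem center_eq_bot {P : Sylow 2 (↥L ⧸ center ↥L)} (D : MovData A L T P) (hel : ∀ q ∈ P, q * q = 1) :
    center ↥L = ⊥ := by
  classical
  haveI : Fact (Nat.Prime 2) := ⟨Nat.prime_two⟩
  obtain ⟨Q, hQ⟩ := h.sylow_comp hL
  have hdec : ∀ x ∈ Q, ∃ v z : ↥L, (v : X) ∈ A ∧ z ∈ center ↥L ∧ x = v * z := by
    intro x hx
    have hxT : (x : X) ∈ (T : Subgroup X) := by
      have h1 : x ∈ (Q : Subgroup ↥L) := hx
      rw [hQ] at h1
      exact h1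
    obtain ⟨v, hv, e⟩ := (D.inv_iff x).1 ⟨(D.mem_iff x).2 hxT, hel _ ((D.mem_iff x).2 hxT)⟩
    exact ⟨v, v⁻¹ * x, hv, QuotientGroup.eq.1 e, (mul_inv_cancel_left v x).symm⟩
  letI : CommGroup ↥(Q : Subgroup ↥L) :=
    { (inferInstance : Group ↥(Q : Subgroup ↥L)) with
      mul_comm := fun a b => Subtype.ext (by
        obtain ⟨v, z, hv, hz, ea⟩ := hdec a a.2
        obtain ⟨w, z', hw, hz', eb⟩ := hdec b b.2
        show (a : ↥L) * b = b * a
        rw [ea, eb]
        have e1 : Commute v w := Subtype.ext (h.comm hv hw)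
        have e2 : Commute v z' := mem_center_iff.1 hz' v
        have e3 : Commute z w := (mem_center_iff.1 hz w).symm
        have e4 : Commute z z' := (mem_center_iff.1 hz z').symm
        exact ((e1.mul_right e2).mul_left (e3.mul_right e4)).eq) }
  refine eq_bot_iff.2 fun z hz => mem_bot.2 ?_
  have hzc : ∀ k : ↥L, Commute k z := fun k => mem_center_iff.1 hz k
  set φ := MonoidHom.transfer (MonoidHom.id ↥(Q : Subgroup ↥L))
  have h0 : φ z = 1 := MonoidHom.mem_ker.1 (Abelianization.commutator_subset_ker φ (qs_perfect hL ▸ mem_top z))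
  rw [MonoidHom.transfer_eq_pow (MonoidHom.id ↥(Q : Subgroup ↥L)) z fun k g₀ _ => by
    rw [mul_assoc, ← ((hzc g₀).pow_right k).eq, inv_mul_cancel_left]] at h0
  obtain ⟨j, hj⟩ := h.center_two hL ⟨z, hz⟩
  refine orderOf_eq_one_iff.1 (Nat.eq_one_of_dvd_coprimes
    (((Nat.Prime.coprime_iff_not_dvd Nat.prime_two).2 Q.not_dvd_index).pow_left j)
    (orderOf_dvd_of_pow_eq_one (congrArg Subtype.val hj : z ^ 2 ^ j = 1))
    (orderOf_dvd_of_pow_eq_one (congrArg Subtype.val h0)))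

theorem small_elem {P : Sylow 2 (↥L ⧸ center ↥L)} (D : MovData A L T P) (hs : Small (↥L ⧸ center ↥L)) :
    (∀ q ∈ P, q * q = 1) ∧ (A ⊓ centralizer (L : Set X)).relIndex A = 4 ∧
      IsKleinFour ↥(P : Subgroup (↥L ⧸ center ↥L)) := by
  obtain ⟨F, iF, iFt, h5, K⟩ := small_top hs.1
  haveI hK := small_klein K (small_comm hs) P
  have hsq : ∀ q ∈ P, q * q = 1 := fun q hq =>
    congrArg Subtype.val (GWFour.sq_of_klein (⟨q, hq⟩ : ↥(P : Subgroup (↥L ⧸ center ↥L))))
  refine ⟨hsq, ?_, hK⟩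
  rw [h.index_eq hL hm D, ← hK.card_four]
  exact Nat.card_congr (Equiv.subtypeEquivRight fun i => ⟨fun hi => hi.1, fun hi => ⟨hi, hsq i hi⟩⟩)

/-- `PSL(2, q)`, `q > 5`, is generated by the centralisers of the elements of `A ∩ L`. -/
theorem small_gen_in {P : Sylow 2 (↥L ⧸ center ↥L)} (D : MovData A L T P) (hs : Small (↥L ⧸ center ↥L)) :
    L ≤ ⨆ v : {v : X // v ∈ A ∧ v ∈ L ∧ v ∉ centralizer (L : Set X)}, L ⊓ centralizer ({(v : X)} : Set X) := by
  obtain ⟨hsq, -, -⟩ := h.small_elem hL hm D hs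
  have hZ := h.center_eq_bot hL hm D hsq
  have hinj : Function.Injective (zm L) := by
    rw [← MonoidHom.ker_eq_bot_iff, QuotientGroup.ker_mk', hZ]
  haveI := (h.simple hL).1
  set R := ⨆ v : {v : X // v ∈ A ∧ v ∈ L ∧ v ∉ centralizer (L : Set X)}, L ⊓ centralizer ({(v : X)} : Set X)
  have htop : (⊤ : Subgroup (↥L ⧸ center ↥L)) ≤ (R.subgroupOf L).map (zm L) := by
    rw [← small_gen hs P]
    refine iSup_le fun w y hy => ?_
    obtain ⟨y', rfl⟩ := QuotientGroup.mk'_surjective (center ↥L) y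
    obtain ⟨w', hw'⟩ := QuotientGroup.mk'_surjective (center ↥L) (w : ↥L ⧸ center ↥L)
    obtain ⟨v, hv, e⟩ := (D.inv_iff w').1 (by
      rw [show zm L w' = w from hw']; exact ⟨w.2.1, hsq _ w.2.1⟩)
    refine mem_map_of_mem (zm L) (mem_subgroupOf.2 ?_)
    have hv1 : (v : X) ∉ centralizer (L : Set X) := fun hc =>
      w.2.2 (hw'.symm.trans (e.symm.trans (zm_eq_one.2 hc)))
    refine le_iSup (fun v : {v : X // v ∈ A ∧ v ∈ L ∧ v ∉ centralizer (L : Set X)} =>
      L ⊓ centralizer ({(v : X)} : Set X)) ⟨v, hv, v.2, hv1⟩ ⟨y'.2, mem_centralizer_singleton_iff.2 ?_⟩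
    have hc := mem_centralizer_singleton_iff.1 hy
    rw [← hw', show QuotientGroup.mk' (center ↥L) w' = zm L v from e.symm, ← map_mul, ← map_mul] at hc
    exact congrArg Subtype.val (hinj hc)
  intro y hy
  obtain ⟨y', hy', e⟩ := htop (mem_top (zm L ⟨y, hy⟩))
  rw [hinj e] at hy'
  exact hy'

/-- Automorphisms of two-power order centralising `A` act as elements of `A`. -/
theorem small_inner {P : Sylow 2 (↥L ⧸ center ↥L)} (D : MovData A L T P) (hs : Small (↥L ⧸ center ↥L))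
    {g : X} (hgn : g ∈ normalizer (L : Set X)) (hgA : g ∈ centralizer (A : Set X))
    (h2 : ∃ k : ℕ, orderOf g = 2 ^ k) : ∃ v ∈ A, v⁻¹ * g ∈ centralizer (L : Set X) := by
  haveI : Fact (Nat.Prime 2) := ⟨Nat.prime_two⟩
  obtain ⟨hsq, -, hK⟩ := h.small_elem hL hm D hs
  obtain ⟨hsim, hna⟩ := h.simple hL
  haveI := hsim
  set α : MulAut ↥L := GenDihedral.cj L g hgn
  have hα : ∀ y : ↥L, ((α y : ↥L) : X) = g * y * g⁻¹ := fun y => rfl
  have hcen : (center ↥L).map α.toMonoidHom = center ↥L :=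
    Subgroup.characteristic_iff_map_eq.1 Subgroup.centerCharacteristic α
  set β : MulAut (↥L ⧸ center ↥L) := QuotientGroup.congr _ _ α hcen
  have hβ : ∀ y : ↥L, β (zm L y) = zm L (α y) := fun y => rfl
  have hsur : Function.Surjective (zm L) := QuotientGroup.mk'_surjective _
  have hαn : ∀ (k : ℕ) (y : ↥L), (((α ^ k) y : ↥L) : X) = g ^ k * y * (g ^ k)⁻¹ := by
    intro k
    induction k with
    | zero => simp
    | succ k ih => intro y; rw [pow_succ', MulAut.mul_apply, hα, ih, pow_succ']; group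
  have hβn : ∀ (k : ℕ) (y : ↥L), (β ^ k) (zm L y) = zm L ((α ^ k) y) := by
    intro k
    induction k with
    | zero => intro y; rfl
    | succ k ih => intro y; rw [pow_succ', pow_succ', MulAut.mul_apply, MulAut.mul_apply, ih, hβ]
  have hord : ∃ j : ℕ, orderOf β = 2 ^ j := by
    obtain ⟨k, hk⟩ := h2
    obtain ⟨j, -, hj⟩ := (Nat.dvd_prime_pow Nat.prime_two).1 (orderOf_dvd_of_pow_eq_one
      (show β ^ 2 ^ k = 1 from MulEquiv.ext fun q => by
        obtain ⟨y, rfl⟩ := hsur q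
        rw [hβn, MulAut.one_apply]
        refine congrArg _ (Subtype.ext ?_)
        rw [hαn, ← hk, pow_orderOf_eq_one]; simp))
    exact ⟨j, hj⟩
  have hfix : ∀ q ∈ P, β q = q := fun q hq => by
    obtain ⟨y, rfl⟩ := hsur q
    obtain ⟨v, hv, e⟩ := (D.inv_iff y).1 ⟨hq, hsq _ hq⟩
    rw [← e, hβ]
    refine congrArg _ (Subtype.ext ?_)
    rw [hα, ← mem_centralizer_iff.1 hgA v hv, mul_inv_cancel_right]
  obtain ⟨i, hi, hβi⟩ := inner_of_fix hna (small_comm hs) (fun e => by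
    have := hK.card_four
    rw [e, card_bot] at this
    omega) hord hfix
  obtain ⟨w, rfl⟩ := hsur i
  obtain ⟨v, hv, e⟩ := (D.inv_iff w).1 ⟨hi, hsq _ hi⟩
  rw [← e] at hβi
  refine ⟨v, hv, mem_centralizer_of_mod_center hL fun l hl => ?_⟩
  have h1 : zm L (α ⟨l, hl⟩) = zm L (v * ⟨l, hl⟩ * v⁻¹) := by
    rw [← hβ, hβi, MulAut.conj_apply, map_mul, map_mul, map_inv]
  have h3 : zm L (v⁻¹ * α ⟨l, hl⟩ * v * ⟨l, hl⟩⁻¹) = 1 := by
    rw [map_mul, map_mul, map_mul, h1, map_mul, map_mul, map_inv, map_inv]; group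
  have h4 := zm_eq_one.1 h3
  simp only [Subgroup.coe_mul, Subgroup.coe_inv, hα] at h4
  rw [show (v : X)⁻¹ * g * l * ((v : X)⁻¹ * g)⁻¹ * l⁻¹ = (v : X)⁻¹ * (g * l * g⁻¹) * v * l⁻¹ by group]
  exact ⟨L.mul_mem (L.mul_mem (L.mul_mem (L.inv_mem v.2)
    ((mem_normalizer_iff.1 hgn l).1 hl)) v.2) (L.inv_mem hl), h4⟩

end CoreFree

end Cfsg.Lib.Goldschmidt
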