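import Cfsg.Agent.Goldschmidt.S1.Rot
import Cfsg.Agent.Goldschmidt.S1.Small
import Cfsg.Agent.Goldschmidt.S1.Generated
import Cfsg.Agent.Walter.LocalQuot

/-!
`C(y) / O(C(y))` for an element `y ≠ 1` centralised by `A`: the dictionary to the core-free layer.
-/

set_option autoImplicit false
set_option linter.unusedSectionVars false
set_option linter.style.haveILetI false

namespace Cfsg.Lib.Goldschmidt

open Subgroup Cfsg.Lib.Components
open Cfsg.Lib.Walter (IsComp Triv Oc qm bar Qt)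
open scoped commutatorElement

universe u

variable {G : Type u} [Group G] [Finite G]

/-- The configuration at `y`. -/
structure Loc (S : Sylow 2 G) (A : Subgroup G) (y : G) : Prop where
  min : Min S A
  cent : A ≤ centralizer ({y} : Set G)
  ne : y ≠ 1

theorem Min.loc {S : Sylow 2 G} {A : Subgroup G} (h : Min S A) {a : G} (ha : a ∈ A) (h1 : a ≠ 1) : Loc S A a :=
  ⟨h, h.le_cent ha, h1⟩

variable {S : Sylow 2 G} {A : Subgroup G} {y : G} (h : Loc S A y)
include h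

namespace Loc

theorem card_lt : Nat.card (Qt y) < Nat.card G := by
  haveI := h.min.simple
  refine lt_of_le_of_lt (Nat.card_le_card_of_surjective _ (QuotientGroup.mk'_surjective _)) ?_
  refine lt_of_le_of_ne (Subgroup.card_le_card_group _) fun e => ?_
  have htop := Subgroup.eq_top_of_card_eq _ e
  rcases IsSimpleGroup.eq_bot_or_eq_top_of_normal (center G) inferInstance with e' | e'
  · exact h.ne (mem_bot.1 (e' ▸ mem_center_iff.2 fun g => mem_centralizer_singleton_iff.1 (htop ▸ mem_top g)))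
  · exact h.min.nonab ⟨⟨fun a b => (mem_center_iff.1 (e' ▸ mem_top b) a)⟩⟩

/-- A Sylow 2-subgroup of `C(y)/O(C(y))` containing the image of `A`. -/
noncomputable def sylow : Sylow 2 (Qt y) :=
  haveI : Fact (Nat.Prime 2) := ⟨Nat.prime_two⟩
  (exists_sylow_above h.min.le h.cent).choose.mapSurjective (QuotientGroup.mk'_surjective _)

theorem coreFree : CoreFree h.sylow (bar y A) := by
  haveI : Fact (Nat.Prime 2) := ⟨Nat.prime_two⟩
  have hTC := (exists_sylow_above h.min.le h.cent).choose_spec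
  refine ⟨pPrimeCore_quotient_eq_bot, ?_, ?_, ?_⟩
  · exact InvolCalc.stronglyClosed_quotient _ (closed_subgroup h.min.closed h.cent _ hTC) _
  · rintro _ ⟨x, hx, rfl⟩
    rw [← map_mul, show x * x = 1 from Subtype.ext (h.min.sq _ hx), map_one]
  · intro Y _ _ _ hna P B hB hcomm hc hlt
    exact h.min.below Y hna P B hB hcomm hc (by have := h.card_lt; omega)

theorem qm_eq_one {s : G} (hs : s ∈ A) (he : qm y ⟨s, h.cent hs⟩ = 1) : s = 1 := by
  have hm : (⟨s, h.cent hs⟩ : ↥(centralizer ({y} : Set G))) ∈ (qm y).ker := MonoidHom.mem_ker.2 he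
  obtain ⟨j, hj⟩ := (S.2.to_le h.min.le) ⟨s, hs⟩
  have hj' : s ^ 2 ^ j = 1 := congrArg Subtype.val hj
  refine orderOf_eq_one_iff.1 (Nat.eq_one_of_dvd_coprimes ((Walter.odd_ker_qm y).symm.pow_left j)
    (orderOf_dvd_of_pow_eq_one hj') ?_)
  rw [← Subgroup.orderOf_mk s (h.cent hs)]
  exact Subgroup.orderOf_dvd_natCard _ hm

theorem inj {s s' : G} (hs : s ∈ A) (hs' : s' ∈ A) (he : qm y ⟨s, h.cent hs⟩ = qm y ⟨s', h.cent hs'⟩) :
    s = s' := by
  have h1 : qm y ⟨s * s'⁻¹, h.cent (mul_mem hs (inv_mem hs'))⟩ = 1 := by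
    rw [← mul_inv_eq_one] at he
    exact he
  exact mul_inv_eq_one.1 (h.qm_eq_one (mul_mem hs (inv_mem hs')) h1)

theorem mem_barA {q : Qt y} : q ∈ bar y A ↔ ∃ s, ∃ hs : s ∈ A, qm y ⟨s, h.cent hs⟩ = q := by
  constructor
  · rintro ⟨x, hx, rfl⟩
    exact ⟨x, hx, rfl⟩
  · rintro ⟨s, hs, rfl⟩
    exact mem_map_of_mem _ (show (⟨s, h.cent hs⟩ : ↥(centralizer ({y} : Set G))) ∈ A.subgroupOf _ from hs)

variable {L : Subgroup G}

theorem comp (hL : IsComp y L) : Cfsg.IsComponent (bar y L) := hL.2.2.1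

theorem exists_comp {K : Subgroup (Qt y)} (hK : Cfsg.IsComponent K) : ∃ L, IsComp y L ∧ bar y L = K := by
  haveI : Fact (Nat.Prime 2) := ⟨Nat.prime_two⟩
  obtain ⟨L', hL', hLK⟩ := exists_pcomp hK
  have he : (L'.map (centralizer ({y} : Set G)).subtype).subgroupOf (centralizer ({y} : Set G)) = L' :=
    comap_map_eq_self_of_injective (centralizer ({y} : Set G)).subtype_injective L'
  refine ⟨L'.map (centralizer ({y} : Set G)).subtype, ⟨map_subtype_le _, by rw [he]; exact hL'⟩, ?_⟩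
  show ((L'.map (centralizer ({y} : Set G)).subtype).subgroupOf (centralizer ({y} : Set G))).map (qm y) = K
  rw [he, hLK]

theorem bar_inj {L' : Subgroup G} (hL : IsComp y L) (hL' : IsComp y L') (he : bar y L = bar y L') : L = L' := by
  haveI : Fact (Nat.Prime 2) := ⟨Nat.prime_two⟩
  have := congrArg (Subgroup.map (centralizer ({y} : Set G)).subtype) (pcomp_eq_of_image_eq hL.2 hL'.2 he)
  rwa [map_subgroupOf_eq_of_le hL.1, map_subgroupOf_eq_of_le hL'.1] at this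

theorem le_norm (hL : IsComp y L) : A ≤ normalizer (L : Set G) := by
  haveI : Fact (Nat.Prime 2) := ⟨Nat.prime_two⟩
  intro s hs
  have hm := pcomp_mem_normalizer hL.2 (g := ⟨s, h.cent hs⟩)
    (h.coreFree.le_norm (h.comp hL) (h.mem_barA.2 ⟨s, hs, rfl⟩))
  refine ZStarApps.mem_normalizer_of_maps fun z hz => ?_
  exact (mem_normalizer_iff.1 hm ⟨z, hL.1 hz⟩).1 hz

theorem mem_of_bar (hL : IsComp y L) {s : G} (hs : s ∈ A) (he : qm y ⟨s, h.cent hs⟩ ∈ bar y L) : s ∈ L := by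
  haveI : Fact (Nat.Prime 2) := ⟨Nat.prime_two⟩
  set C := centralizer ({y} : Set G)
  set L' := L.subgroupOf C
  have hm : (⟨s, h.cent hs⟩ : C) ∈ L' ⊔ Cfsg.pPrimeCore 2 ↥C := by
    rw [← comap_map_q]; exact he
  set M := L' ⊔ Cfsg.pPrimeCore 2 ↥C with hM
  have hn : M ≤ normalizer (L' : Set ↥C) := sup_le le_normalizer (pPrimeCore_le_normalizer_pcomp hL.2)
  haveI : (L'.subgroupOf M).Normal := normal_subgroupOf_of_le_normalizer hn
  have hp : (⟨⟨s, h.cent hs⟩, hm⟩ : M) ^ L'.relIndex M ∈ L'.subgroupOf M := pow_index_mem _ _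
  have hp' : s ^ L'.relIndex M ∈ L := by simpa [L', mem_subgroupOf] using hp
  have hodd : (L'.relIndex M).Coprime 2 := by
    haveI : (Cfsg.pPrimeCore 2 ↥C).Normal := normal_of_mem_sSup_normal fun _ h => h.1
    refine (coprime_card_pPrimeCore (G := ↥C) 2).coprime_dvd_left ?_
    have h1 := card_sup_dvd_mul (Cfsg.pPrimeCore 2 ↥C) L'
    rw [sup_comm, ← hM, mul_comm] at h1
    rw [← Subgroup.relIndex_bot_left M, ← relIndex_mul_relIndex ⊥ L' M bot_le le_sup_left, relIndex_bot_left] at h1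
    exact Nat.dvd_of_mul_dvd_mul_left Nat.card_pos h1
  obtain ⟨j, hj⟩ := (S.2.to_le h.min.le) ⟨s, hs⟩
  have hj' : s ^ 2 ^ j = 1 := congrArg Subtype.val hj
  obtain ⟨k, hk⟩ := exists_pow_eq_self_of_coprime (x := s) (n := L'.relIndex M)
    ((hodd.pow_right j).coprime_dvd_right (orderOf_dvd_of_pow_eq_one hj'))
  exact hk ▸ pow_mem hp' k

theorem cent_iff (hL : IsComp y L) {x : G} (hx : x ∈ centralizer ({y} : Set G)) :
    x ∈ PTerminal.Cent 2 (centralizer ({y} : Set G)) L ↔ qm y ⟨x, hx⟩ ∈ centralizer (bar y L : Set (Qt y)) := by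
  constructor
  · rintro ⟨d, hd, rfl⟩
    exact hd
  · exact fun hc => ⟨⟨x, hx⟩, hc, rfl⟩

theorem triv_iff (hL : IsComp y L) {x : G} (hx : x ∈ centralizer ({y} : Set G)) :
    Triv y L x ↔ qm y ⟨x, hx⟩ ∈ centralizer (bar y L : Set (Qt y)) := by
  constructor
  · intro hT
    refine mem_centralizer_iff.2 ?_
    rintro _ ⟨⟨l, hlC⟩, hl, rfl⟩
    obtain ⟨_, he⟩ := Walter.mem_Oc.1 (hT l hl)
    have e : qm y (⟨x, hx⟩ * ⟨l, hlC⟩ * ⟨x, hx⟩⁻¹ * ⟨l, hlC⟩⁻¹) = 1 := he
    rw [map_mul, map_mul, map_mul, map_inv, map_inv, mul_inv_eq_one, mul_inv_eq_iff_eq_mul] at e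
    exact e.symm
  · intro hc l hl
    refine Walter.mem_Oc.2 ⟨mul_mem (mul_mem (mul_mem hx (hL.1 hl)) (inv_mem hx)) (inv_mem (hL.1 hl)), ?_⟩
    show qm y (⟨x, hx⟩ * ⟨l, hL.1 hl⟩ * ⟨x, hx⟩⁻¹ * ⟨l, hL.1 hl⟩⁻¹) = 1
    have e := mem_centralizer_iff.1 hc (qm y ⟨l, hL.1 hl⟩) (mem_map_of_mem _ hl)
    rw [map_mul, map_mul, map_mul, map_inv, map_inv, mul_inv_eq_one, mul_inv_eq_iff_eq_mul, e]

theorem za_iff (hL : IsComp y L) {x : G} (hx : x ∈ A) :
    x ∈ ZA A y L ↔ qm y ⟨x, h.cent hx⟩ ∈ centralizer (bar y L : Set (Qt y)) :=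
  ⟨fun hz => (h.cent_iff hL (h.cent hx)).1 hz.2, fun hz => ⟨hx, (h.cent_iff hL (h.cent hx)).2 hz⟩⟩

theorem mov_iff (hL : IsComp y L) : Mov (bar y A) (bar y L) ↔ ¬ A ≤ ZA A y L := by
  refine not_congr ⟨fun hle x hx => (h.za_iff hL hx).2 (hle (h.mem_barA.2 ⟨x, hx, rfl⟩)), fun hle q hq => ?_⟩
  obtain ⟨x, hx, rfl⟩ := h.mem_barA.1 hq
  exact (h.za_iff hL hx).1 (hle hx)

/-- The splitting upstairs. -/
theorem exists_part (hL : IsComp y L) (hm : Mov (bar y A) (bar y L)) {x : G} (hx : x ∈ A) :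
    ∃ v, v ∈ A ⊓ L ∧ v⁻¹ * x ∈ ZA A y L := by
  obtain ⟨v', hvA, hvL, hvc⟩ := h.coreFree.exists_inner (h.comp hL) hm (h.mem_barA.2 ⟨x, hx, rfl⟩)
  obtain ⟨v, hv, rfl⟩ := h.mem_barA.1 hvA
  exact ⟨v, ⟨hv, h.mem_of_bar hL hv hvL⟩, (h.za_iff hL (A.mul_mem (A.inv_mem hv) hx)).2 hvc⟩

theorem relIndex_za (hL : IsComp y L) :
    (ZA A y L).relIndex A = (bar y A ⊓ centralizer (bar y L : Set (Qt y))).relIndex (bar y A) := by
  let f : ↥A →* Qt y := (qm y).comp (inclusion h.cent)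
  have hr : f.range = bar y A := by
    ext q
    rw [h.mem_barA]
    exact ⟨fun ⟨x, e⟩ => ⟨x, x.2, e⟩, fun ⟨x, hx, e⟩ => ⟨⟨x, hx⟩, e⟩⟩
  rw [inf_relIndex_left, ← hr, ← index_comap]
  show ((ZA A y L).subgroupOf A).index = _
  congr 1
  ext x
  exact h.za_iff hL x.2

/-- Elements of `bar L` normalising the image of `A` lift into `L ∩ N(A)`. -/
theorem lift_norm (hL : IsComp y L) {q : Qt y} (hq : q ∈ bar y L)
    (hqn : q ∈ normalizer ((bar y A : Subgroup (Qt y)) : Set (Qt y))) :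
    ∃ l, ∃ hl : l ∈ L, l ∈ normalizer (A : Set G) ∧ qm y ⟨l, hL.1 hl⟩ = q := by
  haveI : Fact (Nat.Prime 2) := ⟨Nat.prime_two⟩
  set C := centralizer ({y} : Set G)
  set A' := A.subgroupOf C
  set L' := L.subgroupOf C
  set H := L' ⊔ A' with hH
  let f := (qm y).subgroupMap H
  have hker : (Nat.card f.ker).Coprime 2 := by
    refine (Walter.odd_ker_qm y).coprime_dvd_left ?_
    rw [← Nat.card_congr ((f.ker).equivMapOfInjective H.subtype H.subtype_injective).symm.toEquiv]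
    refine card_dvd_of_le ?_
    rintro _ ⟨x, hx, rfl⟩
    exact MonoidHom.mem_ker.2 (congrArg Subtype.val (MonoidHom.mem_ker.1 hx))
  have hP : IsPGroup 2 ↥(A'.subgroupOf H) :=
    ((S.2.to_le h.min.le).comap_of_injective C.subtype C.subtype_injective).comap_of_injective H.subtype
      H.subtype_injective
  have hqH : q ∈ H.map (qm y) := map_mono le_sup_left hq
  have himg : ∀ z : ↥(H.map (qm y)), z ∈ (A'.subgroupOf H).map f ↔ (z : Qt y) ∈ bar y A := by
    intro z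
    constructor
    · rintro ⟨w, hw, rfl⟩
      exact mem_map_of_mem _ hw
    · rintro ⟨s, hs, hsz⟩
      exact ⟨⟨s, mem_sup_right hs⟩, hs, Subtype.ext hsz⟩
  have hqn' : (⟨q, hqH⟩ : H.map (qm y)) ∈ normalizer (((A'.subgroupOf H).map f : Subgroup _) : Set _) := by
    refine mem_normalizer_iff.2 fun z => ?_
    rw [himg, himg]
    exact mem_normalizer_iff.1 hqn z
  rw [← normalizer_map_of_coprime_ker ((qm y).subgroupMap_surjective H) hker hP] at hqn'
  obtain ⟨n, hn, hny⟩ := hqn'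
  have hny' : qm y (n : C) = q := congrArg Subtype.val hny
  have hnA : ((n : C) : G) ∈ normalizer (A : Set G) := ZStarApps.mem_normalizer_of_maps
    fun s hs => (mem_normalizer_iff.1 hn ⟨⟨s, h.cent hs⟩, mem_sup_right hs⟩).1 hs
  have hAL : A' ≤ normalizer (L' : Set ↥C) := fun s hs => by
    refine ZStarApps.mem_normalizer_of_maps fun z hz => ?_
    exact (mem_normalizer_iff.1 (h.le_norm hL hs) z).1 hz
  have hmem : (n : C) ∈ ((L' ⊔ A' : Subgroup C) : Set C) := n.2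
  rw [coe_mul_of_right_le_normalizer_left _ _ hAL] at hmem
  obtain ⟨l, hl, s, hs, hls⟩ := hmem
  have hsL : (s : G) ∈ L := h.mem_of_bar hL hs (by
    show qm y s ∈ bar y L
    have : qm y s = (qm y l)⁻¹ * q := by rw [← hny', ← hls, map_mul, inv_mul_cancel_left]
    rw [this]
    exact mul_mem (inv_mem (mem_map_of_mem _ hl)) hq)
  have hnL : ((n : C) : G) ∈ L := by
    rw [← hls]; exact mul_mem (s := L) hl hsL
  exact ⟨_, hnL, hnA, hny'⟩

theorem bar_norm (hL : IsComp y L) {g : G} (hg : g ∈ L) (hgA : g ∈ normalizer (A : Set G)) :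
    qm y ⟨g, hL.1 hg⟩ ∈ normalizer ((bar y A : Subgroup (Qt y)) : Set (Qt y)) := by
  refine ZStarApps.mem_normalizer_of_maps fun q hq => ?_
  obtain ⟨x, hx, rfl⟩ := h.mem_barA.1 hq
  exact h.mem_barA.2 ⟨g * x * g⁻¹, (mem_normalizer_iff.1 hgA x).1 hx, by
    rw [← map_inv, ← map_mul, ← map_mul]; rfl⟩

/-- The image of `O(C(b)) ∩ C(y)`. -/
theorem core_image {b x : G} (hb : b ∈ A) (hx : x ∈ Oc b) (hxy : x ∈ centralizer ({y} : Set G)) :
    qm y ⟨x, hxy⟩ ∈ Cfsg.centralizerPPrimeCore 2 (qm y ⟨b, h.cent hb⟩) := by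
  haveI : Fact (Nat.Prime 2) := ⟨Nat.prime_two⟩
  set C := centralizer ({y} : Set G)
  set D := ((Oc b).subgroupOf C).map (qm y)
  suffices D ≤ Cfsg.centralizerPPrimeCore 2 (qm y ⟨b, h.cent hb⟩) from
    this (mem_map_of_mem _ (show (⟨x, hxy⟩ : C) ∈ (Oc b).subgroupOf C from hx))
  refine le_centralizerPPrimeCore ?_ ?_ ?_
  · rintro _ ⟨z, hz, rfl⟩
    refine mem_centralizer_singleton_iff.2 ?_
    rw [← map_mul, ← map_mul]
    exact congrArg _ (Subtype.ext (mem_centralizer_singleton_iff.1 (centralizerPPrimeCore_le_centralizer b hz)))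
  · intro q hq
    rw [← centralizer_map_of_coprime_ker (QuotientGroup.mk'_surjective _) (Walter.odd_ker_qm y)
      ((S.2.to_le h.min.le).comap_of_injective C.subtype C.subtype_injective |>.to_le
        (zpowers_le.2 (show (⟨b, h.cent hb⟩ : C) ∈ A.comap C.subtype from hb)))] at hq
    obtain ⟨c, hc, rfl⟩ := hq
    have hcb : (c : G) * b = b * c := congrArg Subtype.val (mem_centralizer_singleton_iff.1 hc)
    refine ZStarApps.mem_normalizer_of_maps ?_
    rintro _ ⟨z, hz, rfl⟩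
    refine ⟨c * z * c⁻¹, ?_, by rw [map_mul, map_mul, map_inv]⟩
    exact (mem_normalizer_iff.1 (centralizer_le_normalizer_centralizerPPrimeCore b
      (mem_centralizer_singleton_iff.2 hcb)) z).1 hz
  · refine (centralizerPPrimeCore_card_coprime (p := 2) b).coprime_dvd_left ((card_map_dvd _ _).trans ?_)
    exact card_comap_dvd_of_injective _ _ C.subtype_injective

end Loc

end Cfsg.Lib.Goldschmidt
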