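import Cfsg.Agent.Goldschmidt.S1.Torus

/-!
Rank one groups in characteristic two: squares in `Q`, automorphisms centralising `Q` or acting trivially on
`Z` and `Q / Z`, the action of the point stabiliser on the involutions.
-/

set_option autoImplicit false
set_option linter.unusedSectionVars false
set_option linter.style.haveILetI false

namespace Cfsg.Lib.Goldschmidt.Rk

open MulAction Cfsg.Lib.RankOne Cfsg.Lib.BenderSuzuki

universe u v

variable {G : Type u} {Ω : Type v} [Group G] [Finite G] [MulAction G Ω] {a : Ω} {t : G} {Q : Subgroup G}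

theorem sq_mem (hs : Simple G Ω a t Q) {p : G} (hp : p ∈ Q) : p * p ∈ zGroup hs := by
  rcases (good hs).dich with ⟨-, hn⟩ | ⟨-, hn, hna⟩ | ⟨hL, hn, hna, hV⟩
  · rcases eq_or_ne p 1 with rfl | h1
    · rw [one_mul]; exact one_mem _
    · rw [(invl_eq hs hn hp h1).2.2]; exact one_mem _
  · obtain ⟨E, -, -, C, -⟩ := exists_szKern hs hn hna
    letI := C.autCommGroup
    have h : SuzukiTwo.InvolTrans C.autE.subtype := C.involTrans
    have hc := SuzukiTwo.sq_mem_center C.p2 h C.nab C.two (⟨p, hp⟩ : Q)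
    exact mem_zGroup_of_sq hs (mul_mem hp hp)
      (congrArg Subtype.val (SuzukiTwo.center_sq_eq_one C.p2 h C.nab _ hc))
  · exact mem_zGroup_of_sq hs (mul_mem hp hp)
      ((U3.Input.mem_Z _).1 ((U3.Input.of_step hs (ih_of_unitary unitaryStep _) hL hn hna hV).sq_mem hp)).2

theorem comm_mem (hs : Simple G Ω a t Q) {x y : G} (hx : x ∈ Q) (hy : y ∈ Q) :
    x * y * x⁻¹ * y⁻¹ ∈ zGroup hs := by
  rw [show x * y * x⁻¹ * y⁻¹ = x * x * (x⁻¹ * y * (x⁻¹ * y)) * (y * y)⁻¹ by group]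
  exact mul_mem (mul_mem (sq_mem hs hx) (sq_mem hs (mul_mem (inv_mem hx) hy))) (inv_mem (sq_mem hs hy))

theorem stab_mem_zGroup (hs : Simple G Ω a t Q) {d z : G} (hd : d ∈ stabilizer G a) (hz : z ∈ zGroup hs) :
    d * z * d⁻¹ ∈ zGroup hs := zGroup_conj hs hz hd

theorem centI_comm (hs : Simple G Ω a t Q) {w z : G} (hw : w ∈ centI Ω a t) (hz : z ∈ zGroup hs) :
    w * z * w⁻¹ = z := by
  rcases (mem_zGroup hs).1 hz with rfl | hz'
  · group
  · rw [← Subgroup.mem_centralizer_iff.1 (Subgroup.mem_inf.1 hw).2 z hz', mul_inv_cancel_right]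

/-- For `|Q| = q ^ 3` an element of `centI` has no fixed points on `Q / Z`: homomorphisms it fixes are trivial. -/
theorem centI_kills_one (hs : Simple G Ω a t Q) (hL : CaseL a t Q) (hn : Nat.card Q = qNum G a ^ 3) (hna : NonAb Q)
    (hV : centI Ω a t ≠ ⊥) {w : G} (hw : w ∈ centI Ω a t) (hw1 : w ≠ 1)
    {M : Type*} [Group M] (δ : Q →* M) (hZ : ∀ p : Q, (p : G) ∈ zGroup hs → δ p = 1)
    (hδ : ∀ p r : Q, (r : G) = w * p * w⁻¹ → δ r = δ p) : δ = 1 := by
  have I := U3.Input.of_step hs (ih_of_unitary unitaryStep _) hL hn hna hV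
  have hwa : w ∈ stabilizer G a := (Subgroup.mem_inf.1 (Subgroup.mem_inf.1 hw).1).1
  set Z' := (zGroup hs).subgroupOf Q with hZ'
  haveI : Z'.Normal := ⟨fun z hz g => stab_mem_zGroup hs (hs.setup.le g.2) hz⟩
  let f : Q → Q := fun y => ⟨(y : G)⁻¹ * (w * y * w⁻¹), mul_mem (inv_mem y.2) (hs.setup.conj_mem w hwa y y.2)⟩
  have hf : ∀ y y' : Q, y⁻¹ * y' ∈ Z' → f y = f y' := by
    intro y y' h
    have hz : (y : G)⁻¹ * y' ∈ zGroup hs := h
    refine Subtype.ext ?_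
    show (y : G)⁻¹ * (w * y * w⁻¹) = (y' : G)⁻¹ * (w * y' * w⁻¹)
    have hzc := centI_comm hs hw hz
    have hc : Commute ((y : G)⁻¹ * y') ((y : G)⁻¹ * (w * y * w⁻¹)) :=
      zGroup_comm hs hz (mul_mem (inv_mem y.2) (hs.setup.conj_mem w hwa y y.2))
    calc (y : G)⁻¹ * (w * y * w⁻¹)
        = ((y : G)⁻¹ * y')⁻¹ * (((y : G)⁻¹ * y') * ((y : G)⁻¹ * (w * y * w⁻¹))) := by group
      _ = ((y : G)⁻¹ * y')⁻¹ * (((y : G)⁻¹ * (w * y * w⁻¹)) * (w * ((y : G)⁻¹ * y') * w⁻¹)) := by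
          rw [hc.eq, hzc]
      _ = _ := by group
  let F : Q ⧸ Z' → Q ⧸ Z' := Quotient.lift (fun y => (f y : Q ⧸ Z'))
    fun y y' h => congrArg _ (hf y y' (QuotientGroup.leftRel_apply.1 h))
  have hF : Function.Injective F := by
    intro a b
    induction a using QuotientGroup.induction_on with | _ y => ?_
    induction b using QuotientGroup.induction_on with | _ y' => ?_
    intro e
    have e' : (f y)⁻¹ * f y' ∈ Z' := QuotientGroup.eq.1 e
    set z := ((f y)⁻¹ * f y' : Q) with hz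
    have hzG : (z : G) ∈ zGroup hs := e'
    have e2 : (z : G) = ((y : G)⁻¹ * (w * y * w⁻¹))⁻¹ * ((y' : G)⁻¹ * (w * y' * w⁻¹)) := by rw [hz]; rfl
    refine QuotientGroup.eq.2 ?_
    have hu : (y' : G) * (y : G)⁻¹ ∈ zGroup hs := by
      refine mem_zGroup_of_sq hs (mul_mem y'.2 (inv_mem y.2)) ((U3.Input.mem_Z _).1 (I.mem_Z_of_fixed
        (k := 1) (w := w) ⟨one_mem _, by group⟩ hw (by rw [one_mul]; exact hw1)
        (mul_mem y'.2 (inv_mem y.2)) ?_)).2
      refine (U3.Input.mem_Z _).2 ⟨mul_mem (inv_mem (mul_mem y'.2 (inv_mem y.2)))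
        (by simpa using hs.setup.conj_mem w hwa _ (mul_mem y'.2 (inv_mem y.2))), ?_⟩
      have hwy := hs.setup.conj_mem w hwa y y.2
      have hzy : (z : G) * (w * y * w⁻¹)⁻¹ = (w * y * w⁻¹)⁻¹ * z := zGroup_comm hs hzG (inv_mem hwy)
      have e3 : (y' * (y : G)⁻¹)⁻¹ * (1 * w * (y' * (y : G)⁻¹) * (1 * w)⁻¹) = z := by
        calc (y' * (y : G)⁻¹)⁻¹ * (1 * w * (y' * (y : G)⁻¹) * (1 * w)⁻¹)
            = (w * y * w⁻¹) * (z * (w * y * w⁻¹)⁻¹) := by rw [e2]; group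
          _ = z := by rw [hzy]; group
      rw [e3]
      exact involGroup_sq hs.setup hs.two hzG
    show (y : G)⁻¹ * y' ∈ zGroup hs
    have := stab_mem_zGroup hs (inv_mem (hs.setup.le y.2)) hu
    simpa [mul_assoc] using this
  refine MonoidHom.ext fun p => ?_
  obtain ⟨b, hb⟩ := (Finite.injective_iff_surjective.1 hF) (p : Q ⧸ Z')
  induction b using QuotientGroup.induction_on with | _ y => ?_
  have h1 : (f y)⁻¹ * p ∈ Z' := QuotientGroup.eq.1 hb
  have h2 : δ (f y) = 1 := by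
    have h3 := hδ y (y * f y) (show (y : G) * ((y : G)⁻¹ * (w * y * w⁻¹)) = _ by group)
    rwa [map_mul, mul_eq_left] at h3
  have h4 : δ ((f y)⁻¹ * p) = 1 := hZ _ h1
  rw [map_mul, map_inv, h2, inv_one, one_mul] at h4
  exact h4

theorem centI_kills (hs : Simple G Ω a t Q) (hL : CaseL a t Q) (hn : Nat.card Q = qNum G a ^ 3) (hna : NonAb Q)
    (hV : centI Ω a t ≠ ⊥) {M : Type*} [Group M] (δ : Q →* M) (hZ : ∀ p : Q, (p : G) ∈ zGroup hs → δ p = 1)
    (hδ : ∀ w ∈ centI Ω a t, ∀ p r : Q, (r : G) = w * p * w⁻¹ → δ r = δ p) : δ = 1 := by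
  obtain ⟨⟨w, hw⟩, hw1⟩ := Subgroup.ne_bot_iff_exists_ne_one.1 hV
  exact centI_kills_one hs hL hn hna hV hw (fun e => hw1 (Subtype.ext e)) δ hZ (hδ w hw)

/-- For `|Q| = q ^ 2` no homomorphism `Q / Z → Z` commutes with the inverted elements. -/
theorem suz_kills (hs : Simple G Ω a t Q) (hn : Nat.card Q = qNum G a ^ 2) (hna : NonAb Q)
    (δ : Q →* Q) (hδ1 : ∀ p, (δ p : G) ∈ zGroup hs) (hZ : ∀ p : Q, (p : G) ∈ zGroup hs → δ p = 1)
    (hδ : ∀ k ∈ invK Ω a t, ∀ p r : Q, (r : G) = k * p * k⁻¹ → (δ r : G) = k * δ p * k⁻¹) : δ = 1 := by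
  have hS := hs.setup
  obtain ⟨C, hC, hcyc, -⟩ := inverted_subgroup hS hs.two
  have hCmem : ∀ k, k ∈ C ↔ k ∈ invK Ω a t := fun k => Set.ext_iff.1 hC k
  have hinvl : ∀ {x : G}, x ∈ zGroup hs → x ≠ 1 → x ∈ invl G a := fun hx h1 =>
    ((mem_zGroup hs).1 hx).resolve_left h1
  by_contra hne
  obtain ⟨p₀, hp₀⟩ : ∃ p, δ p ≠ 1 := by
    by_contra h
    push Not at h
    exact hne (MonoidHom.ext h)
  have hp₀G : (δ p₀ : G) ≠ 1 := fun e => hp₀ (Subtype.ext e)
  have hkp : ∀ k ∈ invK Ω a t, ∀ p : Q, k * (p : G) * k⁻¹ ∈ Q := fun k hk p =>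
    hS.conj_mem k (Subgroup.mem_inf.1 hk.1).1 p p.2
  -- the image is all of `Z`
  have hmove : ∀ z ∈ zGroup hs, z ≠ 1 → ∃ k ∈ invK Ω a t, k * (δ p₀ : G) * k⁻¹ = z := by
    intro z hz hz1
    obtain ⟨k, hk, e⟩ := conj_surj hS (hinvl (hδ1 p₀) hp₀G) (hinvl hz hz1)
    exact ⟨k⁻¹, (hCmem _).1 (inv_mem ((hCmem k).2 hk)), by rw [inv_inv]; exact e⟩
  have him : δ.range = (zGroup hs).subgroupOf Q := by
    refine le_antisymm (by rintro _ ⟨p, rfl⟩; exact hδ1 p) fun z hz => ?_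
    rcases eq_or_ne z 1 with rfl | hz1
    · exact one_mem _
    · obtain ⟨k, hk, e⟩ := hmove z hz (fun e => hz1 (Subtype.ext e))
      exact ⟨⟨_, hkp k hk p₀⟩, Subtype.ext ((hδ k hk p₀ _ rfl).trans e)⟩
  have hcZ : Nat.card ↥((zGroup hs).subgroupOf Q) = qNum G a := by
    rw [Nat.card_congr (Subgroup.subgroupOfEquivOfLe (zGroup_le hs)).toEquiv, card_zGroup]
  have hker : δ.ker = (zGroup hs).subgroupOf Q := by
    refine (Subgroup.eq_of_le_of_card_ge (fun p hp => hZ p hp) ?_).symm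
    have h := δ.ker.card_mul_index
    rw [Subgroup.index_ker, him, hcZ, hn, pow_two] at h
    rw [hcZ]
    exact (Nat.eq_of_mul_eq_mul_right (by have := four_le hs; omega) h).le
  have hsq1 : ∀ p : Q, (p : G) ∉ zGroup hs → (p : G) * p ≠ 1 := fun p hp e => hp (mem_zGroup_of_sq hs p.2 e)
  have hp₀Z : (p₀ : G) ∉ zGroup hs := fun h => hp₀ (hZ p₀ h)
  obtain ⟨c, hc, hc0⟩ := hmove _ (sq_mem hs p₀.2) (hsq1 p₀ hp₀Z)
  -- squaring is `δ` followed by `c`
  have hsq : ∀ p : Q, (p : G) * p = c * (δ p : G) * c⁻¹ := by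
    intro p
    by_cases hp : (p : G) ∈ zGroup hs
    · rw [hZ p hp, OneMemClass.coe_one, mul_one, mul_inv_cancel, involGroup_sq hS hs.two hp]
    obtain ⟨k, hk, e⟩ := hmove _ (hδ1 p) fun e => hp (by
      have : p ∈ δ.ker := Subtype.ext e
      rw [hker] at this
      exact this)
    set r : Q := ⟨_, hkp k hk p₀⟩ with hr
    have he : δ r = δ p := Subtype.ext ((hδ k hk p₀ r rfl).trans e)
    have hm : r⁻¹ * p ∈ (zGroup hs).subgroupOf Q := by
      rw [← hker, MonoidHom.mem_ker, map_mul, map_inv, he, inv_mul_cancel]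
    have hzz : (r : G)⁻¹ * p ∈ zGroup hs := hm
    have hc' := zGroup_comm hs hzz r.2
    have hkc : k * c = c * k :=
      congrArg Subtype.val (hcyc.isMulCommutative.is_comm.comm (⟨k, (hCmem k).2 hk⟩ : C) ⟨c, (hCmem c).2 hc⟩)
    calc (p : G) * p = r * ((r : G)⁻¹ * p) * r * ((r : G)⁻¹ * p) := by group
      _ = r * (r * ((r : G)⁻¹ * p)) * ((r : G)⁻¹ * p) := by rw [mul_assoc (r : G) _ (r : G), hc']
      _ = (r : G) * r * (((r : G)⁻¹ * p) * ((r : G)⁻¹ * p)) := by group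
      _ = k * ((p₀ : G) * p₀) * k⁻¹ := by rw [involGroup_sq hS hs.two hzz, mul_one, hr]; group
      _ = (k * c) * δ p₀ * (k * c)⁻¹ := by rw [← hc0]; group
      _ = c * (k * δ p₀ * k⁻¹) * c⁻¹ := by rw [hkc]; group
      _ = _ := by rw [e]
  obtain ⟨x, hx, y, hy, hxy⟩ := hna
  have h := hsq (⟨x, hx⟩ * ⟨y, hy⟩)
  rw [map_mul, Subgroup.coe_mul, Subgroup.coe_mul] at h
  refine hxy ?_
  have h2 : x * y * (x * y) = x * x * (y * y) := by
    rw [hsq ⟨x, hx⟩, hsq ⟨y, hy⟩, h]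
    group
  simp only [mul_assoc, mul_left_cancel_iff] at h2
  rw [← mul_assoc, ← mul_assoc, mul_right_cancel_iff] at h2
  exact h2.symm

/-- The automorphism fixing `a`: it maps the point stabiliser to itself. -/
theorem aut_stab (hs : Simple G Ω a t Q) (α : MulAut G) (hα : ∀ p ∈ Q, α p ∈ Q) {g : G} :
    α g ∈ stabilizer G a ↔ g ∈ stabilizer G a := by
  have hS := hs.setup
  have hm : Q.map α.toMonoidHom = Q := Subgroup.eq_of_le_of_card_ge (by rintro _ ⟨p, hp, rfl⟩; exact hα p hp)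
    (Subgroup.card_map_of_injective α.injective).ge
  rw [← normalizer_Q hS, Subgroup.mem_normalizer_iff, Subgroup.mem_normalizer_iff]
  have hiff : ∀ x, α x ∈ Q ↔ x ∈ Q := fun x => by
    conv_lhs => rw [← hm]
    exact ⟨fun ⟨y, hy, e⟩ => α.injective e ▸ hy, fun h => ⟨x, h, rfl⟩⟩
  refine ⟨fun h x => ?_, fun h x => ?_⟩
  · refine (hiff x).symm.trans ((h (α x)).trans ?_)
    rw [← hiff (g * x * g⁻¹), map_mul, map_mul, map_inv]
  · obtain ⟨y, rfl⟩ := α.surjective x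
    rw [hiff, ← map_inv, ← map_mul, ← map_mul, hiff]
    exact h y

/-- An automorphism fixing `Q` pointwise and the point `t a` is trivial. -/
theorem aut_eq_one (hs : Simple G Ω a t Q) {α : MulAut G} (hα : ∀ p ∈ Q, α p = p)
    (ht : α t • a = t • a) : α = 1 := by
  haveI := hs.faithful
  have hS := hs.setup
  have hpt : ∀ g : G, α g • a = g • a := by
    intro g
    by_cases hg : g • a = a
    · rw [hg, ← mem_stabilizer_iff, aut_stab hs α fun p hp => (hα p hp).symm ▸ hp, mem_stabilizer_iff, hg]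
    obtain ⟨q, hq, -⟩ := regular hS (ta_ne hS) hg
    have hm : ((q : G) * t)⁻¹ * g ∈ stabilizer G a := by
      rw [mem_stabilizer_iff, mul_smul, ← hq, ← mul_smul (q : G) t a, inv_smul_smul]
    have h2 := (aut_stab hs α fun p hp => (hα p hp).symm ▸ hp).2 hm
    rw [map_mul, map_inv, map_mul, hα q q.2, mem_stabilizer_iff, mul_smul, inv_smul_eq_iff, mul_smul, ht,
      ← mul_smul] at h2
    rw [h2, mul_smul, hq]
  refine MulEquiv.ext fun g => eq_of_smul_eq_smul fun x : Ω => ?_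
  obtain ⟨h, rfl⟩ := trans₁ hS a x
  rw [MulAut.one_apply, ← mul_smul g, ← hpt (g * h), map_mul, mul_smul, hpt h]

end Cfsg.Lib.Goldschmidt.Rk
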