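import Cfsg.Agent.Goldschmidt.S1.Moved

/-!
A moved component: the rotation in `L ∩ N(A)` and the elements of `L ∩ N(A)` trivial on `A / (A ∩ C(L))`.
-/

set_option autoImplicit false
set_option linter.unusedSectionVars false
set_option linter.style.haveILetI false

namespace Cfsg.Lib.Goldschmidt

open Subgroup Cfsg.Lib.Components

universe u

variable {X : Type u} [Group X] [Finite X]

/-- An element of odd order stabilising a series of length two of an elementary group is trivial on it. -/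
theorem fix_of_series {A Z : Subgroup X} (hsq : ∀ x ∈ A, x * x = 1) {g : X} (hg : g ∈ normalizer (A : Set X))
    (hodd : Odd (orderOf g)) (hZ : ∀ z ∈ A ⊓ Z, g * z * g⁻¹ = z)
    (hmod : ∀ x ∈ A, (g * x * g⁻¹)⁻¹ * x ∈ Z) : ∀ x ∈ A, g * x * g⁻¹ = x := by
  intro x hx
  set z := (g * x * g⁻¹)⁻¹ * x with hz
  have hzA : z ∈ A ⊓ Z := ⟨A.mul_mem (A.inv_mem ((mem_normalizer_iff.1 hg x).1 hx)) hx, hmod x hx⟩
  have he : g * x * g⁻¹ = x * z⁻¹ := by rw [hz]; group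
  have hit : ∀ n : ℕ, g ^ n * x * (g ^ n)⁻¹ = x * (z⁻¹) ^ n := by
    intro n
    induction n with
    | zero => simp
    | succ n ih =>
      rw [pow_succ' g, show g * g ^ n * x * (g * g ^ n)⁻¹ = g * (g ^ n * x * (g ^ n)⁻¹) * g⁻¹ by group, ih,
        show g * (x * z⁻¹ ^ n) * g⁻¹ = (g * x * g⁻¹) * (g * z⁻¹ ^ n * g⁻¹) by group, he,
        hZ _ (pow_mem (inv_mem hzA) n), pow_succ']
      group
  have h1 := hit (orderOf g)
  rw [pow_orderOf_eq_one, one_mul, inv_one, mul_one, left_eq_mul] at h1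
  obtain ⟨j, hj⟩ := hodd
  have hzz : z⁻¹ * z⁻¹ = 1 := hsq _ (inv_mem hzA.1)
  rw [hj, pow_succ, pow_mul, pow_two, hzz, one_pow, one_mul] at h1
  rw [he, h1, mul_one]

namespace CoreFree

variable {T : Sylow 2 X} {A : Subgroup X} (h : CoreFree T A) {L : Subgroup X} (hL : Cfsg.IsComponent L)
  (hm : Mov A L)
include h hL hm

theorem conj_mod {g x y : X} (hg : g ∈ L) {v w : ↥L} (hx : (v : X)⁻¹ * x ∈ centralizer (L : Set X))
    (hy : (w : X)⁻¹ * y ∈ centralizer (L : Set X)) :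
    (g * x * g⁻¹)⁻¹ * y ∈ centralizer (L : Set X) ↔
      zm L ⟨g, hg⟩ * zm L v * (zm L ⟨g, hg⟩)⁻¹ = zm L w := by
  rw [← map_inv, ← map_mul, ← map_mul, zm_eq_iff]
  simp only [Subgroup.coe_mul, Subgroup.coe_inv]
  set C := centralizer (L : Set X)
  have hc := mem_centralizer_iff.1 hx g hg
  have e1 : g * x * g⁻¹ = (g * v * g⁻¹) * ((v : X)⁻¹ * x) := by
    calc g * x * g⁻¹ = g * v * (((v : X)⁻¹ * x) * g⁻¹) := by group
      _ = g * v * (g⁻¹ * ((v : X)⁻¹ * x)) := by rw [mem_centralizer_iff.1 hx g⁻¹ (inv_mem hg)]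
      _ = _ := by group
  rw [e1, show (g * v * g⁻¹ * ((v : X)⁻¹ * x))⁻¹ * y =
    ((v : X)⁻¹ * x)⁻¹ * ((g * v * g⁻¹)⁻¹ * w) * ((w : X)⁻¹ * y) by group]
  exact (C.mul_mem_cancel_right hy).trans (C.mul_mem_cancel_left (inv_mem hx))

theorem mem_norm {g : X} (hg : g ∈ L) {P : Sylow 2 (↥L ⧸ center ↥L)} (D : MovData A L T P)
    (hn : zm L ⟨g, hg⟩ ∈ normalizer ((P : Subgroup (↥L ⧸ center ↥L)) : Set (↥L ⧸ center ↥L))) :
    g ∈ normalizer (A : Set X) := by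
  refine ZStarApps.mem_normalizer_of_maps fun x hx => ?_
  obtain ⟨v, hvA, hvL, hvc⟩ := h.exists_inner hL hm hx
  have hmem : g * v * g⁻¹ ∈ A := by
    refine h.closed.2 v hvA g ((D.mem_iff (⟨g, hg⟩ * ⟨v, hvL⟩ * ⟨g, hg⟩⁻¹)).1 ?_)
    rw [map_mul, map_mul, map_inv]
    exact (mem_normalizer_iff.1 hn _).1 ((D.mem_iff ⟨v, hvL⟩).2 (h.le hvA))
  rw [show g * x * g⁻¹ = g * v * (((v : X)⁻¹ * x) * g⁻¹) by group,
    ← mem_centralizer_iff.1 hvc g⁻¹ (inv_mem hg),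
    show g * v * (g⁻¹ * ((v : X)⁻¹ * x)) = g * v * g⁻¹ * ((v : X)⁻¹ * x) by group]
  exact mul_mem hmem (mul_mem (inv_mem hvA) hx)

theorem zm_norm {g : X} (hg : g ∈ L) (hgA : g ∈ normalizer (A : Set X)) {P : Sylow 2 (↥L ⧸ center ↥L)}
    (D : MovData A L T P) :
    zm L ⟨g, hg⟩ ∈ normalizer ((P : Subgroup (↥L ⧸ center ↥L)) : Set (↥L ⧸ center ↥L)) := by
  refine D.facts.norm _ fun i hi => ?_
  obtain ⟨w, rfl⟩ := QuotientGroup.mk'_surjective (center ↥L) i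
  obtain ⟨v, hv, e⟩ := (D.inv_iff w).1 hi
  change Inv _ (zm L ⟨g, hg⟩ * zm L w * (zm L ⟨g, hg⟩)⁻¹)
  rw [← e, ← map_inv, ← map_mul, ← map_mul, D.inv_iff]
  exact ⟨_, (mem_normalizer_iff.1 hgA _).1 hv, rfl⟩

/-- The rotation. -/
theorem rot_in : ∃ r ∈ L, r ∈ normalizer (A : Set X) ∧ Odd (orderOf r) ∧
    (∀ x ∈ A, ∀ y ∈ A, x ∉ centralizer (L : Set X) → y ∉ centralizer (L : Set X) →
      ∃ k : ℕ, (r ^ k * x * (r ^ k)⁻¹)⁻¹ * y ∈ centralizer (L : Set X)) ∧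
    (∀ k : ℕ, ∀ x ∈ A, x ∉ centralizer (L : Set X) → (r ^ k * x * (r ^ k)⁻¹)⁻¹ * x ∈ centralizer (L : Set X) →
      ∀ y ∈ A, r ^ k * y * (r ^ k)⁻¹ = y) ∧
    ∀ g ∈ L, g ∈ normalizer (A : Set X) →
      (∃ k : ℕ, ∀ x ∈ A, (g * x * g⁻¹)⁻¹ * (r ^ k * x * (r ^ k)⁻¹) ∈ centralizer (L : Set X)) ∨
        ((A ⊓ centralizer (L : Set X)).relIndex A = 8 ∧
          ∀ x ∈ A, (g ^ 3 * x * (g ^ 3)⁻¹)⁻¹ * x ∈ centralizer (L : Set X)) := by
  classical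
  haveI : Fact (Nat.Prime 2) := ⟨Nat.prime_two⟩
  obtain ⟨P, D⟩ := h.data hL hm
  obtain ⟨r', hr', hodd', htr, hsemi, himg⟩ := D.facts.rot
  obtain ⟨⟨r₀, hr₀L⟩, hr₀⟩ := QuotientGroup.mk'_surjective (center ↥L) r'
  obtain ⟨a, b, hb, hab⟩ := Nat.exists_eq_two_pow_mul_odd (orderOf_pos r₀).ne'
  obtain ⟨k₀, hk₀⟩ := exists_pow_eq_self_of_coprime (x := r') (n := 2 ^ a)
    ((Nat.coprime_two_left.2 hodd').pow_left a)
  set r := (r₀ ^ 2 ^ a) ^ k₀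
  have hrL : r ∈ L := pow_mem (pow_mem hr₀L _) _
  have hrz : zm L ⟨r, hrL⟩ = r' := by
    rw [show (⟨r, hrL⟩ : ↥L) = ((⟨r₀, hr₀L⟩ : ↥L) ^ 2 ^ a) ^ k₀ from Subtype.ext rfl, map_pow, map_pow,
      show zm L ⟨r₀, hr₀L⟩ = r' from hr₀, hk₀]
  have hro : Odd (orderOf r) := by
    refine hb.of_dvd_nat (orderOf_dvd_of_pow_eq_one ?_)
    rw [← pow_mul, ← pow_mul, show 2 ^ a * (k₀ * b) = orderOf r₀ * k₀ by rw [hab]; ring, pow_mul,
      pow_orderOf_eq_one, one_pow]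
  have hrk : ∀ k : ℕ, ∃ hk : r ^ k ∈ L, zm L ⟨r ^ k, hk⟩ = r' ^ k := fun k => ⟨pow_mem hrL k, by
    rw [show (⟨r ^ k, pow_mem hrL k⟩ : ↥L) = (⟨r, hrL⟩ : ↥L) ^ k from Subtype.ext rfl, map_pow, hrz]⟩
  have hrN : r ∈ normalizer (A : Set X) := h.mem_norm hL hm hrL D (hrz.symm ▸ hr')
  -- decompositions
  have hdec : ∀ x ∈ A, ∃ v : ↥L, (v : X) ∈ A ∧ (v : X)⁻¹ * x ∈ centralizer (L : Set X) ∧
      Inv (P : Subgroup (↥L ⧸ center ↥L)) (zm L v) ∧ (zm L v = 1 ↔ x ∈ centralizer (L : Set X)) := by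
    intro x hx
    obtain ⟨v, hvA, hvL, hvc⟩ := h.exists_inner hL hm hx
    refine ⟨⟨v, hvL⟩, hvA, hvc, (D.inv_iff _).2 ⟨_, hvA, rfl⟩, zm_eq_one.trans ⟨fun h1 => ?_, fun h1 => ?_⟩⟩
    · have := mul_mem h1 hvc
      rwa [mul_inv_cancel_left] at this
    · have := mul_mem h1 (inv_mem hvc)
      rwa [mul_inv_rev, mul_inv_cancel_left, inv_inv] at this
  refine ⟨r, hrL, hrN, hro, fun x hx y hy hxc hyc => ?_, fun k x hx hxc hfix => ?_, fun g hg hgA => ?_⟩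
  · obtain ⟨v, -, hv, hvI, hv1⟩ := hdec x hx
    obtain ⟨w, -, hw, hwI, hw1⟩ := hdec y hy
    obtain ⟨k, hk⟩ := htr _ _ hvI hwI (fun e => hxc (hv1.1 e)) (fun e => hyc (hw1.1 e))
    obtain ⟨hkL, hke⟩ := hrk k
    exact ⟨k, (h.conj_mod hL hm hkL hv hw).2 (by rw [hke]; exact hk)⟩
  · obtain ⟨v, -, hv, hvI, hv1⟩ := hdec x hx
    obtain ⟨hkL, hke⟩ := hrk k
    have hall := hsemi k _ hvI (fun e => hxc (hv1.1 e)) (by
      have := (h.conj_mod hL hm hkL hv hv).1 hfix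
      rwa [hke] at this)
    refine fix_of_series (Z := centralizer (L : Set X)) h.sq (pow_mem hrN k)
      (hro.of_dvd_nat (orderOf_pow_dvd k)) (fun z hz => ?_) fun y hy => ?_
    · rw [mem_centralizer_iff.1 hz.2 _ hkL, mul_inv_cancel_right]
    · obtain ⟨w, -, hw, hwI, -⟩ := hdec y hy
      exact (h.conj_mod hL hm hkL hw hw).2 (by rw [hke]; exact hall _ hwI)
  · rcases himg _ (h.zm_norm hL hm hg hgA D) with ⟨k, hk⟩ | ⟨h8, hk⟩
    · refine Or.inl ⟨k, fun x hx => ?_⟩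
      obtain ⟨v, hvA, hv, hvI, -⟩ := hdec x hx
      obtain ⟨hkL, hke⟩ := hrk k
      refine (h.conj_mod hL hm hg hv (w := ⟨r ^ k, hkL⟩ * v * ⟨r ^ k, hkL⟩⁻¹) ?_).2 ?_
      · show (r ^ k * (v : X) * (r ^ k)⁻¹)⁻¹ * (r ^ k * x * (r ^ k)⁻¹) ∈ centralizer (L : Set X)
        rw [show (r ^ k * (v : X) * (r ^ k)⁻¹)⁻¹ * (r ^ k * x * (r ^ k)⁻¹) =
          r ^ k * ((v : X)⁻¹ * x) * (r ^ k)⁻¹ by group, mem_centralizer_iff.1 hv _ hkL, mul_inv_cancel_right]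
        exact hv
      · rw [map_mul, map_mul, map_inv, hke]
        exact hk _ hvI
    · refine Or.inr ⟨(h.index_eq hL hm D).trans h8, fun x hx => ?_⟩
      obtain ⟨v, -, hv, hvI, -⟩ := hdec x hx
      refine (h.conj_mod hL hm (pow_mem hg 3) hv hv).2 ?_
      rw [show (⟨g ^ 3, pow_mem hg 3⟩ : ↥L) = (⟨g, hg⟩ : ↥L) ^ 3 from Subtype.ext rfl, map_pow]
      exact hk _ hvI

/-- An element of `L ∩ N(A)` trivial on `A / (A ∩ C(L))`. -/
theorem shear_in {g : X} (hg : g ∈ L) (hgA : g ∈ normalizer (A : Set X))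
    (hmod : ∀ x ∈ A, g * x * g⁻¹ * x⁻¹ ∈ centralizer (L : Set X)) :
    (∃ x ∈ A, x ∉ centralizer (L : Set X) ∧ g * x = x * g) ∧
      ((A ⊓ centralizer (L : Set X)).relIndex A = 4 → ∀ x ∈ A, g * x = x * g) := by
  classical
  haveI : Fact (Nat.Prime 2) := ⟨Nat.prime_two⟩
  obtain ⟨P, D⟩ := h.data hL hm
  set C := centralizer (L : Set X)
  -- the action is that of the 2-part
  obtain ⟨a, b, hb, hab⟩ := Nat.exists_eq_two_pow_mul_odd (orderOf_pos g).ne'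
  have hg2 : ∀ x ∈ A, g * g * x * (g * g)⁻¹ = x := by
    intro x hx
    have hz : g * x * g⁻¹ * x⁻¹ ∈ A ⊓ C :=
      ⟨A.mul_mem ((mem_normalizer_iff.1 hgA x).1 hx) (A.inv_mem hx), hmod x hx⟩
    set z := g * x * g⁻¹ * x⁻¹ with hzd
    have hgz : g * z * g⁻¹ = z := by rw [mem_centralizer_iff.1 hz.2 g hg, mul_inv_cancel_right]
    calc g * g * x * (g * g)⁻¹ = (g * z * g⁻¹) * (g * x * g⁻¹) := by rw [hzd]; group
      _ = z * (z * x) := by rw [hgz, hzd]; group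
      _ = x := by rw [← mul_assoc, h.sq z hz.1, one_mul]
  have hact : ∀ n : ℕ, Odd n → ∀ x ∈ A, g ^ n * x * (g ^ n)⁻¹ = g * x * g⁻¹ := by
    rintro n ⟨j, rfl⟩ x hx
    induction j with
    | zero => simp
    | succ j ih =>
      rw [show 2 * (j + 1) + 1 = (2 * j + 1) + 1 + 1 by ring, pow_succ, pow_succ,
        show g ^ (2 * j + 1) * g * g * x * (g ^ (2 * j + 1) * g * g)⁻¹ =
          g ^ (2 * j + 1) * (g * g * x * (g * g)⁻¹) * (g ^ (2 * j + 1))⁻¹ by group, hg2 x hx, ih]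
  set p : ↥L := ⟨g, hg⟩ ^ b with hpd
  have hp : (p : X) = g ^ b := rfl
  have hpact : ∀ x ∈ A, g * x * g⁻¹ = (p : X) * x * (p : X)⁻¹ := fun x hx => (hact b hb x hx).symm
  have hpP : zm L p ∈ P := by
    have hle : zpowers (zm L p) ≤ normalizer ((P : Subgroup (↥L ⧸ center ↥L)) : Set (↥L ⧸ center ↥L)) := by
      refine zpowers_le.2 ?_
      rw [hpd, map_pow]
      exact pow_mem (h.zm_norm hL hm hg hgA D) b
    have h2 : IsPGroup 2 (zpowers (zm L p)) := by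
      obtain ⟨i, -, hi⟩ := (Nat.dvd_prime_pow Nat.prime_two).1 (orderOf_dvd_of_pow_eq_one (show (zm L p) ^ 2 ^ a = 1 by
        rw [← map_pow, show p ^ 2 ^ a = 1 from Subtype.ext (by
          simp only [SubgroupClass.coe_pow, hp, ← pow_mul, OneMemClass.coe_one]
          rw [mul_comm, ← hab, pow_orderOf_eq_one]), map_one]))
      exact IsPGroup.of_card (n := i) (by rw [Nat.card_zpowers, hi])
    exact (P.is_maximal' (h2.to_sup_of_normal_right' P.isPGroup' hle) le_sup_right).le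
      (mem_sup_left (mem_zpowers _))
  have hdec := fun x (hx : x ∈ A) => h.exists_inner hL hm hx
  have hcomm_iff : ∀ {x : X}, g * x * g⁻¹ = x ↔ g * x = x * g := mul_inv_eq_iff_eq_mul
  -- commuting with a part inside `L` suffices
  have hpart : ∀ x ∈ A, ∀ v ∈ A, v ∈ L → v⁻¹ * x ∈ C → (p : X) * v = v * p → g * x = x * g := by
    intro x hx v hv _ hvx hc
    refine hcomm_iff.1 ?_
    rw [hpact x hx, show (p : X) * x * (p : X)⁻¹ = ((p : X) * v * (p : X)⁻¹) * ((p : X) * (v⁻¹ * x) * (p : X)⁻¹) by group,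
      hc, mul_inv_cancel_right, mem_centralizer_iff.1 hvx _ p.2, mul_inv_cancel_right, mul_inv_cancel_left]
  by_cases hI : Inv (P : Subgroup (↥L ⧸ center ↥L)) (zm L p)
  · obtain ⟨w, hw, e⟩ := (D.inv_iff p).1 hI
    have hz : (w : X)⁻¹ * p ∈ C := zm_eq_iff.1 e
    have hall : ∀ x ∈ A, g * x = x * g := by
      intro x hx
      obtain ⟨v, hv, hvL, hvx⟩ := hdec x hx
      refine hpart x hx v hv hvL hvx ?_
      have e1 : (p : X) = w * ((w : X)⁻¹ * p) := by group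
      rw [e1, mul_assoc, ← mem_centralizer_iff.1 hz v hvL, ← mul_assoc, h.comm hw hv, mul_assoc]
    obtain ⟨v, hv, hv1⟩ := h.exists_noncentral hL hm
    exact ⟨⟨v, hv, fun e => hv1 (zm_eq_one.2 e), hall v hv⟩, fun _ => hall⟩
  have hsq1 : zm L p * zm L p ≠ 1 := fun e => hI ⟨hpP, e⟩
  have hsqI := D.facts.sq _ hpP
  refine ⟨?_, fun h4 => ?_⟩
  · rw [← map_mul] at hsqI hsq1
    obtain ⟨w, hw, e⟩ := (D.inv_iff (p * p)).1 hsqI
    refine ⟨w, hw, fun e' => hsq1 (e ▸ zm_eq_one.2 e'), hpart w hw w hw w.2 (by simp) ?_⟩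
    have hz : (w : X)⁻¹ * ((p : X) * p) ∈ C := zm_eq_iff.1 e
    set z := (w : X)⁻¹ * ((p : X) * p) with hzd
    have hc : Commute (p : X) ((p : X) * p) := (Commute.refl (p : X)).mul_right (Commute.refl _)
    have hcz : Commute (p : X) z := mem_centralizer_iff.1 hz _ p.2
    have e2 : (w : X) = ((p : X) * p) * z⁻¹ := by rw [hzd]; group
    rw [e2]
    exact (hc.mul_right hcz.inv_right).eq
  rw [h.index_eq hL hm D] at h4
  obtain ⟨w', hw'N, hw'odd, hw'fix, hkill⟩ := D.facts.kill h4 ⟨_, hpP, hsq1⟩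
  obtain ⟨⟨w₀, hw₀L⟩, hw₀⟩ := QuotientGroup.mk'_surjective (center ↥L) w'
  obtain ⟨a', b', hb', hab'⟩ := Nat.exists_eq_two_pow_mul_odd (orderOf_pos w₀).ne'
  obtain ⟨k₀, hk₀⟩ := exists_pow_eq_self_of_coprime (x := w') (n := 2 ^ a')
    ((Nat.coprime_two_left.2 hw'odd).pow_left a')
  set w := (w₀ ^ 2 ^ a') ^ k₀
  have hwL : w ∈ L := pow_mem (pow_mem hw₀L _) _
  have hwz : zm L ⟨w, hwL⟩ = w' := by
    rw [show (⟨w, hwL⟩ : ↥L) = ((⟨w₀, hw₀L⟩ : ↥L) ^ 2 ^ a') ^ k₀ from Subtype.ext rfl, map_pow, map_pow,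
      show zm L ⟨w₀, hw₀L⟩ = w' from hw₀, hk₀]
  have hwodd : Odd (orderOf w) := by
    refine hb'.of_dvd_nat (orderOf_dvd_of_pow_eq_one ?_)
    rw [← pow_mul, ← pow_mul, show 2 ^ a' * (k₀ * b') = orderOf w₀ * k₀ by rw [hab']; ring, pow_mul,
      pow_orderOf_eq_one, one_pow]
  have hwA := h.mem_norm hL hm hwL D (hwz.symm ▸ hw'N)
  -- `w` fixes `A`
  have hwfix : ∀ x ∈ A, w * x * w⁻¹ = x := by
    refine fix_of_series (Z := C) h.sq hwA hwodd (fun z hz => ?_) fun x hx => ?_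
    · rw [mem_centralizer_iff.1 hz.2 w hwL, mul_inv_cancel_right]
    · obtain ⟨v, hv, hvL, hvx⟩ := hdec x hx
      refine (h.conj_mod hL hm hwL (v := ⟨v, hvL⟩) (w := ⟨v, hvL⟩) hvx hvx).2 ?_
      rw [hwz]
      exact hw'fix _ ((D.inv_iff _).2 ⟨_, hv, rfl⟩)
  -- the map `[·, v]`
  have hzero : ∀ q : ↥L, (q : X) ∈ (T : Subgroup X) → ∀ v ∈ A, v ∈ L → (q : X) * v * (q : X)⁻¹ = v := by
    set Pp : Subgroup ↥L := (P : Subgroup (↥L ⧸ center ↥L)).comap (zm L)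
    have hcl : ∀ q ∈ Pp, ∀ v ∈ A, v ∈ L → (q : X) * v * (q : X)⁻¹ * v⁻¹ ∈ C ∧
        (q : X) * v * (q : X)⁻¹ * v⁻¹ ∈ A := by
      intro q hq v hv hvL
      refine ⟨(zm_eq_one (x := q * ⟨v, hvL⟩ * q⁻¹ * ⟨v, hvL⟩⁻¹)).1 ?_,
        mul_mem ((mem_normalizer_iff.1 (h.sylow_norm ((D.mem_iff q).1 hq)) v).1 hv) (inv_mem hv)⟩
      rw [map_mul, map_mul, map_mul, map_inv, map_inv,
        ← D.facts.central _ ((D.inv_iff ⟨v, hvL⟩).2 ⟨_, hv, rfl⟩) _ hq]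
      group
    let M := {v : ↥L // (v : X) ∈ A} → ↥(center ↥L)
    letI : CommGroup ↥(center ↥L) := { (inferInstance : Group ↥(center ↥L)) with
      mul_comm := fun x y => Subtype.ext (mem_center_iff.1 y.2 x) }
    let δ₀ : ↥Pp →* M := MonoidHom.mk' (fun q v => ⟨(q : ↥L) * v.1 * (q : ↥L)⁻¹ * v.1⁻¹,
      mem_center_iff.2 fun m => Subtype.ext (mem_centralizer_iff.1 (hcl q q.2 v v.2 v.1.2).1 m m.2)⟩)
      fun q q' => funext fun v => Subtype.ext (by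
        show ((q : ↥L) * q') * v.1 * ((q : ↥L) * q')⁻¹ * v.1⁻¹ =
          (q : ↥L) * v.1 * (q : ↥L)⁻¹ * v.1⁻¹ * ((q' : ↥L) * v.1 * (q' : ↥L)⁻¹ * v.1⁻¹)
        have hc : (q' : ↥L) * v.1 * (q' : ↥L)⁻¹ * v.1⁻¹ ∈ center ↥L :=
          mem_center_iff.2 fun m => Subtype.ext (mem_centralizer_iff.1 (hcl q' q'.2 v v.2 v.1.2).1 m m.2)
        set z := (q' : ↥L) * v.1 * (q' : ↥L)⁻¹ * v.1⁻¹ with hz
        have hzq := mem_center_iff.1 hc ((q : ↥L) * v.1 * (q : ↥L)⁻¹ * v.1⁻¹)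
        calc ((q : ↥L) * q') * v.1 * ((q : ↥L) * q')⁻¹ * v.1⁻¹
            = (q : ↥L) * z * (v.1 * (q : ↥L)⁻¹ * v.1⁻¹) := by rw [hz]; group
          _ = z * (q : ↥L) * (v.1 * (q : ↥L)⁻¹ * v.1⁻¹) := by rw [mem_center_iff.1 hc (q : ↥L)]
          _ = _ := by rw [hzq]; group)
    have hres : Function.Surjective ((zm L).subgroupComap (P : Subgroup (↥L ⧸ center ↥L))) := fun y => by
      obtain ⟨x, hx⟩ := QuotientGroup.mk'_surjective (center ↥L) (y : ↥L ⧸ center ↥L)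
      exact ⟨⟨x, show zm L x ∈ _ by rw [show zm L x = y from hx]; exact y.2⟩, Subtype.ext hx⟩
    set f := (zm L).subgroupComap (P : Subgroup (↥L ⧸ center ↥L))
    have hker : f.ker ≤ δ₀.ker := fun q hq => MonoidHom.mem_ker.2 (funext fun v => Subtype.ext (by
      have h1 : (q : ↥L) ∈ center ↥L :=
        (QuotientGroup.eq_one_iff _).1 (congrArg Subtype.val (MonoidHom.mem_ker.1 hq))
      show (q : ↥L) * v.1 * (q : ↥L)⁻¹ * v.1⁻¹ = 1
      rw [← mem_center_iff.1 h1 v.1, mul_inv_cancel_right, mul_inv_cancel]))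
    let δ := f.liftOfSurjective hres ⟨δ₀, hker⟩
    have hδ : ∀ q, δ (f q) = δ₀ q := fun q => f.liftOfRightInverse_comp_apply _ _ ⟨δ₀, hker⟩ q
    have hδ1 := hkill M δ (fun y hy => ?_) (fun y y' e => ?_)
    · intro q hq v hv hvL
      have h1 := congrFun (DFunLike.congr_fun hδ1 (f ⟨q, (D.mem_iff q).2 hq⟩)) ⟨⟨v, hvL⟩, hv⟩
      rw [hδ] at h1
      have h2 : ((q : X) * v * (q : X)⁻¹ * v⁻¹) = 1 :=
        congrArg (fun z : ↥(center ↥L) => ((z : ↥L) : X)) h1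
      exact mul_inv_eq_one.1 h2
    · obtain ⟨q, rfl⟩ := hres y
      obtain ⟨u, hu, e⟩ := (D.inv_iff (q : ↥L)).1 hy
      rw [hδ]
      funext v
      refine Subtype.ext ?_
      show (q : ↥L) * v.1 * (q : ↥L)⁻¹ * v.1⁻¹ = 1
      have h1 : u⁻¹ * (q : ↥L) ∈ center ↥L := QuotientGroup.eq.1 e
      have h2 : Commute v.1 (u * (u⁻¹ * (q : ↥L))) :=
        (show Commute v.1 u from Subtype.ext (h.comm v.2 hu)).mul_right (mem_center_iff.1 h1 v.1)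
      rw [mul_inv_cancel_left] at h2
      rw [← h2.eq, mul_inv_cancel_right, mul_inv_cancel]
    · obtain ⟨q, rfl⟩ := hres y
      obtain ⟨q', rfl⟩ := hres y'
      rw [hδ, hδ]
      funext v
      refine Subtype.ext (Subtype.ext ?_)
      show ((q' : ↥L) : X) * v.1 * ((q' : ↥L) : X)⁻¹ * ((v.1 : ↥L) : X)⁻¹ =
        ((q : ↥L) : X) * v.1 * ((q : ↥L) : X)⁻¹ * ((v.1 : ↥L) : X)⁻¹
      have e' : zm L (q' : ↥L) = zm L (⟨w, hwL⟩ * (q : ↥L) * ⟨w, hwL⟩⁻¹) := by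
        rw [map_mul, map_mul, map_inv, hwz]; exact e
      have hz := zm_eq_iff.1 e'.symm
      simp only [Subgroup.coe_mul, Subgroup.coe_inv] at hz
      set z := (w * ((q : ↥L) : X) * w⁻¹)⁻¹ * ((q' : ↥L) : X) with hzd
      obtain ⟨hc, hzA⟩ := hcl (q : ↥L) q.2 (v.1 : X) v.2 v.1.2
      have hwc := hwfix _ hzA
      have hwv := hwfix _ v.2
      have hzv : z * ((v.1 : ↥L) : X) * z⁻¹ = ((v.1 : ↥L) : X) := by
        rw [← mem_centralizer_iff.1 hz _ v.1.2, mul_inv_cancel_right]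
      have eq' : ((q' : ↥L) : X) = w * ((q : ↥L) : X) * w⁻¹ * z := by rw [hzd]; group
      set x : X := ((v.1 : ↥L) : X)
      set qq : X := ((q : ↥L) : X)
      have hwv' : w⁻¹ * x * w = x := by
        conv_lhs => rw [← hwv]
        group
      calc ((q' : ↥L) : X) * x * ((q' : ↥L) : X)⁻¹ * x⁻¹
          = w * qq * (w⁻¹ * (z * x * z⁻¹) * w) * qq⁻¹ * w⁻¹ * x⁻¹ := by rw [eq']; group
        _ = w * qq * x * qq⁻¹ * w⁻¹ * (w * x * w⁻¹)⁻¹ := by rw [hzv, hwv', hwv]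
        _ = w * (qq * x * qq⁻¹ * x⁻¹) * w⁻¹ := by group
        _ = _ := hwc
  intro x hx
  obtain ⟨v, hv, hvL, hvx⟩ := hdec x hx
  exact hpart x hx v hv hvL hvx (mul_inv_eq_iff_eq_mul.1 (hzero p ((D.mem_iff p).1 hpP) v hv hvL))

end CoreFree

end Cfsg.Lib.Goldschmidt
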