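import Cfsg.Agent.Goldschmidt.S1.Facts
import Cfsg.Agent.Walter.Rot
import Cfsg.Agent.Walter.Fusion

/-!
An elementary abelian Sylow 2-subgroup with a semiregular rotation: the image of its normaliser.
-/

set_option autoImplicit false
set_option linter.unusedSectionVars false
set_option linter.style.haveILetI false

namespace Cfsg.Lib.Goldschmidt

open Subgroup

universe u

/-- An automorphism of odd order fixing a subgroup of index at most two pointwise is trivial. -/
theorem eq_one_of_fix_half {V : Type u} [Group V] [Finite V] (hV : ∀ v : V, v * v = 1) {e : MulAut V}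
    (he : Odd (orderOf e)) (h : (MonoidHom.eqLocus e.toMonoidHom (MonoidHom.id V)).index ≤ 2) : e = 1 := by
  set W := MonoidHom.eqLocus e.toMonoidHom (MonoidHom.id V)
  have hW : ∀ {x}, x ∈ W ↔ e x = x := Iff.rfl
  have h2 : e ^ 2 = 1 := MulEquiv.ext fun b => by
    rw [pow_two, MulAut.mul_apply, MulAut.one_apply]
    by_cases hb : b ∈ W
    · rw [hW.1 hb, hW.1 hb]
    have h2 : W.index = 2 := by
      have h0 : W.index ≠ 0 := Subgroup.index_ne_zero_of_finite
      have h1 : W.index ≠ 1 := fun e' => hb (Subgroup.index_eq_one.1 e' ▸ mem_top b)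
      omega
    have hw : b⁻¹ * e b ∈ W := (Subgroup.mul_mem_iff_of_index_two h2).2 (by
      constructor
      · exact fun h' => absurd (inv_mem_iff.1 h') hb
      · exact fun h' => absurd (e.injective (hW.1 h')) fun h'' => hb (hW.2 h''))
    have h3 := hW.1 hw
    rw [map_mul, map_inv] at h3
    have h4 : b⁻¹ = b := inv_eq_of_mul_eq_one_right (hV b)
    have h5 : (e b)⁻¹ = e b := inv_eq_of_mul_eq_one_right (hV _)
    calc e (e b) = e b * ((e b)⁻¹ * e (e b)) := by group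
      _ = e b * (b⁻¹ * e b) := by rw [h3]
      _ = (b⁻¹ * e b)⁻¹ * e b := by rw [mul_inv_rev, inv_inv, h5, h4, mul_assoc]
      _ = b⁻¹ * e b * e b := by rw [inv_eq_of_mul_eq_one_right (hV (b⁻¹ * e b))]
      _ = b := by rw [mul_assoc, hV, mul_one, h4]
  obtain ⟨j, hj⟩ := he
  calc e = e ^ (2 * j + 1) := by rw [pow_succ, pow_mul, h2, one_pow, one_mul]
    _ = 1 := by rw [← hj, pow_orderOf_eq_one]

variable {X : Type u} [Group X] [Finite X] {P : Sylow 2 X}

/-- A rotation of odd order, transitive and semiregular. -/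
theorem exists_rotation (h4 : 4 ≤ Nat.card ↥(P : Subgroup X)) (hR : Walter.Rot (P : Subgroup X)) :
    ∃ r ∈ normalizer ((P : Subgroup X) : Set X), Odd (orderOf r) ∧
      (∀ x ∈ P, ∀ y ∈ P, x ≠ 1 → y ≠ 1 → ∃ k : ℕ, r ^ k * x * (r ^ k)⁻¹ = y) ∧
      (∀ k : ℕ, ∀ x ∈ P, x ≠ 1 → r ^ k * x * (r ^ k)⁻¹ = x → ∀ y ∈ P, r ^ k * y * (r ^ k)⁻¹ = y) ∧
      (∀ x ∈ P, r ^ (Nat.card ↥(P : Subgroup X) - 1) * x * (r ^ (Nat.card ↥(P : Subgroup X) - 1))⁻¹ = x) ∧
      ∀ k : ℕ, ¬ Nat.card ↥(P : Subgroup X) - 1 ∣ k → ∀ x ∈ P, x ≠ 1 → r ^ k * x * (r ^ k)⁻¹ ≠ x := by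
  classical
  haveI : Fact (Nat.Prime 2) := ⟨Nat.prime_two⟩
  obtain ⟨r₀, hr₀, h1, h2⟩ := hR
  set n := Nat.card ↥(P : Subgroup X) - 1 with hn
  obtain ⟨m, hm⟩ := IsPGroup.iff_card.1 P.2
  have hnodd : Odd n := by
    have hm0 : m ≠ 0 := fun e => by rw [hm, e] at h4; norm_num at h4
    rw [hn, hm]
    exact Nat.Even.sub_odd Nat.one_le_two_pow (Nat.even_pow.2 ⟨even_two, hm0⟩) odd_one
  obtain ⟨a, b, hb, hab⟩ := Nat.exists_eq_two_pow_mul_odd (orderOf_pos r₀).ne'
  set r := r₀ ^ 2 ^ a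
  have hrk : ∀ k, r ^ k = r₀ ^ (2 ^ a * k) := fun k => (pow_mul _ _ _).symm
  have hdiv : ∀ k, n ∣ 2 ^ a * k ↔ n ∣ k := fun k =>
    ⟨fun h => (Nat.Coprime.pow_right a (Nat.coprime_two_right.2 hnodd)).dvd_of_dvd_mul_left h,
      fun h => h.mul_left _⟩
  have hfix : ∀ k, ¬ n ∣ k → ∀ x ∈ P, x ≠ 1 → r ^ k * x * (r ^ k)⁻¹ ≠ x := by
    intro k hk x hx hx1 e
    rw [hrk] at e
    exact hx1 (h2 _ (fun h => hk ((hdiv k).1 h)) x hx e)
  have hper : ∀ k, n ∣ k → ∀ x ∈ P, r ^ k * x * (r ^ k)⁻¹ = x := fun k hk x hx => by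
    rw [hrk]; exact h1 _ ((hdiv k).2 hk) x hx
  refine ⟨r, pow_mem hr₀ _, ?_, fun x hx y hy hx1 hy1 => ?_, fun k x hx hx1 e => ?_, hper n dvd_rfl, hfix⟩
  · rwa [orderOf_pow' _ (pow_ne_zero _ two_ne_zero), hab, Nat.gcd_eq_right (Dvd.intro b rfl),
      Nat.mul_div_cancel_left _ (by positivity)]
  · have hrN : ∀ k, r ^ k ∈ normalizer ((P : Subgroup X) : Set X) := fun k => pow_mem (pow_mem hr₀ _) k
    let f : Fin n → {z : ↥(P : Subgroup X) // z ≠ 1} := fun i =>
      ⟨⟨r ^ (i : ℕ) * x * (r ^ (i : ℕ))⁻¹, (mem_normalizer_iff.1 (hrN i) x).1 hx⟩,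
        fun e => hx1 (conj_eq_one_iff.1 (congrArg Subtype.val e))⟩
    have key : ∀ i j : Fin n, (i : ℕ) ≤ j → f i = f j → i = j := by
      intro i j hij e
      have e' : r ^ (i : ℕ) * x * (r ^ (i : ℕ))⁻¹ = r ^ (j : ℕ) * x * (r ^ (j : ℕ))⁻¹ :=
        congrArg Subtype.val (congrArg Subtype.val e)
      refine Fin.ext ?_
      by_contra hne
      refine hfix ((j : ℕ) - i) (fun h => ?_) x hx hx1 ?_
      · have := Nat.le_of_dvd (by omega) h
        omega
      · rw [← Nat.sub_add_cancel hij, add_comm, pow_add] at e'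
        rw [show r ^ ((j : ℕ) - i) * x * (r ^ ((j : ℕ) - i))⁻¹ = (r ^ (i : ℕ))⁻¹ *
          (r ^ (i : ℕ) * r ^ ((j : ℕ) - i) * x * (r ^ (i : ℕ) * r ^ ((j : ℕ) - i))⁻¹) * r ^ (i : ℕ) by group, ← e']
        group
    have hinj : Function.Injective f := fun i j e => by
      rcases le_total (i : ℕ) j with h | h
      exacts [key i j h e, (key j i h e.symm).symm]
    have hcard : Nat.card {z : ↥(P : Subgroup X) // z ≠ 1} = Nat.card (Fin n) := by
      haveI := Fintype.ofFinite ↥(P : Subgroup X)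
      rw [Nat.card_eq_fintype_card, Nat.card_eq_fintype_card, Fintype.card_fin, hn, Fintype.card_subtype_compl,
        Fintype.card_subtype_eq, Nat.card_eq_fintype_card]
    obtain ⟨i, hi⟩ := ((Nat.bijective_iff_injective_and_card f).2 ⟨hinj, hcard.symm⟩).2
      ⟨⟨y, hy⟩, fun e => hy1 (congrArg Subtype.val e)⟩
    exact ⟨i, congrArg Subtype.val (congrArg Subtype.val hi)⟩
  · by_cases hk : n ∣ k
    · exact fun y hy => hper k hk y hy
    · exact absurd e (hfix k hk x hx hx1)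

/-- The image of the normaliser: powers of the rotation, or order three for `|P| = 8`. -/
theorem rot_image (hsq : ∀ x ∈ P, x * x = 1) (h4 : 4 ≤ Nat.card ↥(P : Subgroup X)) (hR : Walter.Rot (P : Subgroup X))
    (hfree : (∀ x ∈ P, x ≠ 1 → centralizer ({x} : Set X) = (P : Subgroup X)) ∨
      Nat.card ↥(P : Subgroup X) = 4 ∨ Nat.card ↥(P : Subgroup X) = 8) :
    ∃ r ∈ normalizer ((P : Subgroup X) : Set X), Odd (orderOf r) ∧
      (∀ x ∈ P, ∀ y ∈ P, x ≠ 1 → y ≠ 1 → ∃ k : ℕ, r ^ k * x * (r ^ k)⁻¹ = y) ∧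
      (∀ k : ℕ, ∀ x ∈ P, x ≠ 1 → r ^ k * x * (r ^ k)⁻¹ = x → ∀ y ∈ P, r ^ k * y * (r ^ k)⁻¹ = y) ∧
      ∀ g ∈ normalizer ((P : Subgroup X) : Set X),
        (∃ k : ℕ, ∀ x ∈ P, g * x * g⁻¹ = r ^ k * x * (r ^ k)⁻¹) ∨
          (Nat.card ↥(P : Subgroup X) = 8 ∧ ∀ x ∈ P, g ^ 3 * x * (g ^ 3)⁻¹ = x) := by
  classical
  haveI : Fact (Nat.Prime 2) := ⟨Nat.prime_two⟩
  obtain ⟨r, hrN, hrodd, htr, hsemi, hper, hfix⟩ := exists_rotation h4 hR
  refine ⟨r, hrN, hrodd, htr, hsemi, fun g hg => ?_⟩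
  have hcomm : ∀ s ∈ P, ∀ x ∈ P, s * x = x * s := fun s hs x hx => by
    calc s * x = (s * x)⁻¹ := (inv_eq_of_mul_eq_one_right (hsq _ (mul_mem hs hx))).symm
      _ = x * s := by rw [mul_inv_rev, inv_eq_of_mul_eq_one_right (hsq x hx), inv_eq_of_mul_eq_one_right (hsq s hs)]
  set N := normalizer ((P : Subgroup X) : Set X)
  set σ := Walter.conjHom N (P : Subgroup X) le_rfl
  have hodd : Odd (Nat.card σ.range) := Walter.odd_conjHom P le_rfl le_normalizer hcomm
  have hodd' : ∀ e ∈ σ.range, Odd (orderOf e) := fun e he =>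
    hodd.of_dvd_nat (Subgroup.orderOf_dvd_natCard _ he)
  have hV : ∀ v : ↥(P : Subgroup X), v * v = 1 := fun v => Subtype.ext (hsq v v.2)
  haveI : Nontrivial ↥(P : Subgroup X) := Finite.one_lt_card_iff_nontrivial.1 (by omega)
  obtain ⟨x₀, hx₀⟩ := exists_ne (1 : ↥(P : Subgroup X))
  have hx₀' : (x₀ : X) ≠ 1 := fun e => hx₀ (Subtype.ext e)
  set ρ := σ ⟨r, hrN⟩ with hρ
  have hρpow : ∀ (k : ℕ) (x : ↥(P : Subgroup X)), ((ρ ^ k) x : X) = r ^ k * x * (r ^ k)⁻¹ := fun k x => by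
    rw [hρ, ← map_pow]; rfl
  set e := σ ⟨g, hg⟩ with he
  have heR : e ∈ σ.range := ⟨_, rfl⟩
  have hρR : ρ ∈ σ.range := ⟨_, rfl⟩
  have hkey : ∀ k : ℕ, e = ρ ^ k → ∀ x ∈ P, g * x * g⁻¹ = r ^ k * x * (r ^ k)⁻¹ := fun k hk x hx => by
    rw [← hρpow k ⟨x, hx⟩, ← hk]; rfl
  obtain ⟨k, hk⟩ := htr x₀ x₀.2 (e x₀) (e x₀).2 hx₀'
    (fun h => hx₀ (e.injective ((Subtype.ext h).trans (map_one e).symm)))
  have hfx : ((ρ ^ k)⁻¹ * e) x₀ = x₀ := by
    rw [MulAut.mul_apply, show e x₀ = (ρ ^ k) x₀ from Subtype.ext ((hρpow k x₀).trans hk).symm,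
      ← MulAut.mul_apply, inv_mul_cancel, MulAut.one_apply]
  have hfR : (ρ ^ k)⁻¹ * e ∈ σ.range := mul_mem (inv_mem (pow_mem hρR k)) heR
  rcases hfree with hc | hc | hc
  · refine Or.inl ⟨k, fun x hx => ?_⟩
    have h1 : (r ^ k)⁻¹ * g ∈ centralizer ({(x₀ : X)} : Set X) := mem_centralizer_singleton_iff.2 (by
      have h := congrArg (Subtype.val) hfx
      have e' : (ρ ^ k)⁻¹ * e = σ (⟨r, hrN⟩ ^ k)⁻¹ * σ ⟨g, hg⟩ := by rw [map_inv, map_pow]
      rw [e', ← map_mul] at h
      exact mul_inv_eq_iff_eq_mul.1 h)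
    rw [hc x₀ x₀.2 hx₀'] at h1
    calc g * x * g⁻¹ = r ^ k * (((r ^ k)⁻¹ * g) * x * ((r ^ k)⁻¹ * g)⁻¹) * (r ^ k)⁻¹ := by group
      _ = _ := by rw [hcomm _ h1 x hx, mul_inv_cancel_right]
  · refine Or.inl ⟨k, hkey k ?_⟩
    refine (inv_mul_eq_one.1 (eq_one_of_fix_half hV (hodd' _ hfR) ?_)).symm
    set W := MonoidHom.eqLocus ((ρ ^ k)⁻¹ * e).toMonoidHom (MonoidHom.id ↥(P : Subgroup X))
    have h2 : 2 ≤ Nat.card W := Finite.one_lt_card_iff_nontrivial.2
      ⟨⟨x₀, hfx⟩, 1, fun h => hx₀ (congrArg Subtype.val h)⟩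
    have h3 := W.card_mul_index
    rw [hc] at h3
    have := Nat.mul_le_mul_right W.index h2
    omega
  -- the case `|P| = 8`
  set R := σ.range with hRdef
  let Rx : Subgroup (MulAut ↥(P : Subgroup X)) := R ⊓
    { carrier := {f | f x₀ = x₀}
      one_mem' := rfl
      mul_mem' := fun {f f'} (hf : f x₀ = x₀) (hf' : f' x₀ = x₀) => by
        show (f * f') x₀ = x₀
        rw [MulAut.mul_apply, hf', hf]
      inv_mem' := fun {f} (hf : f x₀ = x₀) => by
        show f⁻¹ x₀ = x₀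
        conv_lhs => rw [← hf]
        rw [← MulAut.mul_apply, inv_mul_cancel, MulAut.one_apply] }
  have hpair : ∀ f ∈ Rx, ∀ a, a ≠ 1 → a ≠ x₀ → f a = a → f = 1 := by
    intro f hf a ha hax hfa
    refine eq_one_of_fix_half hV (hodd' _ hf.1) ?_
    set W := MonoidHom.eqLocus f.toMonoidHom (MonoidHom.id ↥(P : Subgroup X))
    have h3 : 3 ≤ Nat.card W := by
      have hsub : ({1, x₀, a} : Set ↥(P : Subgroup X)) ⊆ (W : Set ↥(P : Subgroup X)) := by
        rintro z (rfl | rfl | rfl)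
        exacts [one_mem _, hf.2, hfa]
      have h := Set.ncard_le_ncard hsub (Set.toFinite _)
      rw [Set.ncard_eq_three.2 ⟨1, x₀, a, Ne.symm hx₀, Ne.symm ha, Ne.symm hax, rfl⟩, ← Nat.card_coe_set_eq] at h
      exact h
    have h4' := W.card_mul_index
    rw [hc] at h4'
    have := Nat.mul_le_mul_right W.index h3
    omega
  -- at most three elements fix `x₀`
  obtain ⟨a, ha, hax⟩ : ∃ a : ↥(P : Subgroup X), a ≠ 1 ∧ a ≠ x₀ := by
    by_contra h
    push Not at h
    have := Nat.card_le_card_of_surjective (fun b : Bool => if b then x₀ else 1) fun y => by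
      by_cases hy : y = 1
      · exact ⟨false, by simp [hy]⟩
      · exact ⟨true, by simp [h y hy]⟩
    rw [Nat.card_eq_fintype_card (α := Bool), Fintype.card_bool, hc] at this
    omega
  have hRx : Nat.card Rx ≤ 3 := by
    have hmul : ∀ f : Rx, ∀ y, (f : MulAut _) (y * x₀) = (f : MulAut _) y * x₀ := fun f y => by
      rw [map_mul, f.2.2]
    let φ : Option (Option (Rx × Bool)) → ↥(P : Subgroup X) := fun o => match o with
      | none => 1
      | some none => x₀
      | some (some (f, b)) => (f : MulAut _) (if b then a * x₀ else a)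
    have hne : ∀ (f : Rx) (b : Bool), φ (some (some (f, b))) ≠ 1 ∧ φ (some (some (f, b))) ≠ x₀ := by
      intro f b
      have h1 : (if b then a * x₀ else a) ≠ 1 ∧ (if b then a * x₀ else a) ≠ x₀ := by
        cases b
        · exact ⟨ha, hax⟩
        · exact ⟨fun h => hax (mul_right_cancel (h.trans (hV x₀).symm)),
            fun h => ha (mul_right_cancel (h.trans (one_mul x₀).symm))⟩
      exact ⟨fun h => h1.1 ((f : MulAut _).injective (h.trans (map_one _).symm)),
        fun h => h1.2 ((f : MulAut _).injective (h.trans f.2.2.symm))⟩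
    have hφ : Function.Injective φ := by
      have key : ∀ (f f' : Rx) (b b' : Bool), φ (some (some (f, b))) = φ (some (some (f', b'))) →
          f = f' ∧ b = b' := by
        intro f f' b b' h
        have hτ : ((f' : MulAut ↥(P : Subgroup X))⁻¹ * (f : MulAut ↥(P : Subgroup X))) (if b then a * x₀ else a) = (if b' then a * x₀ else a) := by
          rw [MulAut.mul_apply, show (f : MulAut _) (if b then a * x₀ else a) = _ from h, ← MulAut.mul_apply,
            inv_mul_cancel, MulAut.one_apply]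
        set τ : MulAut ↥(P : Subgroup X) := (f' : MulAut ↥(P : Subgroup X))⁻¹ * (f : MulAut ↥(P : Subgroup X)) with hτd
        have hτR : τ ∈ Rx := mul_mem (inv_mem f'.2) f.2
        have hax0 : τ (a * x₀) = τ a * x₀ := hmul ⟨τ, hτR⟩ a
        have hτ2 : τ * τ ∈ Rx := mul_mem hτR hτR
        have h1 : τ = 1 → f = f' := fun h0 => Subtype.ext (inv_mul_eq_one.1 h0).symm
        have hb : τ a = a ∨ τ a = a * x₀ := by
          cases b <;> cases b' <;> simp only [Bool.false_eq_true, if_false, if_true] at hτ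
          · exact Or.inl hτ
          · exact Or.inr hτ
          · refine Or.inr ?_
            rw [hax0] at hτ
            calc τ a = τ a * x₀ * x₀ := by rw [mul_assoc, hV, mul_one]
              _ = a * x₀ := by rw [hτ]
          · rw [hax0] at hτ
            exact Or.inl (mul_right_cancel hτ)
        have hτ1 : τ = 1 := by
          rcases hb with hb | hb
          · exact hpair τ hτR a ha hax hb
          · have h2 : τ * τ = 1 := hpair _ hτ2 a ha hax (by
              rw [MulAut.mul_apply, hb, hax0, hb, mul_assoc, hV, mul_one])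
            obtain ⟨j, hj⟩ := hodd' τ hτR.1
            calc τ = τ ^ (2 * j + 1) := by rw [pow_succ, pow_mul, pow_two, h2, one_pow, one_mul]
              _ = 1 := by rw [← hj, pow_orderOf_eq_one]
        refine ⟨h1 hτ1, ?_⟩
        rw [hτ1, MulAut.one_apply] at hτ
        cases b <;> cases b' <;> simp only [Bool.false_eq_true, if_false, if_true] at hτ ⊢
        · exact absurd (mul_left_cancel ((mul_one a).trans hτ)).symm hx₀
        · exact absurd (mul_left_cancel (hτ.trans (mul_one a).symm)) hx₀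
      rintro (_ | _ | ⟨f, b⟩) (_ | _ | ⟨f', b'⟩) h
      · rfl
      · exact absurd h.symm hx₀
      · exact absurd h.symm (hne f' b').1
      · exact absurd h hx₀
      · rfl
      · exact absurd h.symm (hne f' b').2
      · exact absurd h (hne f b).1
      · exact absurd h (hne f b).2
      · obtain ⟨rfl, rfl⟩ := key f f' b b' h; rfl
    have := Nat.card_le_card_of_injective φ hφ
    rw [Finite.card_option, Finite.card_option, Nat.card_prod, Nat.card_eq_fintype_card (α := Bool),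
      Fintype.card_bool, hc] at this
    omega
  have hρ7 : orderOf ρ = 7 := by
    haveI : Fact (Nat.Prime 7) := ⟨by norm_num⟩
    refine orderOf_eq_prime (MulEquiv.ext fun x => Subtype.ext ((hρpow 7 x).trans ?_)) fun h => ?_
    · have := hper x x.2
      rwa [hc] at this
    · refine hfix 1 (by rw [hc]; norm_num) x₀ x₀.2 hx₀' ?_
      rw [← hρpow 1 x₀, pow_one, h]; rfl
  set Z := (zpowers ρ).subgroupOf R
  have hidx : Nat.card R = 7 * Z.index := by
    rw [← Z.card_mul_index, Nat.card_congr (subgroupOfEquivOfLe (zpowers_le.2 hρR)).toEquiv, Nat.card_zpowers, hρ7]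
  have hle : Nat.card R ≤ 21 := by
    have hex : ∀ f : R, ∃ i : Fin 7, (ρ ^ (i : ℕ))⁻¹ * (f : MulAut _) ∈ Rx := fun f => by
      obtain ⟨i, hi⟩ := htr x₀ x₀.2 ((f : MulAut ↥(P : Subgroup X)) x₀)
        ((f : MulAut ↥(P : Subgroup X)) x₀).2 hx₀' (by
        intro h
        exact hx₀ ((f : MulAut ↥(P : Subgroup X)).injective ((Subtype.ext h).trans (map_one _).symm)))
      refine ⟨⟨i % 7, Nat.mod_lt _ (by norm_num)⟩, R.mul_mem (R.inv_mem (R.pow_mem hρR _)) f.2, ?_⟩
      show ((ρ ^ (i % 7))⁻¹ * (f : MulAut ↥(P : Subgroup X))) x₀ = x₀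
      rw [show ρ ^ (i % 7) = ρ ^ i by rw [← hρ7]; exact pow_mod_orderOf ρ i, MulAut.mul_apply,
        show (f : MulAut ↥(P : Subgroup X)) x₀ = (ρ ^ i) x₀ from Subtype.ext ((hρpow i x₀).trans hi).symm,
        ← MulAut.mul_apply, inv_mul_cancel, MulAut.one_apply]
    choose i hi using hex
    have := Nat.card_le_card_of_injective (f := fun f : R => (i f, (⟨_, hi f⟩ : Rx))) fun f f' h => by
      obtain ⟨h1, h2⟩ := Prod.ext_iff.1 h
      have h2' := congrArg Subtype.val h2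
      simp only at h1 h2'
      rw [h1] at h2'
      exact Subtype.ext (mul_left_cancel h2')
    rw [Nat.card_prod, Nat.card_eq_fintype_card (α := Fin 7), Fintype.card_fin] at this
    omega
  have hZn : Z.Normal := by
    by_cases h1 : Z.index = 1
    · rw [Subgroup.index_eq_one] at h1
      rw [h1]; infer_instance
    refine Subgroup.normal_of_index_eq_minFac_card ?_
    have h0 : Z.index ≠ 0 := Subgroup.index_ne_zero_of_finite
    have hi3 : Z.index = 3 := by
      rw [hidx] at hle hodd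
      have := (Nat.odd_mul.1 hodd).2
      obtain ⟨j, hj⟩ := this
      omega
    rw [hidx, hi3]
    norm_num
  have hk3 : e ^ 3 ∈ zpowers ρ := by
    by_cases h1 : Z.index = 1
    · rw [Subgroup.index_eq_one] at h1
      have : (⟨e, heR⟩ : R) ∈ Z := h1 ▸ mem_top _
      exact pow_mem (mem_subgroupOf.1 this) 3
    have hi3 : Z.index = 3 := by
      have h0 : Z.index ≠ 0 := Subgroup.index_ne_zero_of_finite
      rw [hidx] at hle hodd
      obtain ⟨j, hj⟩ := (Nat.odd_mul.1 hodd).2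
      omega
    have := Subgroup.pow_index_mem Z (⟨e, heR⟩ : R)
    rw [hi3] at this
    exact mem_subgroupOf.1 this
  by_cases h1 : e ^ 3 = 1
  · refine Or.inr ⟨hc, fun x hx => ?_⟩
    have := congrArg (fun f : MulAut ↥(P : Subgroup X) => ((f ⟨x, hx⟩ : ↥(P : Subgroup X)) : X)) h1
    rw [he, ← map_pow] at this
    exact this
  refine Or.inl ⟨k, hkey k (inv_mul_eq_one.1 ?_).symm⟩
  -- `e` commutes with `ρ`
  have hgen : ρ ∈ zpowers (e ^ 3) := by
    have hle : zpowers (e ^ 3) ≤ zpowers ρ := zpowers_le.2 hk3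
    have hd := card_dvd_of_le hle
    rw [Nat.card_zpowers ρ, hρ7] at hd
    rcases (Nat.dvd_prime (by norm_num : Nat.Prime 7)).1 hd with h | h
    · rw [Nat.card_zpowers, orderOf_eq_one_iff] at h
      exact absurd h h1
    · rw [Subgroup.eq_of_le_of_card_ge hle (by rw [Nat.card_zpowers ρ, hρ7, h])]
      exact mem_zpowers ρ
  obtain ⟨z, hz⟩ := mem_zpowers_iff.1 hgen
  have hcρ : Commute e ρ := hz ▸ ((Commute.self_pow e 3).zpow_right z)
  set f := (ρ ^ k)⁻¹ * e
  have hcf : Commute f ρ := ((Commute.refl ρ).pow_left k).inv_left.mul_left hcρ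
  refine MulEquiv.ext fun y => ?_
  rw [MulAut.one_apply]
  rcases eq_or_ne y 1 with rfl | hy
  · exact map_one f
  obtain ⟨i, hi⟩ := htr x₀ x₀.2 y y.2 hx₀' (fun h => hy (Subtype.ext h))
  have hy' : y = (ρ ^ i) x₀ := Subtype.ext ((hρpow i x₀).trans hi).symm
  rw [hy', ← MulAut.mul_apply, (hcf.pow_right i).eq, MulAut.mul_apply, hfx]

end Cfsg.Lib.Goldschmidt
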