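import Cfsg.Agent.BenderSuzuki.Assembly
import Cfsg.Agent.BenderSuzuki.Unitary
import Cfsg.Agent.Suz.Lie

/-!
Rank one groups in characteristic two: the two-point stabiliser is the product of the inverted elements and
the centraliser of the involutions, and the three facts on `Q / Z` used for automorphisms.
-/

set_option autoImplicit false
set_option linter.unusedSectionVars false
set_option linter.style.haveILetI false

namespace Cfsg.Lib.Goldschmidt.Rk

open MulAction Cfsg.Lib.RankOne Cfsg.Lib.BenderSuzuki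

universe u v

variable {G : Type u} {Ω : Type v} [Group G] [Finite G] [MulAction G Ω] {a : Ω} {t : G} {Q : Subgroup G}

theorem good (hs : Simple G Ω a t Q) : Good a t Q :=
  ih_of_unitary unitaryStep (Nat.card G + 1) G Ω a t Q (Nat.lt_succ_self _) hs

theorem four_le (hs : Simple G Ω a t Q) : 4 ≤ qNum G a := by
  obtain ⟨k, hk, hq⟩ := qNum_pow hs
  rw [hq]
  exact le_trans (by norm_num) (Nat.pow_le_pow_right two_pos hk)

/-- For `|Q| = q` the group is generated by `Q`, the inverted elements and `t` in Bruhat form. -/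
theorem torus_linear (hs : Simple G Ω a t Q) (hn : Nat.card Q = qNum G a) {d : G} (hd : d ∈ twoStab Ω a t) :
    d ∈ invK Ω a t := by
  have hS := hs.setup
  obtain ⟨C, hC, hcyc, hCn⟩ := inverted_subgroup hS hs.two
  have hCmem : ∀ k, k ∈ C ↔ k ∈ invK Ω a t := fun k => Set.ext_iff.1 hC k
  have hCD : ∀ k ∈ C, k ∈ twoStab Ω a t := fun k hk => ((hCmem k).1 hk).1
  have hCa : ∀ k ∈ C, k ∈ stabilizer G a := fun k hk => (Subgroup.mem_inf.1 (hCD k hk)).1
  have hQC : ∀ k ∈ C, ∀ q ∈ Q, k * q * k⁻¹ ∈ Q := fun k hk q hq => hS.conj_mem k (hCa k hk) q hq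
  have htk : ∀ k ∈ C, t * k = k⁻¹ * t := fun k hk => by
    rw [← ((hCmem k).1 hk).2]; group
  -- the conjugates of `t`
  obtain ⟨s₀, hs₀, r, hr, hr2, e₀⟩ := caseL_of_card hs hn
  have hswap : ∀ s ∈ invl G a, ∃ k ∈ C, ∃ p ∈ Q, ∃ p' ∈ Q, t * s * t = p * k * t * p' := by
    intro s hs'
    obtain ⟨k, hk, rfl⟩ := conj_surj hS hs₀ hs'
    have hkC := (hCmem k).2 hk
    refine ⟨k * k, mul_mem hkC hkC, k * r⁻¹ * k⁻¹, hQC k hkC _ (inv_mem hr), k * r * k⁻¹, hQC k hkC r hr, ?_⟩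
    calc t * (k⁻¹ * s₀ * k) * t = (t * k⁻¹) * s₀ * (k * t) := by group
      _ = (k * t) * s₀ * (t * k⁻¹) := by
        rw [htk k⁻¹ (inv_mem hkC), inv_inv, show k * t = t * k⁻¹ by rw [htk k⁻¹ (inv_mem hkC), inv_inv]]
      _ = k * (t * s₀ * t) * k⁻¹ := by group
      _ = k * r⁻¹ * (t * k⁻¹) * (k * r * k⁻¹) := by rw [e₀]; group
      _ = _ := by rw [htk k⁻¹ (inv_mem hkC), inv_inv]; group
  let N : Subgroup G :=
    { carrier := {g | (∃ q ∈ Q, ∃ k ∈ C, g = q * k) ∨ ∃ q ∈ Q, ∃ k ∈ C, ∃ p ∈ Q, g = q * k * t * p}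
      one_mem' := Or.inl ⟨1, one_mem _, 1, one_mem _, (one_mul 1).symm⟩
      mul_mem' := by
        rintro x y (⟨q, hq, k, hk, rfl⟩ | ⟨q, hq, k, hk, p, hp, rfl⟩)
          (⟨q', hq', k', hk', rfl⟩ | ⟨q', hq', k', hk', p', hp', rfl⟩)
        · exact Or.inl ⟨q * (k * q' * k⁻¹), mul_mem hq (hQC k hk q' hq'), k * k', mul_mem hk hk', by group⟩
        · exact Or.inr ⟨q * (k * q' * k⁻¹), mul_mem hq (hQC k hk q' hq'), k * k', mul_mem hk hk', p', hp', by group⟩
        · refine Or.inr ⟨q, hq, k * k'⁻¹, mul_mem hk (inv_mem hk'), k'⁻¹ * (p * q') * k',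
            by simpa using hQC k'⁻¹ (inv_mem hk') _ (mul_mem hp hq'), ?_⟩
          calc q * k * t * p * (q' * k') = q * k * (t * k') * (k'⁻¹ * (p * q') * k') := by group
            _ = _ := by rw [htk k' hk']; group
        · have hpq := mul_mem hp hq'
          by_cases h1 : p * q' = 1
          · refine Or.inl ⟨q * ((k * k'⁻¹) * p' * (k * k'⁻¹)⁻¹), mul_mem hq (hQC _ (mul_mem hk (inv_mem hk')) _ hp'),
              k * k'⁻¹, mul_mem hk (inv_mem hk'), ?_⟩
            calc q * k * t * p * (q' * k' * t * p') = q * k * t * (p * q') * k' * t * p' := by group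
              _ = q * k * ((t * k') * t) * p' := by rw [h1]; group
              _ = q * k * (k'⁻¹ * (t * t)) * p' := by rw [htk k' hk']; group
              _ = _ := by rw [hS.mul_self]; group
          · obtain ⟨c, hc, u, hu, u', hu', e⟩ := hswap _ (invl_eq hs hn hpq h1)
            refine Or.inr ⟨q * (k * u * k⁻¹), mul_mem hq (hQC k hk u hu), k * c * k', mul_mem (mul_mem hk hc) hk',
              (k' * u' * k'⁻¹) * p', mul_mem (hQC k' hk' u' hu') hp', ?_⟩
            have ht' : t * (k'⁻¹) = k' * t := by rw [htk k'⁻¹ (inv_mem hk'), inv_inv]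
            calc q * k * t * p * (q' * k' * t * p') = q * k * t * (p * q') * (k' * t) * p' := by group
              _ = q * k * (t * (p * q') * t) * k'⁻¹ * p' := by rw [← ht']; group
              _ = q * k * u * c * t * u' * k'⁻¹ * p' := by rw [e]; group
              _ = q * k * u * c * (t * k'⁻¹) * (k' * u' * k'⁻¹) * p' := by group
              _ = _ := by rw [ht']; group
      inv_mem' := by
        rintro x (⟨q, hq, k, hk, rfl⟩ | ⟨q, hq, k, hk, p, hp, rfl⟩)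
        · exact Or.inl ⟨k⁻¹ * q⁻¹ * k, by simpa using hQC k⁻¹ (inv_mem hk) _ (inv_mem hq), k⁻¹, inv_mem hk,
            by group⟩
        · refine Or.inr ⟨p⁻¹, inv_mem hp, k, hk, q⁻¹, inv_mem hq, ?_⟩
          have ht' : t * k⁻¹ = k * t := by rw [htk k⁻¹ (inv_mem hk), inv_inv]
          calc (q * k * t * p)⁻¹ = p⁻¹ * (t⁻¹ * k⁻¹) * q⁻¹ := by group
            _ = p⁻¹ * (k * t) * q⁻¹ := by rw [t_inv hS, ht']
            _ = _ := by group }
  have hN : N = ⊤ := gen_top hs hC N (fun q hq => Or.inl ⟨q, hq, 1, one_mem _, (mul_one q).symm⟩)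
    (fun k hk => Or.inl ⟨1, one_mem _, k, hk, (one_mul k).symm⟩)
    (Or.inr ⟨1, one_mem _, 1, one_mem _, 1, one_mem _, by group⟩)
  obtain ⟨hda, hdb⟩ := Subgroup.mem_inf.1 hd
  rcases hN ▸ Subgroup.mem_top d with ⟨q, hq, k, hk, e⟩ | ⟨q, hq, k, hk, p, hp, e⟩
  · have h1 : q ∈ Q ⊓ stabilizer G (t • a) := Subgroup.mem_inf.2 ⟨hq, by
      rw [show q = d * k⁻¹ by rw [e]; group]
      exact mul_mem hdb (inv_mem (Subgroup.mem_inf.1 (hCD k hk)).2)⟩
    rw [hS.inf_eq_bot, Subgroup.mem_bot] at h1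
    rw [e, h1, one_mul]
    exact (hCmem k).1 hk
  · refine absurd ?_ hS.not_mem
    rw [show t = (q * k)⁻¹ * d * p⁻¹ by rw [e]; group]
    exact mul_mem (mul_mem (inv_mem (mul_mem (hS.le hq) (hCa k hk))) hda) (inv_mem (hS.le hp))

/-- For `|Q| = q ^ 2` the number `q` is at least 8 and the two-point stabiliser consists of inverted elements. -/
theorem torus_suzuki (hs : Simple G Ω a t Q) (hL : ¬ CaseL a t Q) (hn : Nat.card Q = qNum G a ^ 2)
    (hna : NonAb Q) : 8 ≤ qNum G a ∧ ∀ d ∈ twoStab Ω a t, d ∈ invK Ω a t := by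
  have hiso : Cfsg.Lie.IsoSuzuki G := by
    obtain ⟨E, hE, -, C, hcard⟩ := exists_szKern hs hn hna
    obtain ⟨K, iK, iKK, iC, φ, ι, κ, hK, co⟩ := exists_sz_coords C
    refine suzuki_of_frame ⟨hs, hL, hE, co⟩ ?_
    have h3 : 2 < Nat.card (Subgroup.center Q) := by
      obtain ⟨x, y, hxy, hx, hx2, hy, hy2⟩ := C.two
      have h : ({1, x, y} : Set Q) ⊆ (Subgroup.center Q : Set Q) := by
        rintro z (rfl | rfl | rfl)
        · exact one_mem _
        · exact C.central _ hx2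
        · exact C.central _ hy2
      have h1 := Set.ncard_le_ncard h (Set.toFinite _)
      rw [Set.ncard_eq_three.2 ⟨1, x, y, Ne.symm hx, Ne.symm hy, hxy, rfl⟩, ← Nat.card_coe_set_eq] at h1
      exact h1
    rw [C.card_center] at h3
    omega
  obtain ⟨F, iF, iFF, m, hm, hF, ⟨f⟩⟩ := hiso
  have P : Cfsg.Lib.Suz.Par F m := ⟨hm, hF⟩
  obtain ⟨k, hk2, hk⟩ := qNum_pow hs
  have hG := card_group hs.setup
  rw [Nat.card_congr (f.trans (Cfsg.Lib.Suz.lieEquiv P).symm).toEquiv, Cfsg.Lib.Suz.card_Sz P, hn,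
    card_twoStab hs, hk] at hG
  set A := 2 ^ (2 * m + 1) with hA
  set c := Nat.card (centT Ω a t) with hc
  have hc' : Odd c := hs.setup.odd_card.of_dvd_nat (Subgroup.card_dvd_of_le inf_le_left)
  have hA8 : 8 ≤ A := by
    calc 8 = 2 ^ 3 := rfl
      _ ≤ _ := Nat.pow_le_pow_right two_pos (by omega)
  have hodd1 : Odd ((A ^ 2 + 1) * (A - 1)) := by
    have hev : Even A := Nat.even_pow.2 ⟨even_two, by omega⟩
    exact Nat.odd_mul.2 ⟨(hev.pow_of_ne_zero two_ne_zero).add_one, Nat.Even.sub_odd (by omega) hev odd_one⟩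
  have hodd2 : Odd (c * (2 ^ k - 1) * ((2 ^ k) ^ 2 + 1)) := by
    have hev : Even (2 ^ k : ℕ) := Nat.even_pow.2 ⟨even_two, by omega⟩
    exact Nat.odd_mul.2 ⟨Nat.odd_mul.2 ⟨hc', Nat.Even.sub_odd Nat.one_le_two_pow hev odd_one⟩,
      (hev.pow_of_ne_zero two_ne_zero).add_one⟩
  have hd1 : A ^ 2 ∣ (2 ^ k) ^ 2 := by
    refine Nat.Coprime.dvd_of_dvd_mul_right (n := c * (2 ^ k - 1) * ((2 ^ k) ^ 2 + 1)) ?_
      ⟨(A ^ 2 + 1) * (A - 1), by linarith [hG]⟩
    rw [hA, ← pow_mul]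
    exact (Nat.coprime_two_left.2 hodd2).pow_left _
  have hd2 : (2 ^ k) ^ 2 ∣ A ^ 2 := by
    refine Nat.Coprime.dvd_of_dvd_mul_right (n := (A ^ 2 + 1) * (A - 1)) ?_
      ⟨c * (2 ^ k - 1) * ((2 ^ k) ^ 2 + 1), by linarith [hG]⟩
    rw [← pow_mul]
    exact (Nat.coprime_two_left.2 hodd1).pow_left _
  have hq : A = 2 ^ k := Nat.pow_left_injective two_ne_zero (Nat.dvd_antisymm hd1 hd2)
  rw [← hq] at hG
  have hc1 : c = 1 := by
    have hpos : 0 < A ^ 2 * ((A ^ 2 + 1) * (A - 1)) :=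
      Nat.mul_pos (pow_pos (by omega) _) (Nat.mul_pos (Nat.succ_pos _) (by omega))
    refine Nat.eq_of_mul_eq_mul_left hpos ?_
    linarith [hG]
  refine ⟨by rw [hk, ← hq]; exact hA8, fun d hd => ?_⟩
  obtain ⟨⟨v, l⟩, ⟨hv, hl, e⟩, -⟩ := factor hs.setup.mul_self hs.setup.odd_card (fun x hx => conj_D hs.setup hx) hd
  have hbot : centT Ω a t = ⊥ := Subgroup.card_eq_one.1 hc1
  simp only at hv hl e
  have hv' : v ∈ centT Ω a t := hv
  rw [hbot, Subgroup.mem_bot] at hv'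
  rw [e, hv', one_mul]
  exact hl

/-- The two-point stabiliser is the product of the inverted elements and the centraliser of the involutions. -/
theorem twoStab_eq (hs : Simple G Ω a t Q) {d : G} (hd : d ∈ twoStab Ω a t) :
    ∃ k ∈ invK Ω a t, ∃ w ∈ centI Ω a t, d = k * w := by
  have h1 : ∀ {x}, x ∈ invK Ω a t → ∃ k ∈ invK Ω a t, ∃ w ∈ centI Ω a t, x = k * w :=
    fun {x} hx => ⟨x, hx, 1, one_mem _, (mul_one x).symm⟩
  rcases (good hs).dich with ⟨-, hn⟩ | ⟨hL, hn, hna⟩ | ⟨hL, hn, hna, hV⟩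
  · exact h1 (torus_linear hs hn hd)
  · exact h1 ((torus_suzuki hs hL hn hna).2 d hd)
  · obtain ⟨F, E, _, _, _, _, _, _, ⟨Fr⟩⟩ :=
      (U3.Input.of_step hs (ih_of_unitary unitaryStep _) hL hn hna hV).exists_frame
    obtain ⟨M⟩ := Fr.exists_muData
    obtain ⟨l, w, hw, e⟩ := Fr.twoStab_eq M d hd
    exact ⟨_, Fr.coord.kl_mem l, w, hw, e⟩

end Cfsg.Lib.Goldschmidt.Rk
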