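import Cfsg.Agent.Goldschmidt.S1.Bender
import Cfsg.Agent.Goldschmidt.S1.Rotation
import Cfsg.Agent.Goldschmidt.Setting
import Cfsg.Agent.Walter.Main
import Cfsg.Agent.S4593

/-!
The facts for the simple groups occurring below the minimal counterexample, and the extra facts on
`PSL(2, q)`, `q ≡ 3, 5 (mod 8)`, `q > 5`.
-/

set_option autoImplicit false
set_option linter.unusedSectionVars false
set_option linter.style.haveILetI false

namespace Cfsg.Lib.Goldschmidt

open Subgroup Cfsg.Lib.Components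

universe u

variable {X : Type u} [Group X] [Finite X]

/-- An automorphism of two-power order fixing an abelian Sylow 2-subgroup is conjugation by one of its elements. -/
theorem inner_of_fix [IsSimpleGroup X] (hna : ¬ IsMulCommutative X) (hab : Walter.AbTwo X) {P : Sylow 2 X}
    (hP : (P : Subgroup X) ≠ ⊥) {α : MulAut X} (hα : ∃ j : ℕ, orderOf α = 2 ^ j) (hfix : ∀ x ∈ P, α x = x) :
    ∃ v ∈ P, α = MulAut.conj v := by
  haveI : Fact (Nat.Prime 2) := ⟨Nat.prime_two⟩
  have hc : center X = ⊥ := by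
    refine (IsSimpleGroup.eq_bot_or_eq_top_of_normal (center X) inferInstance).resolve_right fun e => hna ?_
    exact ⟨⟨fun x y => (mem_center_iff.1 (e ▸ mem_top y) x)⟩⟩
  have hO : Cfsg.pPrimeCore 2 X = ⊥ := by
    haveI : (Cfsg.pPrimeCore 2 X).Normal := normal_of_mem_sSup_normal fun _ h => h.1
    refine (IsSimpleGroup.eq_bot_or_eq_top_of_normal (Cfsg.pPrimeCore 2 X) inferInstance).resolve_right
      fun e => hP ?_
    have h := coprime_card_pPrimeCore (G := X) 2
    rw [e, card_top] at h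
    obtain ⟨m, hm⟩ := IsPGroup.iff_card.1 P.2
    refine Subgroup.eq_bot_of_card_eq _ (Nat.eq_one_of_dvd_coprimes (h.pow_right m) (card_subgroup_dvd_card _) ?_)
    rw [hm]
  obtain ⟨g, hg⟩ := Cfsg.Agent.S4593.result hc hO P (Walter.sylow_two_comm hab P) α hα fun x hx => hfix x hx
  have hαg : α = MulAut.conj g := MulEquiv.ext fun x => hg x
  obtain ⟨j, hj⟩ := hα
  have hgj : g ^ 2 ^ j = 1 := by
    refine mem_bot.1 (hc ▸ mem_center_iff.2 fun y => ?_)
    have h0 := pow_orderOf_eq_one α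
    rw [hj, hαg, ← map_pow] at h0
    have h := congrArg (fun f : MulAut X => f y) h0
    simp only [MulAut.conj_apply, MulAut.one_apply] at h
    exact (mul_inv_eq_iff_eq_mul.1 h).symm
  obtain ⟨k, -, hk⟩ := (Nat.dvd_prime_pow Nat.prime_two).1 (orderOf_dvd_of_pow_eq_one hgj)
  have hle : zpowers g ≤ normalizer ((P : Subgroup X) : Set X) := zpowers_le.2 (centralizer_le_normalizer _
    (mem_centralizer_iff.2 fun y hy => by
      have h := hfix y hy
      rw [hαg, MulAut.conj_apply, mul_inv_eq_iff_eq_mul] at h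
      exact h.symm))
  have h2 : IsPGroup 2 (zpowers g) := IsPGroup.of_card (n := k) (by rw [Nat.card_zpowers, hk])
  exact ⟨g, (P.is_maximal' (h2.to_sup_of_normal_right' P.isPGroup' hle) le_sup_right).le
    (mem_sup_left (mem_zpowers g)), hαg⟩

/-- The facts from those used for elementary abelian Sylow subgroups. -/
theorem abelian_facts [IsSimpleGroup X] (hna : ¬ IsMulCommutative X) (hab : Walter.AbTwo X) {P : Sylow 2 X}
    (hsq : ∀ x ∈ P, x * x = 1) (h4 : 4 ≤ Nat.card ↥(P : Subgroup X)) (hR : Walter.Rot (P : Subgroup X))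
    (hfree : (∀ x ∈ P, x ≠ 1 → centralizer ({x} : Set X) = (P : Subgroup X)) ∨
      Nat.card ↥(P : Subgroup X) = 4 ∨ Nat.card ↥(P : Subgroup X) = 8)
    (hbal : ¬ Small X → ∀ v ∈ P, v ≠ 1 →
      (∀ D : Subgroup X, Odd (Nat.card D) → D ≤ centralizer ({v} : Set X) →
        centralizer ({v} : Set X) ≤ normalizer (D : Set X) → D = ⊥) ∧
      ∀ e : MulAut X, Odd (orderOf e) → (∀ y, y * v = v * y → e y = y) → e = 1) :
    SimpleFacts P := by
  haveI : Fact (Nat.Prime 2) := ⟨Nat.prime_two⟩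
  have hI : ∀ {i : X}, Inv (P : Subgroup X) i ↔ i ∈ P := fun {i} => ⟨fun h => h.1, fun h => ⟨h, hsq i h⟩⟩
  refine
    { central := fun i hi x hx => hab P i hi.1 x hx
      sq := fun x hx => hI.2 (mul_mem hx hx)
      two := ?_
      norm := fun g hg => ZStarApps.mem_normalizer_of_maps fun x hx => (hg x (hI.2 hx)).1
      rot := ?_
      inner := fun α h2 hfix hd => ?_
      bal := fun hs v hv hv1 => hbal hs v hv.1 hv1
      kill := fun _ ⟨x, hx, hx1⟩ => absurd (hsq x hx) hx1 }
  · by_contra h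
    push Not at h
    haveI : Nontrivial ↥(P : Subgroup X) := Finite.one_lt_card_iff_nontrivial.1 (by omega)
    obtain ⟨⟨a, ha⟩, ha1⟩ := exists_ne (1 : ↥(P : Subgroup X))
    have := Nat.card_le_card_of_surjective (fun b : Bool => if b then (⟨a, ha⟩ : ↥(P : Subgroup X)) else 1) fun y => by
      by_cases hy : y = 1
      · exact ⟨false, by simp [hy]⟩
      · exact ⟨true, Subtype.ext (by
          simpa using h a y (hI.2 ha) (hI.2 y.2) (fun e => ha1 (Subtype.ext e)) (fun e => hy (Subtype.ext e)))⟩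
    rw [Nat.card_eq_fintype_card (α := Bool), Fintype.card_bool] at this
    omega
  · obtain ⟨r, hrN, hrodd, htr, hsemi, himg⟩ := rot_image hsq h4 hR hfree
    refine ⟨r, hrN, hrodd, fun i j hi hj => htr i hi.1 j hj.1,
      fun k i hi hi1 h j hj => hsemi k i hi.1 hi1 h j hj.1, fun g hg => ?_⟩
    rcases himg g hg with ⟨k, hk⟩ | ⟨h8, hk⟩
    · exact Or.inl ⟨k, fun i hi => hk i hi.1⟩
    · refine Or.inr ⟨?_, fun i hi => hk i hi.1⟩
      rw [← h8]
      exact Nat.card_congr (Equiv.subtypeEquivRight fun i => hI)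
  · have hord : ∃ j : ℕ, orderOf α = 2 ^ j := by
      obtain ⟨j, -, hj⟩ := (Nat.dvd_prime_pow Nat.prime_two).1
        (orderOf_dvd_of_pow_eq_one (show α ^ 2 ^ 1 = 1 by rw [pow_one, pow_two, h2]))
      exact ⟨j, hj⟩
    obtain ⟨v, hv, e⟩ := inner_of_fix hna hab (fun e => by rw [e, card_bot] at h4; omega) hord
      fun x hx => hfix x (hI.2 hx)
    exact ⟨v, hI.2 hv, e⟩

theorem small_top (h : GWFour.IsSmallSylowPSL X) :
    ∃ (F : Type) (_ : Field F) (_ : Fintype F), 5 ≤ Fintype.card F ∧ FourGW.Top F (⊤ : Subgroup X) :=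
  Walter.exists_top h

theorem small_klein {F : Type} [Field F] [Fintype F] (K : FourGW.Top F (⊤ : Subgroup X)) (hab : Walter.AbTwo X)
    (P : Sylow 2 X) : IsKleinFour ↥(P : Subgroup X) := by
  haveI : Fact (Nat.Prime 2) := ⟨Nat.prime_two⟩
  obtain ⟨f⟩ := K.iso
  let e := Subgroup.topEquiv.symm.trans f
  have hQ := Cfsg.Lib.AbCentMax.psl_sylow_klein K.odd_q (P.mapSurjective (f := e.toMonoidHom) e.surjective) (by
    rintro _ ⟨x, hx, rfl⟩ _ ⟨y, hy, rfl⟩
    rw [← map_mul, ← map_mul, hab P x hx y hy])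
  let e' := (P : Subgroup X).equivMapOfInjective e.toMonoidHom e.injective
  exact ⟨(Nat.card_congr e'.toEquiv).trans hQ.card_four, (Monoid.exponent_eq_of_mulEquiv e').trans hQ.exponent_two⟩

/-- `T = 1` exactly for the order 60. -/
theorem card_sixty {F : Type} [Field F] [Fintype F] (K : FourGW.Top F (⊤ : Subgroup X)) (h5 : 5 ≤ Fintype.card F) :
    Nat.card X = 60 ↔ FourGW.torT (Fintype.card F) = 1 := by
  have h := K.card_L
  rw [Subgroup.card_top] at h
  rw [h]
  obtain ⟨hT, hq⟩ := FourGW.torT_spec K.hq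
  obtain ⟨hQ, -⟩ := FourGW.spreadQ_spec K.hq
  refine ⟨fun h60 => ?_, fun h1 => ?_⟩
  · by_contra hne
    obtain ⟨j, hj⟩ := hT
    have h1 : 55 ≤ FourGW.spreadQ (Fintype.card F) := le_trans (Nat.mul_le_mul (by omega) (by omega) :
      11 * 5 ≤ _) hQ
    have := Nat.mul_le_mul (show 12 ≤ 4 * FourGW.torT (Fintype.card F) by omega) h1
    omega
  · have hq5 : Fintype.card F = 5 := by omega
    rw [hq5]
    rfl

theorem simpleFacts_of_typed [IsSimpleGroup X] (hna : ¬ IsMulCommutative X) (h : TypedX X) (P : Sylow 2 X) :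
    SimpleFacts P := by
  classical
  haveI : Fact (Nat.Prime 2) := ⟨Nat.prime_two⟩
  rcases h with hab | hH
  swap
  · exact bender_facts hna hH P
  rcases Walter.walterProp X hna hab with hb | hsm | hJ
  · obtain ⟨h4, hsq, hrot, hcent, haut⟩ := Walter.binary_facts hb P
    refine abelian_facts hna hab hsq h4 hrot (Or.inl hcent) fun _ v hv hv1 => ⟨fun D hD hDC _ => ?_,
      fun e he hfix => haut e he fun y hy => hfix y (hab P y hy v hv)⟩
    exact eq_bot_iff.2 fun x hx => mem_bot.2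
      (GenDihedral.eq_one_of_sq_of_odd (hsq x ((hcent v hv hv1).le (hDC hx))) (GenDihedral.orderOf_odd hD hx))
  · obtain ⟨F, iF, iFt, h5, K⟩ := small_top hsm
    haveI hK := small_klein K hab P
    have hsq : ∀ x ∈ P, x * x = 1 := fun x hx =>
      congrArg Subtype.val (GWFour.sq_of_klein (⟨x, hx⟩ : ↥(P : Subgroup X)))
    refine abelian_facts hna hab hsq hK.card_four.ge (Walter.rot_small K P) (Or.inr (Or.inl hK.card_four))
      fun hs v hv hv1 => ?_
    have h60 : Nat.card X = 60 := by by_contra h'; exact hs ⟨hsm, h'⟩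
    have hv2 : orderOf v = 2 := orderOf_eq_prime (by rw [pow_two, hsq v hv]) hv1
    refine ⟨fun D hD hDC _ => ?_, fun e he hfix => Walter.eq_one_of_fix_cent K hv2 e he hfix⟩
    have hcard := K.card_cent hv2
    rw [(card_sixty K h5).1 h60, index_top] at hcard
    refine Subgroup.eq_bot_of_card_eq _ (Nat.eq_one_of_dvd_coprimes (Nat.Coprime.pow_right 2
      (Nat.coprime_two_right.2 hD)) dvd_rfl ?_)
    have := Subgroup.card_dvd_of_le hDC
    rwa [hcard] at this
  · obtain ⟨h1, h2, h3⟩ := Walter.jr_facts hna hab hJ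
    obtain ⟨h8, hsq, hrot⟩ := h1 P
    refine abelian_facts hna hab hsq (by omega) hrot (Or.inr (Or.inr h8)) fun _ v hv hv1 => ?_
    have hv2 : orderOf v = 2 := orderOf_eq_prime (by rw [pow_two, hsq v hv]) hv1
    exact ⟨fun D hD hDC hn => eq_bot_iff.2 ((le_centralizerPPrimeCore (p := 2) hDC hn
      (Nat.coprime_two_right.2 hD)).trans_eq (h2 v hv2)), fun e he => h3 e v hv2 he⟩

theorem small_comm (h : Small X) : Walter.AbTwo X := by
  haveI : Fact (Nat.Prime 2) := ⟨Nat.prime_two⟩
  obtain ⟨F, iF, iFt, hq, -, ⟨e⟩⟩ := h.1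
  intro S x hx y hy
  haveI hK := Cfsg.Agent.S0276.result rfl hq (S.mapSurjective (f := e.toMonoidHom) e.surjective)
  have hm : ∀ {z}, z ∈ S → e z ∈ ((S.mapSurjective (f := e.toMonoidHom) e.surjective : Sylow 2 _) : Subgroup _) :=
    fun {z} hz => ⟨z, hz, rfl⟩
  refine e.injective ?_
  rw [map_mul, map_mul]
  exact congrArg Subtype.val (GWFour.comm_of_klein
    (⟨e x, hm hx⟩ : ↥((S.mapSurjective (f := e.toMonoidHom) e.surjective : Sylow 2 _) : Subgroup _)) ⟨e y, hm hy⟩)

/-- `PSL(2, q)`, `q > 5`, is generated by the centralisers of the involutions of a four-group. -/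
theorem small_gen [IsSimpleGroup X] (h : Small X) (P : Sylow 2 X) :
    (⨆ v : {v : X // v ∈ P ∧ v ≠ 1}, centralizer ({(v : X)} : Set X)) = ⊤ := by
  classical
  haveI : Fact (Nat.Prime 2) := ⟨Nat.prime_two⟩
  obtain ⟨F, iF, iFt, h5, K⟩ := small_top h.1
  haveI hK := small_klein K (small_comm h) P
  have hsq : ∀ x ∈ P, x * x = 1 := fun x hx =>
    congrArg Subtype.val (GWFour.sq_of_klein (⟨x, hx⟩ : ↥(P : Subgroup X)))
  have hcomm : ∀ x ∈ P, ∀ y ∈ P, x * y = y * x := small_comm h P
  haveI : Nontrivial ↥(P : Subgroup X) := Finite.one_lt_card_iff_nontrivial.1 (by rw [hK.card_four]; norm_num)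
  obtain ⟨⟨v, hv⟩, hv1⟩ := exists_ne (1 : ↥(P : Subgroup X))
  have hv1' : v ≠ 1 := fun e => hv1 (Subtype.ext e)
  obtain ⟨u, hu, hu1, huv⟩ : ∃ u ∈ P, u ≠ 1 ∧ u ≠ v := by
    by_contra hcon
    push Not at hcon
    have := Nat.card_le_card_of_surjective (fun b : Bool => if b then (⟨v, hv⟩ : ↥(P : Subgroup X)) else 1) fun y => by
      by_cases hy : y = 1
      · exact ⟨false, by simp [hy]⟩
      · exact ⟨true, Subtype.ext (by simpa using (hcon y y.2 fun e => hy (Subtype.ext e)).symm)⟩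
    rw [Nat.card_eq_fintype_card (α := Bool), Fintype.card_bool, hK.card_four] at this
    omega
  have hv2 : orderOf v = 2 := orderOf_eq_prime (by rw [pow_two, hsq v hv]) hv1'
  have hu2 : orderOf u = 2 := orderOf_eq_prime (by rw [pow_two, hsq u hu]) hu1
  have F4 : GenDihedral.IsFour v u (v * u) := GenDihedral.isFour_of_comm hv2 hu2 (hcomm v hv u hu) (Ne.symm huv)
  have F4' : GenDihedral.IsFour v (v * u) (v * (v * u)) :=
    GenDihedral.isFour_of_comm hv2 F4.s2 (hcomm v hv _ (mul_mem hv hu))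
      fun e => hu1 (left_eq_mul.1 e)
  -- elements centralising two of the involutions lie in `P`
  have hP : ∀ {a b : X}, GenDihedral.IsFour a b (a * b) → a ∈ P → b ∈ P → ∀ y, y * a = a * y → y * b = b * y →
      y ∈ P := by
    intro a b hab ha hb y hya hyb
    have hle : (P : Subgroup X) ≤ centralizer ({a} : Set X) ⊓ centralizer ({b} : Set X) := fun z hz =>
      ⟨mem_centralizer_singleton_iff.2 (hcomm z hz a ha), mem_centralizer_singleton_iff.2 (hcomm z hz b hb)⟩
    exact (Subgroup.eq_of_le_of_card_ge hle (by rw [Walter.card_four K hab, hK.card_four])).ge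
      ⟨mem_centralizer_singleton_iff.2 hya, mem_centralizer_singleton_iff.2 hyb⟩
  set H := ⨆ v : {v : X // v ∈ P ∧ v ≠ 1}, centralizer ({(v : X)} : Set X)
  have hmemH : ∀ a ∈ P, a ≠ 1 → centralizer ({a} : Set X) ≤ H := fun a ha ha1 =>
    le_iSup (fun v : {v : X // v ∈ P ∧ v ≠ 1} => centralizer ({(v : X)} : Set X)) ⟨a, ha, ha1⟩
  -- a rotation normalises `H`
  have hnorm : ∀ {a b l : X}, GenDihedral.IsFour a b (a * b) → a ∈ P → b ∈ P → l * a * l⁻¹ = b →
      (l * b * l⁻¹ = a ∨ l * b * l⁻¹ = a * b) → l ∈ normalizer (H : Set X) := by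
    intro a b l hab ha hb hla hlb
    have hlP : l ∈ normalizer ((P : Subgroup X) : Set X) := ZStarApps.mem_normalizer_of_maps fun x hx => by
      have h1 : (l * x * l⁻¹) * b = b * (l * x * l⁻¹) := by
        rw [← hla, _root_.conj_mul, _root_.conj_mul, hcomm x hx a ha]
      have h2 : (l * x * l⁻¹) * (l * b * l⁻¹) = (l * b * l⁻¹) * (l * x * l⁻¹) := by
        rw [_root_.conj_mul, _root_.conj_mul, hcomm x hx b hb]
      refine hP hab ha hb _ ?_ h1
      rcases hlb with e | e <;> rw [e] at h2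
      · exact h2
      · have h3 := (show Commute (l * x * l⁻¹) (a * b) from h2).mul_right (show Commute (l * x * l⁻¹) b from h1)
        rwa [mul_assoc a b b, hsq b hb, mul_one] at h3
    refine ZStarApps.mem_normalizer_of_maps fun y hy => ?_
    suffices H ≤ H.comap (MulAut.conj l).toMonoidHom from this hy
    refine iSup_le fun w z hz => ?_
    refine hmemH (l * w * l⁻¹) ((mem_normalizer_iff.1 hlP w).1 w.2.1) (fun e => w.2.2 (conj_eq_one_iff.1 e)) ?_
    refine mem_centralizer_singleton_iff.2 ?_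
    show l * z * l⁻¹ * (l * (w : X) * l⁻¹) = l * (w : X) * l⁻¹ * (l * z * l⁻¹)
    rw [_root_.conj_mul, _root_.conj_mul, mem_centralizer_singleton_iff.1 hz]
  obtain ⟨l, -, hlv, hlu⟩ := K.exists_rot_L F4
  obtain ⟨l', -, hlv', hlu'⟩ := K.exists_rot_L F4'
  have hl := hnorm F4 hv hu hlv hlu
  have hl' := hnorm F4' hv (mul_mem hv hu) hlv' hlu'
  set M := H ⊔ zpowers l ⊔ zpowers l'
  have hMn : M ≤ normalizer (H : Set X) := sup_le (sup_le le_normalizer (zpowers_le.2 hl)) (zpowers_le.2 hl')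
  have hvH : v ∈ H := hmemH v hv hv1' (mem_centralizer_singleton_iff.2 rfl)
  by_cases hM : M = ⊤
  · have hHn : H.Normal := normalizer_eq_top_iff.1 (top_le_iff.1 (hM ▸ hMn))
    exact (IsSimpleGroup.eq_bot_or_eq_top_of_normal H hHn).resolve_left fun e => hv1' (mem_bot.1 (e ▸ hvH))
  exfalso
  have hk := Walter.count K F4 (H := M) ((hmemH v hv hv1').trans (le_sup_left.trans le_sup_left))
    (mem_sup_left (mem_sup_right (mem_zpowers l))) (mem_sup_right (mem_zpowers l')) hlv hlv'
  have hQ := relIndex_mul_index (H := centralizer ({v} : Set X))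
    ((hmemH v hv hv1').trans (le_sup_left.trans le_sup_left) : centralizer ({v} : Set X) ≤ M)
  rw [K.index_cent hv2] at hQ
  obtain ⟨hT, hq⟩ := FourGW.torT_spec K.hq
  obtain ⟨hQl, -⟩ := FourGW.spreadQ_spec K.hq
  have hT3 : 3 ≤ FourGW.torT (Fintype.card F) := by
    have : FourGW.torT (Fintype.card F) ≠ 1 := fun e => h.2 ((card_sixty K h5).2 e)
    obtain ⟨j, hj⟩ := hT
    omega
  have hQu : FourGW.spreadQ (Fintype.card F) ≤
      (4 * FourGW.torT (Fintype.card F) + 1) * (2 * FourGW.torT (Fintype.card F) + 1) := by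
    unfold FourGW.spreadQ
    obtain ⟨hm, hq'⟩ | ⟨hm, hq'⟩ := hq <;> split_ifs <;> exact Nat.mul_le_mul (by omega) (by omega)
  have hj : 5 ≤ M.index := by
    have hcore : M.normalCore = ⊥ := (IsSimpleGroup.eq_bot_or_eq_top_of_normal M.normalCore inferInstance).resolve_right
      fun e => hM (top_le_iff.1 (e ▸ normalCore_le M))
    rw [normalCore_eq_ker, MonoidHom.ker_eq_bot_iff] at hcore
    have hle := Nat.card_le_card_of_injective _ hcore
    rw [Nat.card_perm, ← index_eq_card] at hle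
    by_contra hlt
    have h24 := le_trans hle (Nat.factorial_le (show M.index ≤ 4 by omega))
    have hL := K.card_L
    rw [Subgroup.card_top] at hL
    have hbig : 55 ≤ FourGW.spreadQ (Fintype.card F) :=
      le_trans (Nat.mul_le_mul (by omega) (by omega) : 11 * 5 ≤ _) hQl
    have := Nat.mul_le_mul (show 12 ≤ 4 * FourGW.torT (Fintype.card F) by omega) hbig
    rw [← hL] at this
    norm_num [Nat.factorial] at h24
    omega
  have := Nat.mul_le_mul hk hj
  rw [hQ] at this
  nlinarith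

end Cfsg.Lib.Goldschmidt
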